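import Mathlib
import Cfsg.Agent.Lib.Helper5.SLnOut2
import Cfsg.Agent.Lib.Helper5.SLnAutMain3

set_option autoImplicit false

/-! Tools relating matrices of determinant one, linear equivalences and the projective special
linear group. -/

namespace Cfsg.Agent.Lib.Helper5.LBal

open Matrix Matrix.SpecialLinearGroup Cfsg.Agent.Lib.Helper5.SLnAut

section Tools
variable {ι : Type*} [Fintype ι] [DecidableEq ι] {F : Type*} [Field F]

/-- in characteristic `r`, an element of `r`-power... of order dividing `r` in the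
multiplicative group of the field is trivial -/
theorem eq_one_of_pow_char (r : ℕ) [Fact r.Prime] [CharP F r] {z : F} (hz : z ^ r = 1) : z = 1 := by
  have h1 : (z - 1) ^ r = 0 := by
    rw [sub_pow_char, hz, one_pow, sub_self]
  exact sub_eq_zero.1 (pow_eq_zero_iff (Nat.Prime.ne_zero Fact.out) |>.1 h1)

/-- a linear equivalence of order dividing the characteristic has determinant one -/
theorem det_eq_one_of_pow_char (r : ℕ) [Fact r.Prime] [CharP F r]
    (g : (ι → F) ≃ₗ[F] (ι → F)) (hg : g ^ r = 1) :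
    LinearMap.det (g : (ι → F) →ₗ[F] (ι → F)) = 1 := by
  apply eq_one_of_pow_char r
  have h1 : LinearEquiv.det g ^ r = 1 := by rw [← map_pow, hg, map_one]
  have h2 := congrArg (fun u : Fˣ => (u : F)) h1
  simp only [Units.val_pow_eq_pow_val, Units.val_one, LinearEquiv.coe_det] at h2
  exact h2

/-- the matrix of determinant one of a linear equivalence of determinant one -/
noncomputable def ofLinSL (g : (ι → F) ≃ₗ[F] (ι → F))
    (hg : LinearMap.det (g : (ι → F) →ₗ[F] (ι → F)) = 1) : SpecialLinearGroup ι F :=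
  ⟨LinearMap.toMatrix' (g : (ι → F) →ₗ[F] (ι → F)), by rw [LinearMap.det_toMatrix']; exact hg⟩

theorem toLin'_ofLinSL (g : (ι → F) ≃ₗ[F] (ι → F))
    (hg : LinearMap.det (g : (ι → F) →ₗ[F] (ι → F)) = 1) :
    Matrix.SpecialLinearGroup.toLin' (ofLinSL g hg) = g := by
  apply LinearEquiv.toLinearMap_injective
  rw [toLin'_to_linearMap]
  show Matrix.toLin' (LinearMap.toMatrix' (g : (ι → F) →ₗ[F] (ι → F))) = _
  rw [Matrix.toLin'_toMatrix']

theorem toLin'_apply_mulVec (s : SpecialLinearGroup ι F) (v : ι → F) :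
    Matrix.SpecialLinearGroup.toLin' s v = (s : Matrix ι ι F) *ᵥ v := by
  rw [Matrix.SpecialLinearGroup.toLin'_apply, Matrix.toLin'_apply]

/-- two elements of order dividing the characteristic with the same image in the projective
group are equal -/
theorem eq_of_piN_eq_of_pow_char (r : ℕ) [Fact r.Prime] [CharP F r]
    (a l : SpecialLinearGroup ι F) (h : piN a = piN l) (ha : a ^ r = 1) (hl : l ^ r = 1) :
    a = l := by
  rw [piN_eq_iff] at h
  obtain ⟨t, ht⟩ : ∃ t : SpecialLinearGroup ι F, t = a⁻¹ * l := ⟨_, rfl⟩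
  rw [← ht] at h
  obtain ⟨ζ, -, hζ⟩ := (Matrix.SpecialLinearGroup.mem_center_iff).1 h
  have hal : a * t = l := by rw [ht]; group
  have hc : Commute a t := Subgroup.mem_center_iff.1 h a
  have hz : t ^ r = 1 := by
    have h1 : (a * t) ^ r = 1 := by rw [hal, hl]
    rw [hc.mul_pow, ha, one_mul] at h1
    exact h1
  have h4 : (t : Matrix ι ι F) ^ r = 1 := by
    rw [← Matrix.SpecialLinearGroup.coe_pow, hz, Matrix.SpecialLinearGroup.coe_one]
  rw [← hζ] at h4
  have h5 : (Matrix.scalar ι ζ) ^ r = Matrix.scalar ι (ζ ^ r) := by rw [map_pow]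
  rw [h5] at h4
  rcases isEmpty_or_nonempty ι with hι | ⟨⟨i⟩⟩
  · apply Subtype.ext
    ext i
    exact (hι.false i).elim
  have h6 := congrFun (congrFun h4 i) i
  rw [Matrix.scalar_apply, Matrix.diagonal_apply_eq, Matrix.one_apply_eq] at h6
  have hζ1 : ζ = 1 := eq_one_of_pow_char r h6
  rw [hζ1, map_one] at hζ
  have h7 : t = 1 := by
    apply Subtype.ext
    rw [Matrix.SpecialLinearGroup.coe_one]
    exact hζ.symm
  rw [← hal, h7, mul_one]

/-- the projective special linear group has trivial centre -/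
theorem conj_injective_PSL [Nontrivial ι] :
    Function.Injective (MulAut.conj : ProjectiveSpecialLinearGroup ι F →* _) := by
  rw [injective_iff_map_eq_one]
  intro k hk
  obtain ⟨s, rfl⟩ := piN_surjective k
  rw [Cfsg.Agent.Lib.Helper5.SLnBN.conj_piN_eq_semi, ← semi_one_one] at hk
  obtain ⟨-, z, hz0, hz⟩ := semi_eq_semi _ _ _ _ hk
  rw [piN_eq_one_iff, Matrix.SpecialLinearGroup.mem_center_iff]
  have h1 : (s : Matrix ι ι F) = z • 1 := by
    rw [Units.val_one] at hz
    exact hz
  refine ⟨z, ?_, ?_⟩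
  · have h2 := s.2
    rw [h1, Matrix.det_smul, Matrix.det_one, mul_one] at h2
    exact h2
  · rw [h1]
    ext i j
    simp [Matrix.scalar_apply, Matrix.diagonal_apply, Matrix.one_apply]

end Tools

end Cfsg.Agent.Lib.Helper5.LBal
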