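import Mathlib
import Cfsg.Agent.Lib.Helper5.SLnOut3
import Cfsg.Agent.Lib.Helper5.SLnAutPred
import Cfsg.Agent.Lib.Helper5.GraphInv
import Cfsg.Agent.Lib.Helper5.PSLCoset4
import Cfsg.Agent.Lib.Helper5.LBal.SLTools

set_option autoImplicit false

/-! The shape of an automorphism of prime order of `PSL_n(F)`. -/

namespace Cfsg.Agent.Lib.Helper5.LBal

open Matrix Cfsg.Agent.Lib.Helper5.SLnAut Cfsg.Agent.Lib.Helper5.SLnBN
  Cfsg.Agent.Lib.Helper5.GraphInv Cfsg.Agent.Lib.Helper5.PSLCoset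

section Classify
variable {n : ℕ} {F : Type*} [Field F]

theorem std_pow (g : GL (Fin n) F) (σ : F ≃+* F) (ε : ZMod 2) (k : ℕ) :
    ∃ g' : GL (Fin n) F, (std g σ ε) ^ k = std g' (σ ^ k) (k • ε) := by
  induction k with
  | zero =>
    refine ⟨1, ?_⟩
    rw [pow_zero, pow_zero, zero_smul]
    unfold std
    rw [tauPow_zero, mul_one, semi_one_one]
  | succ k ih =>
    obtain ⟨g₁, hg₁⟩ := ih
    obtain ⟨g₂, hg₂⟩ := std_mul_std g₁ g (σ ^ k) σ (k • ε) ε
    refine ⟨g₂, ?_⟩
    rw [pow_succ, hg₁, hg₂, pow_succ, succ_nsmul]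

/-- an automorphism of prime order involving the inverse transpose has order two, and its field
automorphism squares to the identity -/
theorem graph_like_order (hn : 3 ≤ n) (g : GL (Fin n) F) (σ : F ≃+* F) {p : ℕ} (hp : p.Prime)
    (h : orderOf (semi g σ * tauBar) = p) : p = 2 ∧ σ * σ = 1 := by
  have h1 : (std g σ 1) ^ p = 1 := by
    unfold std
    rw [tauPow_one, ← h]
    exact pow_orderOf_eq_one _
  obtain ⟨g', hg'⟩ := std_pow g σ 1 p
  have h3 : (1 : MulAut (ProjectiveSpecialLinearGroup (Fin n) F)) = std 1 1 0 := by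
    unfold std
    rw [tauPow_zero, mul_one, semi_one_one]
  rw [hg', h3] at h1
  obtain ⟨h4, h5⟩ := std_eq_std hn _ _ _ _ _ _ h1
  rw [nsmul_one] at h5
  have h6 : 2 ∣ p := (ZMod.natCast_eq_zero_iff p 2).1 h5
  have hp2 : p = 2 := ((Nat.prime_dvd_prime_iff_eq Nat.prime_two hp).1 h6).symm
  refine ⟨hp2, ?_⟩
  rw [hp2, pow_two] at h4
  exact h4

/-- a matrix proportional to its transpose is symmetric or skew-symmetric -/
theorem symm_or_skew (c : GL (Fin n) F) (z : F)
    (hc : (c : Matrix (Fin n) (Fin n) F) = z • (c : Matrix (Fin n) (Fin n) F)ᵀ) :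
    (c : Matrix (Fin n) (Fin n) F)ᵀ = (c : Matrix (Fin n) (Fin n) F) ∨
      (c : Matrix (Fin n) (Fin n) F)ᵀ = -(c : Matrix (Fin n) (Fin n) F) := by
  rcases Nat.eq_zero_or_pos n with hn0 | hn0
  · subst hn0
    left
    ext i j
    exact i.elim0
  haveI : Nonempty (Fin n) := ⟨⟨0, hn0⟩⟩
  have h1 : (c : Matrix (Fin n) (Fin n) F)ᵀ = z • (c : Matrix (Fin n) (Fin n) F) := by
    conv_lhs => rw [hc]
    rw [Matrix.transpose_smul, Matrix.transpose_transpose]
  have h3 : (c : Matrix (Fin n) (Fin n) F) = (z * z) • (c : Matrix (Fin n) (Fin n) F) := by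
    conv_lhs => rw [hc, h1]
    rw [smul_smul]
  obtain ⟨k, l, hkl⟩ : ∃ k l, (c : Matrix (Fin n) (Fin n) F) k l ≠ 0 := by
    by_contra hcon
    push Not at hcon
    have h0 : (c : Matrix (Fin n) (Fin n) F) = 0 := by
      ext k l
      exact hcon k l
    have hdet := (Matrix.isUnit_iff_isUnit_det _).1 c.isUnit
    rw [h0, Matrix.det_zero] at hdet
    exact not_isUnit_zero hdet
  have h4 := congrFun (congrFun h3 k) l
  rw [Matrix.smul_apply, smul_eq_mul] at h4
  have h5 : (z * z - 1) * (c : Matrix (Fin n) (Fin n) F) k l = 0 := by linear_combination -h4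
  have h6 : (z - 1) * (z + 1) = 0 := by
    have := (mul_eq_zero.1 h5).resolve_right hkl
    linear_combination this
  rcases mul_eq_zero.1 h6 with h | h
  · left
    rw [h1, sub_eq_zero.1 h, one_smul]
  · right
    rw [h1, eq_neg_of_add_eq_zero_left h, neg_smul, one_smul]

end Classify

end Cfsg.Agent.Lib.Helper5.LBal
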