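import Mathlib
import Cfsg.Agent.Lib.Helper5.PSpBal1

set_option autoImplicit false

/-! The abstract principle behind the triviality of the `p'`-core of the centralizer of an
automorphism in an almost simple group. -/

namespace Cfsg.Agent.Lib.Helper5.LBal

open Cfsg.Agent.Lib.Helper5.PSpBal

section Core
variable {K : Type*} [Group K]

/-- Let `L` be a set of fixed points of `x`.  If no nontrivial subgroup of fixed points of order
prime to `p` is normalized by `L`, and no nontrivial automorphism of order prime to `p` commuting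
with `x` fixes `L` pointwise, then the centralizer of `x` has trivial `p'`-core. -/
theorem no_core_abstract [Finite K] (hc : Function.Injective (MulAut.conj : K →* MulAut K))
    (p : ℕ) (A : Subgroup (MulAut K)) (hinn : ∀ k : K, MulAut.conj k ∈ A) (x : MulAut K)
    (L : Set K) (hLfix : ∀ l ∈ L, x l = l)
    (hA : ∀ D : Subgroup K, (∀ d ∈ D, x d = d) → (Nat.card D).Coprime p →
      (∀ l ∈ L, ∀ d ∈ D, l * d * l⁻¹ ∈ D) → D = ⊥)
    (hB : ∀ ν : MulAut K, ν * x = x * ν → (∀ l ∈ L, ν l = l) → (orderOf ν).Coprime p → ν = 1)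
    (N : Subgroup (MulAut K)) (hN : HasCore p A x N) : False := by
  classical
  obtain ⟨hnb, hle, hnorm, hcop⟩ := hN
  set Kx := MonoidHom.eqLocus x.toMonoidHom (MonoidHom.id K) with hKx
  have hmemK : ∀ k : K, k ∈ Kx ↔ x k = k := fun k => Iff.rfl
  have hconjH : ∀ k ∈ Kx, MulAut.conj k ∈ A ⊓ Subgroup.centralizer ({x} : Set (MulAut K)) :=
    fun k hk => ⟨hinn k, (conj_mem_centralizer_iff hc _ k).2 hk⟩
  set D : Subgroup K := N.comap (MulAut.conj : K →* MulAut K) ⊓ Kx with hD
  have hDnorm : ∀ k ∈ Kx, ∀ y ∈ D, k * y * k⁻¹ ∈ D := by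
    rintro k hk y ⟨hy1, hy2⟩
    refine ⟨?_, Kx.mul_mem (Kx.mul_mem hk hy2) (Kx.inv_mem hk)⟩
    show MulAut.conj (k * y * k⁻¹) ∈ N
    rw [map_mul, map_mul, map_inv]
    exact hnorm _ (hconjH k hk) _ hy1
  have hDcop : (Nat.card ↥D).Coprime p := by
    have hmap : D.map (MulAut.conj : K →* MulAut K) ≤ N := by
      rintro _ ⟨y, hy, rfl⟩
      exact hy.1
    have h4 := Subgroup.card_dvd_of_le hmap
    rw [Nat.card_congr (Subgroup.equivMapOfInjective _ _ hc).symm.toEquiv] at h4
    exact Nat.Coprime.coprime_dvd_left h4 hcop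
  have hDbot : D = ⊥ :=
    hA D (fun d hd => (hmemK d).1 hd.2) hDcop
      (fun l hl d hd => hDnorm l ((hmemK l).2 (hLfix l hl)) d hd)
  have hNfix : ∀ n ∈ N, ∀ k ∈ Kx, n k = k := by
    intro n hn k hk
    have hnC : x * n = n * x := by
      have h0 : n ∈ Subgroup.centralizer ({x} : Set (MulAut K)) := (hle hn).2
      rw [Subgroup.mem_centralizer_iff] at h0
      exact h0 _ rfl
    have hnk : n k ∈ Kx := by
      rw [hmemK]
      have h1 := congrArg (fun θ : MulAut K => θ k) hnC
      simp only [MulAut.mul_apply] at h1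
      rw [(hmemK k).1 hk] at h1
      exact h1
    have h1 : n k * k⁻¹ ∈ D := by
      refine ⟨?_, Kx.mul_mem hnk (Kx.inv_mem hk)⟩
      show MulAut.conj (n k * k⁻¹) ∈ N
      have e : MulAut.conj (n k * k⁻¹) = n * (MulAut.conj k * n⁻¹ * (MulAut.conj k)⁻¹) := by
        rw [map_mul, map_inv, ← mul_assoc, ← mul_assoc, mul_conj_eq]
        group
      rw [e]
      exact N.mul_mem hn (hnorm _ (hconjH k hk) _ (N.inv_mem hn))
    rw [hDbot, Subgroup.mem_bot] at h1
    exact mul_inv_eq_one.1 h1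
  apply hnb
  rw [eq_bot_iff]
  intro n hn
  rw [Subgroup.mem_bot]
  have hnC : n * x = x * n := by
    have h0 : n ∈ Subgroup.centralizer ({x} : Set (MulAut K)) := (hle hn).2
    rw [Subgroup.mem_centralizer_iff] at h0
    exact (h0 _ rfl).symm
  apply hB n hnC (fun l hl => hNfix n hn l ((hmemK l).2 (hLfix l hl)))
  have h1 : orderOf (⟨n, hn⟩ : ↥N) ∣ Nat.card ↥N := orderOf_dvd_natCard _
  have h2 : orderOf (⟨n, hn⟩ : ↥N) = orderOf n := by
    rw [← Subgroup.orderOf_coe]
  rw [h2] at h1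
  exact Nat.Coprime.coprime_dvd_left h1 hcop

end Core

end Cfsg.Agent.Lib.Helper5.LBal
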