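import Mathlib
import Cfsg.Agent.S0249

set_option autoImplicit false

/-! A noncentral normal subgroup of the special linear group over a finite field has index a
power of the characteristic. -/

namespace Cfsg.Agent.Lib.Helper5.LBal

open Matrix Matrix.SpecialLinearGroup MulAction
open scoped LinearAlgebra.Projectivization Pointwise

section FieldA
variable {E : Type*} [Field E] {ι : Type*} [DecidableEq ι] [Fintype ι]

theorem lineStab_pow_char (r : ℕ) [CharP E r] {v : ι → E} (hv : v ≠ 0)
    {A : SpecialLinearGroup ι E} (hA : A ∈ lineStab (Submodule.span E {v})) : A ^ r = 1 := by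
  have hAv := lineStab_fix_of_span v hv A hA
  have hpowv : ∀ j : ℕ, (A ^ j) • v = v := by
    intro j
    induction j with
    | zero => rw [pow_zero, one_smul]
    | succ j ih => rw [pow_succ, mul_smul, hAv, ih]
  apply Subtype.ext
  rw [Matrix.ext_iff_smul]
  intro w
  obtain ⟨α, hα⟩ := Submodule.mem_span_singleton.1 (hA w)
  have hAw : A • w = w + α • v := by rw [hα]; abel
  have hpow : ∀ j : ℕ, (A ^ j) • w = w + ((j : E) * α) • v := by
    intro j
    induction j with
    | zero => rw [pow_zero, one_smul, Nat.cast_zero, zero_mul, zero_smul, add_zero]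
    | succ j ih =>
      rw [pow_succ, mul_smul, hAw, smul_add, ih, smul_comm, hpowv, Nat.cast_succ]
      module
  show (A ^ r) • w = (1 : SpecialLinearGroup ι E) • w
  rw [hpow, CharP.cast_eq_zero, zero_mul, zero_smul, add_zero, one_smul]

theorem isPGroup_lineStab [Nontrivial ι] (r : ℕ) [Fact r.Prime] [CharP E r] (a : ℙ E (ι → E)) :
    IsPGroup r (lineStab (F := E) (ι := ι) a.submodule) := by
  intro g
  refine ⟨1, ?_⟩
  rw [pow_one]
  apply Subtype.ext
  rw [Subgroup.coe_pow, Subgroup.coe_one]
  have hsub : a.submodule = Submodule.span E {a.rep} := by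
    conv_lhs => rw [← Projectivization.mk_rep a]
    rw [Projectivization.submodule_mk]
  have hg : (g : SpecialLinearGroup ι E) ∈ lineStab (Submodule.span E {a.rep}) := by
    rw [← hsub]
    exact g.2
  exact lineStab_pow_char r a.rep_nonzero hg

set_option maxHeartbeats 800000 in
theorem index_dvd_pow_of_normal [Nontrivial ι] [Finite E] (r : ℕ) [Fact r.Prime] [CharP E r]
    (N : Subgroup (SpecialLinearGroup ι E)) [hN : N.Normal]
    (hNZ : ¬ N ≤ Subgroup.center (SpecialLinearGroup ι E)) : ∃ k : ℕ, N.index ∣ r ^ k := by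
  classical
  haveI : Fintype E := Fintype.ofFinite E
  have hNX : MulAction.fixedPoints N (ℙ E (ι → E)) ≠ Set.univ := by
    intro h
    apply hNZ
    intro m hm
    rw [← Projectivization.SL_mulAction_ker, MonoidHom.mem_ker]
    ext x
    have hx : x ∈ MulAction.fixedPoints N (ℙ E (ι → E)) := by rw [h]; trivial
    exact hx ⟨m, hm⟩
  have is_transN := IsQuasiPreprimitive.isPretransitive_of_normal hNX
  have ntα : Nontrivial (ℙ E (ι → E)) := nontrivial_of_fixedPoints_ne_univ hNX
  obtain a : ℙ E (ι → E) := Nontrivial.to_nonempty.some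
  have hsup : N ⊔ lineStab (F := E) (ι := ι) a.submodule = ⊤ := by
    rw [eq_top_iff, ← Cfsg.Agent.S0249.iSup_lineStab_eq_top', iSup_le_iff]
    intro x
    obtain ⟨g, rfl⟩ := MulAction.exists_smul_eq N a x
    rw [Subgroup.smul_def, PSL.smul_submodule, lineStab_smul]
    rintro _ ⟨k, hk, rfl⟩
    have hg' : ↑g ∈ N ⊔ lineStab (F := E) (ι := ι) a.submodule :=
      Subgroup.mem_sup_left (Subtype.mem g)
    have hk' : k ∈ N ⊔ lineStab (F := E) (ι := ι) a.submodule := Subgroup.mem_sup_right hk
    exact (N ⊔ lineStab a.submodule).mul_mem ((N ⊔ lineStab a.submodule).mul_mem hg' hk')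
      ((N ⊔ lineStab a.submodule).inv_mem hg')
  have h1 : N.index = N.relIndex (lineStab (F := E) (ι := ι) a.submodule) := by
    rw [← Subgroup.relIndex_top_right, ← hsup, sup_comm, Subgroup.relIndex_sup_right]
  haveI : Finite (SpecialLinearGroup ι E) := by
    apply Finite.of_injective (fun s : SpecialLinearGroup ι E => (s : Matrix ι ι E))
    exact Subtype.val_injective
  obtain ⟨k, hk⟩ := (IsPGroup.iff_card (p := r)).1 (isPGroup_lineStab (E := E) (ι := ι) r a)
  refine ⟨k, ?_⟩
  rw [h1, ← hk]
  exact Subgroup.relIndex_dvd_card N _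

end FieldA

end Cfsg.Agent.Lib.Helper5.LBal
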