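import Mathlib
import Cfsg.Agent.Lib.Helper5.LBal.FieldA
import Cfsg.Agent.Lib.Helper5.LBal.SLTools
import Cfsg.Agent.Lib.Helper5.PSpField2

set_option autoImplicit false

/-! The special linear group over the fixed field of a field automorphism inside the projective
special linear group. -/

namespace Cfsg.Agent.Lib.Helper5.LBal

open Matrix Cfsg.Agent.Lib.Helper5.SLnAut Cfsg.Agent.Lib.Helper5.PSpField

section FieldB
variable {n : ℕ} {F : Type*} [Field F]

/-- the matrices of determinant one fixed by a field automorphism -/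
def fixSL (σ : F ≃+* F) : Subgroup (SpecialLinearGroup (Fin n) F) :=
  MonoidHom.eqLocus (fieldAut σ : MulAut (SpecialLinearGroup (Fin n) F)).toMonoidHom
    (MonoidHom.id _)

theorem mem_fixSL (σ : F ≃+* F) (s : SpecialLinearGroup (Fin n) F) :
    s ∈ fixSL σ ↔ fieldAut σ s = s := Iff.rfl

/-- the image of the fixed matrices in the projective group -/
noncomputable def P0L (σ : F ≃+* F) : Subgroup (ProjectiveSpecialLinearGroup (Fin n) F) :=
  (fixSL σ).map piN

theorem piN_mem_P0L (σ : F ≃+* F) {s : SpecialLinearGroup (Fin n) F} (hs : s ∈ fixSL σ) :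
    piN s ∈ P0L σ := ⟨s, hs, rfl⟩

/-- the special linear group over a subfield -/
def embSL (E : Subfield F) :
    SpecialLinearGroup (Fin n) ↥E →* SpecialLinearGroup (Fin n) F :=
  Matrix.SpecialLinearGroup.map E.subtype

theorem embSL_coe (E : Subfield F) (A : SpecialLinearGroup (Fin n) ↥E) :
    ((embSL E A : SpecialLinearGroup (Fin n) F) : Matrix (Fin n) (Fin n) F)
      = (A : Matrix (Fin n) (Fin n) ↥E).map E.subtype := rfl

theorem range_embSL (σ : F ≃+* F) (E : Subfield F) (hE : ∀ a, a ∈ E ↔ σ a = a) :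
    (embSL (n := n) E).range = fixSL σ := by
  apply le_antisymm
  · rintro _ ⟨A, rfl⟩
    rw [mem_fixSL]
    apply Subtype.ext
    rw [fieldAut_coe, embSL_coe]
    exact map_subtype_fixed σ E (fun a ha => (hE a).1 ha) A.1
  · intro s hs
    rw [mem_fixSL] at hs
    have hs' : (s : Matrix (Fin n) (Fin n) F).map σ = s := by
      rw [← fieldAut_coe, hs]
    obtain ⟨N, hN⟩ := exists_map_fixed σ E (fun a ha => (hE a).2 ha) s.1 hs'
    have hdet : N.det = 1 := by
      apply E.subtype_injective
      rw [RingHom.map_det, map_one]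
      have : E.subtype.mapMatrix N = N.map E.subtype := rfl
      rw [this, hN]
      exact s.2
    exact ⟨⟨N, hdet⟩, Subtype.ext hN⟩

/-- the projection of the special linear group over the fixed field -/
noncomputable def phiL (E : Subfield F) :
    SpecialLinearGroup (Fin n) ↥E →* ProjectiveSpecialLinearGroup (Fin n) F :=
  (piN (ι := Fin n) (F := F)).comp (embSL E)

theorem range_phiL (σ : F ≃+* F) (E : Subfield F) (hE : ∀ a, a ∈ E ↔ σ a = a) :
    (phiL (n := n) E).range = P0L σ := by
  unfold phiL P0L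
  rw [MonoidHom.range_comp, range_embSL σ E hE]

set_option maxHeartbeats 800000 in
/-- a nontrivial subgroup of `P0L` normalized by `P0L` has index a power of the
characteristic -/
theorem relIndex_dvd_pow_of_normal [Finite F] (hn : 2 ≤ n) (r : ℕ) [Fact r.Prime] [CharP F r]
    (σ : F ≃+* F) (E : Subfield F)
    (hE : ∀ a, a ∈ E ↔ σ a = a) (D : Subgroup (ProjectiveSpecialLinearGroup (Fin n) F))
    (hD : D ≤ P0L σ)
    (hnorm : ∀ k ∈ P0L (n := n) σ, ∀ y ∈ D, k * y * k⁻¹ ∈ D) (hnb : D ≠ ⊥) :
    ∃ k : ℕ, D.relIndex (P0L σ) ∣ r ^ k := by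
  classical
  haveI : Nontrivial (Fin n) := Fin.nontrivial_iff_two_le.2 hn
  set N := D.comap (phiL (n := n) E) with hNdef
  have hN : N.Normal := by
    refine ⟨fun m hm g => ?_⟩
    show phiL E (g * m * g⁻¹) ∈ D
    rw [map_mul, map_mul, map_inv]
    apply hnorm _ _ _ hm
    rw [← range_phiL σ E hE]
    exact ⟨g, rfl⟩
  have hNZ : ¬ N ≤ Subgroup.center (SpecialLinearGroup (Fin n) ↥E) := by
    intro hle
    apply hnb
    rw [eq_bot_iff]
    intro y hy
    have hyP := hD hy
    rw [← range_phiL σ E hE] at hyP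
    obtain ⟨a, rfl⟩ := hyP
    have ha : a ∈ N := hy
    obtain ⟨z, hz1, hz⟩ := (Matrix.SpecialLinearGroup.mem_center_iff).1 (hle ha)
    rw [Subgroup.mem_bot]
    show piN (embSL E a) = 1
    rw [piN_eq_one_iff, Matrix.SpecialLinearGroup.mem_center_iff]
    refine ⟨(z : F), ?_, ?_⟩
    · have := congrArg (fun t : ↥E => (t : F)) hz1
      simpa using this
    · rw [embSL_coe, ← hz]
      ext i j
      simp only [Matrix.scalar_apply, Matrix.diagonal_apply, Matrix.map_apply]
      split_ifs <;> simp
  obtain ⟨k, hk⟩ := index_dvd_pow_of_normal (ι := Fin n) r N hNZ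
  refine ⟨k, ?_⟩
  have h2 : N.index = D.relIndex (P0L σ) := by
    rw [← Subgroup.relIndex_top_right, hNdef, Subgroup.relIndex_comap, ← MonoidHom.range_eq_map,
      range_phiL σ E hE]
  rw [← h2]
  exact hk

end FieldB

end Cfsg.Agent.Lib.Helper5.LBal
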