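import Mathlib
import Cfsg.Agent.Lib.Helper5.LBal.FieldB
import Cfsg.Agent.Lib.Helper5.PSpBal6

set_option autoImplicit false

/-! The image of the fixed matrices in the group of fixed points of a field automorphism: it is a
normal subgroup, and it contains elements of prime order in two explicit cases. -/

namespace Cfsg.Agent.Lib.Helper5.LBal

open Matrix Cfsg.Agent.Lib.Helper5.SLnAut Cfsg.Agent.Lib.Helper5.PSpField
  Cfsg.Agent.Lib.Helper5.PSpBal

section FieldC
variable {n : ℕ} {F : Type*} [Field F]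

theorem P0L_le_fix (σ : F ≃+* F) :
    P0L (n := n) σ ≤ MonoidHom.eqLocus
      (semi (1 : GL (Fin n) F) σ : MulAut (ProjectiveSpecialLinearGroup (Fin n) F)).toMonoidHom
      (MonoidHom.id _) := by
  rintro _ ⟨s, hs, rfl⟩
  show semi (1 : GL (Fin n) F) σ (piN s) = piN s
  rw [semi_pi, (mem_fixSL σ s).1 hs, map_one]
  rfl

theorem P0L_conj_mem (σ : F ≃+* F) {k y : ProjectiveSpecialLinearGroup (Fin n) F}
    (hk : semi (1 : GL (Fin n) F) σ k = k) (hy : y ∈ P0L (n := n) σ) :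
    k * y * k⁻¹ ∈ P0L (n := n) σ := by
  obtain ⟨s, rfl⟩ := piN_surjective k
  obtain ⟨t, ht, rfl⟩ := hy
  rw [semi_pi, map_one, MulAut.one_apply, piN_eq_iff] at hk
  have ht : fieldAut σ t = t := (mem_fixSL σ t).1 ht
  refine ⟨s * t * s⁻¹, ?_, by rw [map_mul, map_mul, map_inv]⟩
  show fieldAut σ (s * t * s⁻¹) = s * t * s⁻¹
  rw [map_mul, map_mul, map_inv, ht]
  obtain ⟨z, hz⟩ : ∃ z, z = (fieldAut σ s)⁻¹ * s := ⟨_, rfl⟩
  rw [← hz] at hk
  have h1 : s = fieldAut σ s * z := by rw [hz]; group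
  have hzc : ∀ g : SpecialLinearGroup (Fin n) F, g * z = z * g :=
    fun g => Subgroup.mem_center_iff.1 hk g
  have h3 : fieldAut σ s * t * (fieldAut σ s)⁻¹ = s * t * s⁻¹ := by
    conv_rhs => rw [h1]
    rw [_root_.mul_inv_rev, mul_assoc (fieldAut σ s) z t, ← hzc t]
    group
  exact h3

theorem dvd_card_P0L_of_elt [Finite F] (σ : F ≃+* F) (p : ℕ) [Fact p.Prime]
    (s : SpecialLinearGroup (Fin n) F) (hs : s ∈ fixSL σ) (hpow : piN s ^ p = 1)
    (hne : piN s ≠ 1) : p ∣ Nat.card ↥(P0L (n := n) σ) := by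
  have hord : orderOf (piN s) = p := orderOf_eq_prime hpow hne
  have h4 : orderOf (⟨_, piN_mem_P0L σ hs⟩ : ↥(P0L (n := n) σ)) = p := by
    rw [← hord]
    exact Subgroup.orderOf_mk _ (piN_mem_P0L σ hs)
  rw [← h4]
  exact orderOf_dvd_natCard _

/-- the diagonal matrix with entries `a`, `a⁻¹`, `1`, ..., `1` -/
noncomputable def diagV (i0 i1 : Fin n) (a : F) : Fin n → F :=
  fun i => (if i = i0 then a else 1) * (if i = i1 then a⁻¹ else 1)

theorem prod_diagV {i0 i1 : Fin n} {a : F} (ha : a ≠ 0) : ∏ i, diagV i0 i1 a i = 1 := by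
  unfold diagV
  rw [Finset.prod_mul_distrib, Finset.prod_ite_eq', Finset.prod_ite_eq', if_pos (Finset.mem_univ _),
    if_pos (Finset.mem_univ _), mul_inv_cancel₀ ha]

noncomputable def diagSL (i0 i1 : Fin n) (a : F) (ha : a ≠ 0) : SpecialLinearGroup (Fin n) F :=
  ⟨Matrix.diagonal (diagV i0 i1 a), by rw [Matrix.det_diagonal, prod_diagV ha]⟩

theorem diagV_same0 {i0 i1 : Fin n} (h01 : i0 ≠ i1) (a : F) : diagV i0 i1 a i0 = a := by
  unfold diagV
  rw [if_pos rfl, if_neg h01, mul_one]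

theorem diagV_same1 {i0 i1 : Fin n} (h01 : i0 ≠ i1) (a : F) : diagV i0 i1 a i1 = a⁻¹ := by
  unfold diagV
  rw [if_neg h01.symm, if_pos rfl, one_mul]

theorem diagV_other {i0 i1 i2 : Fin n} (h02 : i2 ≠ i0) (h12 : i2 ≠ i1) (a : F) :
    diagV i0 i1 a i2 = 1 := by
  unfold diagV
  rw [if_neg h02, if_neg h12, mul_one]

theorem diagV_pow {i0 i1 : Fin n} {a : F} {p : ℕ} (hap : a ^ p = 1) (i : Fin n) :
    diagV i0 i1 a i ^ p = 1 := by
  unfold diagV
  rw [mul_pow]
  split_ifs <;> simp [hap]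

theorem diagV_fix {i0 i1 : Fin n} {a : F} (σ : F ≃+* F) (ha : σ a = a) (i : Fin n) :
    σ (diagV i0 i1 a i) = diagV i0 i1 a i := by
  unfold diagV
  rw [map_mul]
  split_ifs <;> simp [ha]

set_option maxHeartbeats 800000 in
/-- the case where `p` divides the order of the multiplicative group of the fixed field -/
theorem dvd_card_P0L_diag [Finite F] (hn : 2 ≤ n) (σ : F ≃+* F) (p : ℕ) [Fact p.Prime]
    (hcase : p ≠ 2 ∨ 3 ≤ n) {a : F} (ha1 : a ≠ 1) (hap : a ^ p = 1) (hσa : σ a = a) :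
    p ∣ Nat.card ↥(P0L (n := n) σ) := by
  have hp : p.Prime := Fact.out
  have ha0 : a ≠ 0 := by
    intro h
    rw [h, zero_pow hp.ne_zero] at hap
    exact zero_ne_one hap
  obtain ⟨i0, hi0⟩ : ∃ i0 : Fin n, i0 = ⟨0, by omega⟩ := ⟨_, rfl⟩
  obtain ⟨i1, hi1⟩ : ∃ i1 : Fin n, i1 = ⟨1, by omega⟩ := ⟨_, rfl⟩
  have h01 : i0 ≠ i1 := by rw [hi0, hi1]; simp
  apply dvd_card_P0L_of_elt σ p (diagSL i0 i1 a ha0)
  · rw [mem_fixSL]
    apply Subtype.ext
    rw [fieldAut_coe]
    show (Matrix.diagonal (diagV i0 i1 a)).map σ = Matrix.diagonal (diagV i0 i1 a)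
    ext i j
    rw [Matrix.map_apply, Matrix.diagonal_apply]
    by_cases hij : i = j
    · rw [if_pos hij, diagV_fix σ hσa]
    · rw [if_neg hij, map_zero]
  · rw [← map_pow]
    have : diagSL i0 i1 a ha0 ^ p = 1 := by
      apply Subtype.ext
      rw [Matrix.SpecialLinearGroup.coe_pow, Matrix.SpecialLinearGroup.coe_one]
      show (Matrix.diagonal (diagV i0 i1 a)) ^ p = 1
      rw [Matrix.diagonal_pow, ← Matrix.diagonal_one]
      congr 1
      ext i
      exact diagV_pow hap i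
    rw [this, map_one]
  · intro h1
    rw [piN_eq_one_iff, Matrix.SpecialLinearGroup.mem_center_iff] at h1
    obtain ⟨z, -, hz⟩ := h1
    have hd : ∀ i, z = diagV i0 i1 a i := by
      intro i
      have := congrFun (congrFun hz i) i
      rw [Matrix.scalar_apply, Matrix.diagonal_apply_eq] at this
      rw [this]
      show Matrix.diagonal (diagV i0 i1 a) i i = _
      rw [Matrix.diagonal_apply_eq]
    have hz0 := hd i0
    have hz1 := hd i1
    rw [diagV_same0 h01] at hz0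
    rw [diagV_same1 h01] at hz1
    rcases hcase with hp2 | hn3
    · -- `a = a⁻¹` and `p` odd
      have hsq : a ^ 2 = 1 := by
        rw [pow_two]
        nth_rewrite 2 [← hz0]
        rw [hz1, mul_inv_cancel₀ ha0]
      have hodd : Odd p := hp.odd_of_ne_two hp2
      obtain ⟨m, hm⟩ := hodd
      rw [hm, pow_succ, pow_mul, hsq, one_pow, one_mul] at hap
      exact ha1 hap
    · obtain ⟨i2, hi2⟩ : ∃ i2 : Fin n, i2 = ⟨2, by omega⟩ := ⟨_, rfl⟩
      have h20 : i2 ≠ i0 := by rw [hi0, hi2]; simp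
      have h21 : i2 ≠ i1 := by rw [hi1, hi2]; simp
      have hz2 := hd i2
      rw [diagV_other h20 h21] at hz2
      rw [hz2] at hz0
      exact ha1 hz0.symm

end FieldC

end Cfsg.Agent.Lib.Helper5.LBal
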