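import Mathlib
import Cfsg.Agent.Lib.Helper5.LBal.FieldC
import Cfsg.Agent.Lib.Helper5.PSLCoset15
import Cfsg.Agent.Lib.Helper5.PSpBal1

set_option autoImplicit false

/-! If `p` divides the number of fixed points of a field automorphism of order `p`, then it
divides the order of the image of the fixed matrices. -/

namespace Cfsg.Agent.Lib.Helper5.LBal

open Matrix Cfsg.Agent.Lib.Helper5.SLnAut Cfsg.Agent.Lib.Helper5.SLnBN
  Cfsg.Agent.Lib.Helper5.PSpField Cfsg.Agent.Lib.Helper5.PSpBal Cfsg.Agent.Lib.Helper5.PSLCoset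

section FieldD
variable {F : Type*} [Field F]

/-- the case of degree two and `p = 2` -/
theorem dvd_card_P0L_two [Finite F] (h2 : (2 : F) ≠ 0) (σ : F ≃+* F) :
    2 ∣ Nat.card ↥(P0L (n := 2) σ) := by
  haveI : Fact (Nat.Prime 2) := ⟨Nat.prime_two⟩
  obtain ⟨w, hw⟩ : ∃ w : SpecialLinearGroup (Fin 2) F,
      (w : Matrix (Fin 2) (Fin 2) F) = !![0, 1; -1, 0] :=
    ⟨⟨!![0, 1; -1, 0], by simp [Matrix.det_fin_two_of]⟩, rfl⟩
  apply dvd_card_P0L_of_elt σ 2 w
  · rw [mem_fixSL]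
    apply Subtype.ext
    rw [fieldAut_coe, hw]
    ext i j
    fin_cases i <;> fin_cases j <;> simp
  · rw [← map_pow, piN_eq_one_iff, Matrix.SpecialLinearGroup.mem_center_iff]
    refine ⟨-1, by simp, ?_⟩
    rw [Matrix.SpecialLinearGroup.coe_pow, hw, pow_two]
    ext i j
    fin_cases i <;> fin_cases j <;> simp [Matrix.mul_apply, Fin.sum_univ_two]
  · intro h1
    rw [piN_eq_one_iff, Matrix.SpecialLinearGroup.mem_center_iff] at h1
    obtain ⟨z, -, hz⟩ := h1
    have := congrFun (congrFun hz 0) 1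
    rw [hw] at this
    simp at this

end FieldD

section FieldD2
variable {n : ℕ} {F : Type*} [Field F] [Fintype F]

set_option maxHeartbeats 1600000 in
/-- the case where `p` is prime to the exponent of the multiplicative group of the fixed
field -/
theorem dvd_card_P0L_pow (hn : 2 ≤ n) (σ : F ≃+* F) (p : ℕ) [Fact p.Prime]
    (hσ : orderOf σ = p) (m : ℕ) (hm : ∀ δ : F, δ ≠ 0 → σ δ = δ → δ ^ m = 1)
    (hcop : Nat.Coprime m p)
    (hdvd : p ∣ Nat.card ↥(MonoidHom.eqLocus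
      (semi (1 : GL (Fin n) F) σ : MulAut (ProjectiveSpecialLinearGroup (Fin n) F)).toMonoidHom
      (MonoidHom.id _))) :
    p ∣ Nat.card ↥(P0L (n := n) σ) := by
  classical
  haveI : Nontrivial (Fin n) := Fin.nontrivial_iff_two_le.2 hn
  have hp : p.Prime := Fact.out
  haveI : Finite (ProjectiveSpecialLinearGroup (Fin n) F) := finite_PSL
  obtain ⟨k, hk⟩ := exists_prime_orderOf_dvd_card' p hdvd
  have hkfix : semi (1 : GL (Fin n) F) σ (k : ProjectiveSpecialLinearGroup (Fin n) F) = k := k.2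
  have hkord : orderOf (k : ProjectiveSpecialLinearGroup (Fin n) F) = p := by
    rw [← hk]
    exact Subgroup.orderOf_coe k
  obtain ⟨s, hs⟩ := piN_surjective (k : ProjectiveSpecialLinearGroup (Fin n) F)
  rw [← hs] at hkfix hkord
  -- `s` is a scalar multiple of a fixed matrix
  have hc : Matrix.SpecialLinearGroup.toGL s
      ∈ commSub (semiHom n F) (semi (1 : GL (Fin n) F) σ) := by
    rw [mem_commSub, semiHom_apply, ← conj_piN_eq_semi, mul_conj_eq, hkfix]
  obtain ⟨b, hb0, c', hsc, hc'⟩ := exists_fixed_smul hn σ p hσ hp.pos _ hc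
  rw [Matrix.SpecialLinearGroup.coe_GL_coe_matrix] at hsc
  -- the determinant of `c'`
  obtain ⟨δ, hδ⟩ : ∃ δ, δ = (c' : Matrix (Fin n) (Fin n) F).det := ⟨_, rfl⟩
  have hδ0 : δ ≠ 0 := by
    rw [hδ]
    exact (Matrix.isUnit_iff_isUnit_det _).1 c'.isUnit |>.ne_zero
  have hδσ : σ δ = δ := by
    rw [hδ]
    have h1 : σ ((c' : Matrix (Fin n) (Fin n) F).det)
        = ((σ : F →+* F).mapMatrix (c' : Matrix (Fin n) (Fin n) F)).det :=
      RingHom.map_det (σ : F →+* F) _
    rw [h1]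
    congr 1
  have hδm : δ ^ m = 1 := hm δ hδ0 hδσ
  have hdet1 : b ^ n * δ = 1 := by
    have h1 := s.2
    rw [hsc, Matrix.det_smul, Fintype.card_fin, ← hδ] at h1
    exact h1
  -- the matrix `c' ^ m`
  have hdetm : ((c' : Matrix (Fin n) (Fin n) F) ^ m).det = 1 := by
    rw [Matrix.det_pow, ← hδ, hδm]
  obtain ⟨t, ht⟩ : ∃ t : SpecialLinearGroup (Fin n) F,
      (t : Matrix (Fin n) (Fin n) F) = (c' : Matrix (Fin n) (Fin n) F) ^ m := ⟨⟨_, hdetm⟩, rfl⟩
  have htfix : t ∈ fixSL σ := by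
    rw [mem_fixSL]
    apply Subtype.ext
    rw [fieldAut_coe, ht]
    have h1 : ((c' : Matrix (Fin n) (Fin n) F) ^ m).map σ
        = ((c' : Matrix (Fin n) (Fin n) F).map σ) ^ m := by
      have := map_pow (σ : F →+* F).mapMatrix (c' : Matrix (Fin n) (Fin n) F) m
      exact this
    rw [h1, hc']
  -- `s ^ m` and `t` have the same image
  have hsm : piN (s ^ m) = piN t := by
    rw [piN_eq_iff, Matrix.SpecialLinearGroup.mem_center_iff]
    refine ⟨(b ^ m)⁻¹, ?_, ?_⟩
    · rw [Fintype.card_fin, inv_pow, ← pow_mul, mul_comm, pow_mul, inv_eq_one]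
      have h1 : b ^ n = δ⁻¹ := eq_inv_of_mul_eq_one_left hdet1
      rw [h1, inv_pow, hδm, inv_one]
    · have h1 : ((s ^ m : SpecialLinearGroup (Fin n) F) : Matrix (Fin n) (Fin n) F)
          = b ^ m • (t : Matrix (Fin n) (Fin n) F) := by
        rw [Matrix.SpecialLinearGroup.coe_pow, hsc, smul_pow, ht]
      have hbm0 : b ^ m ≠ 0 := pow_ne_zero _ hb0
      have h3 : ((s ^ m : SpecialLinearGroup (Fin n) F) : Matrix (Fin n) (Fin n) F)
          * (Matrix.scalar (Fin n) (b ^ m)⁻¹) = (t : Matrix (Fin n) (Fin n) F) := by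
        rw [h1, Matrix.scalar_apply, ← Matrix.smul_eq_mul_diagonal, smul_smul,
          inv_mul_cancel₀ hbm0, one_smul]
      rw [Matrix.SpecialLinearGroup.coe_mul, ← h3, ← Matrix.mul_assoc, coe_inv_mul_coe,
        Matrix.one_mul]
  have hmem : piN s ^ m ∈ P0L (n := n) σ := by
    rw [← map_pow, hsm]
    exact piN_mem_P0L σ htfix
  have hcop' : Nat.Coprime m (orderOf (piN s)) := by rw [hkord]; exact hcop
  obtain ⟨j, hj⟩ := exists_pow_eq_self_of_coprime hcop'
  have hmem' : piN s ∈ P0L (n := n) σ := by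
    rw [← hj]
    exact (P0L σ).pow_mem hmem j
  have h4 : orderOf (⟨_, hmem'⟩ : ↥(P0L (n := n) σ)) = p := by
    rw [← hkord]
    exact Subgroup.orderOf_mk _ hmem'
  rw [← h4]
  exact orderOf_dvd_natCard _

end FieldD2

end Cfsg.Agent.Lib.Helper5.LBal
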