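import Mathlib
import Cfsg.Agent.Lib.Helper5.LBal.FieldD

set_option autoImplicit false

/-! If `p` divides the number of fixed points of a field automorphism of order `p`, then it
divides the order of the image of the fixed matrices: the general statement. -/

namespace Cfsg.Agent.Lib.Helper5.LBal

open Matrix Cfsg.Agent.Lib.Helper5.SLnAut Cfsg.Agent.Lib.Helper5.SLnBN
  Cfsg.Agent.Lib.Helper5.PSpField Cfsg.Agent.Lib.Helper5.PSpBal Cfsg.Agent.Lib.Helper5.PSLCoset

section FieldE
variable {n : ℕ} {F : Type*} [Field F] [Fintype F]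

set_option maxHeartbeats 800000 in
theorem dvd_card_P0L (hn : 2 ≤ n) (r : ℕ) [Fact r.Prime] [CharP F r] (σ : F ≃+* F) (p : ℕ)
    [Fact p.Prime] (hpr : p ≠ r) (hσ : orderOf σ = p)
    (hdvd : p ∣ Nat.card ↥(MonoidHom.eqLocus
      (semi (1 : GL (Fin n) F) σ : MulAut (ProjectiveSpecialLinearGroup (Fin n) F)).toMonoidHom
      (MonoidHom.id _))) :
    p ∣ Nat.card ↥(P0L (n := n) σ) := by
  classical
  have hp : p.Prime := Fact.out
  set E := fixF σ with hE
  haveI : Fintype ↥E := Fintype.ofFinite ↥E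
  obtain ⟨m, hmdef⟩ : ∃ m, m = Fintype.card ↥E - 1 := ⟨_, rfl⟩
  have hm : ∀ δ : F, δ ≠ 0 → σ δ = δ → δ ^ m = 1 := by
    intro δ hδ0 hδσ
    have h1 : (⟨δ, hδσ⟩ : ↥E) ≠ 0 := by
      intro h
      exact hδ0 (congrArg Subtype.val h)
    have h3 := FiniteField.pow_card_sub_one_eq_one (⟨δ, hδσ⟩ : ↥E) h1
    have h4 := congrArg (fun t : ↥E => (t : F)) h3
    rw [hmdef]
    simpa using h4
  by_cases hpm : p ∣ m
  · -- an element of order `p` in the fixed field
    have hcard : Nat.card (↥E)ˣ = m := by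
      rw [Nat.card_eq_fintype_card, Fintype.card_units, hmdef]
    rw [← hcard] at hpm
    obtain ⟨a', ha'⟩ := exists_prime_orderOf_dvd_card' p hpm
    obtain ⟨a, ha⟩ : ∃ a : F, a = ((a' : ↥E) : F) := ⟨_, rfl⟩
    have hσa : σ a = a := by rw [ha]; exact (a' : ↥E).2
    have hap : a ^ p = 1 := by
      have h1 : a' ^ p = 1 := by rw [← ha']; exact pow_orderOf_eq_one a'
      have h3 := congrArg (fun t : (↥E)ˣ => ((t : ↥E) : F)) h1
      rw [ha]
      simpa using h3
    have ha1 : a ≠ 1 := by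
      intro h
      have h1 : a' = 1 := by
        apply Units.ext
        apply Subtype.ext
        rw [← ha, h]
        rfl
      rw [h1, orderOf_one] at ha'
      exact hp.one_lt.ne ha'
    by_cases hcase : p ≠ 2 ∨ 3 ≤ n
    · exact dvd_card_P0L_diag hn σ p hcase ha1 hap hσa
    · push Not at hcase
      obtain ⟨hp2, hn3⟩ := hcase
      have hn2 : n = 2 := by omega
      subst hn2
      rw [hp2]
      apply dvd_card_P0L_two (two_ne_zero_of_char r _) σ
      rw [← hp2]
      exact Ne.symm hpr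
  · have hcop : Nat.Coprime m p := ((Nat.Prime.coprime_iff_not_dvd hp).2 hpm).symm
    exact dvd_card_P0L_pow hn σ p hσ m hm hcop hdvd

end FieldE

end Cfsg.Agent.Lib.Helper5.LBal
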