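import Mathlib
import Cfsg.Agent.Lib.Helper5.SLnOut2
import Cfsg.Agent.Lib.Helper5.LBal.SLTools

set_option autoImplicit false

/-! Automorphisms of semilinear type fixing, or inverting and transposing, the images of the
elementary transvections with entries in a subset of the field. -/

namespace Cfsg.Agent.Lib.Helper5.LBal

open Matrix Matrix.SpecialLinearGroup Cfsg.Agent.Lib.Helper5.SLnAut

section FieldF
variable {ι : Type*} [Fintype ι] [DecidableEq ι] {F : Type*} [Field F]

set_option maxHeartbeats 800000 in
/-- an automorphism of semilinear type fixing the images of the elementary transvections with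
entries in a set containing `1` is induced by a scalar matrix and a field automorphism fixing the
set -/
theorem semi_fix_transvections [Nontrivial ι] (g : GL ι F) (σ : F ≃+* F) (S : Set F)
    (h1S : (1 : F) ∈ S)
    (he : ∀ (a b : ι) (hab : a ≠ b) (t : F), t ∈ S →
      semi g σ (piN (transvection hab t)) = piN (transvection hab t)) :
    (∀ t ∈ S, σ t = t) ∧ ∃ z : F, z ≠ 0 ∧ (g : Matrix ι ι F) = z • (1 : Matrix ι ι F) := by
  have key : ∀ {a b : ι} (hab : a ≠ b) (t : F), t ∈ S →
      (g : Matrix ι ι F) * Matrix.single a b (σ t)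
        = Matrix.single a b t * (g : Matrix ι ι F) := by
    intro a b hab t ht
    have h1 := he a b hab t ht
    rw [semi_pi, fieldAut_transvection'] at h1
    have h3 := glConj_transvection_eq_of_piN_eq g hab hab _ _ h1
    have h4 := glConj_mul_eq g (transvection hab (σ t))
    rw [h3, transvection_coe, transvection_coe, Matrix.add_mul, Matrix.mul_add, Matrix.one_mul,
      Matrix.mul_one] at h4
    exact (add_left_cancel h4).symm
  -- off-diagonal entries vanish
  have hoff : ∀ k a : ι, k ≠ a → (g : Matrix ι ι F) k a = 0 := by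
    intro k a hka
    obtain ⟨b, hb⟩ := exists_ne a
    have h1 := congrFun (congrFun (key hb.symm 1 h1S) k) b
    rw [Matrix.mul_single_apply_same, Matrix.single_mul_apply_of_ne _ _ _ _ _ hka, map_one,
      mul_one] at h1
    exact h1
  have hdiag : ∀ a b : ι, a ≠ b → ∀ t ∈ S,
      (g : Matrix ι ι F) a a * σ t = t * (g : Matrix ι ι F) b b := by
    intro a b hab t ht
    have h1 := congrFun (congrFun (key hab t ht) a) b
    rw [Matrix.mul_single_apply_same, Matrix.single_mul_apply_same] at h1
    exact h1
  obtain ⟨a₀⟩ : Nonempty ι := inferInstance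
  obtain ⟨z, hz⟩ : ∃ z : F, z = (g : Matrix ι ι F) a₀ a₀ := ⟨_, rfl⟩
  have hzall : ∀ a : ι, (g : Matrix ι ι F) a a = z := by
    intro a
    by_cases ha : a = a₀
    · rw [ha, hz]
    · have := hdiag a a₀ ha 1 h1S
      rw [map_one, mul_one, one_mul] at this
      rw [this, hz]
  have hgz : (g : Matrix ι ι F) = z • (1 : Matrix ι ι F) := by
    ext k l
    rw [Matrix.smul_apply, Matrix.one_apply, smul_eq_mul]
    by_cases hkl : k = l
    · rw [hkl, hzall, if_pos rfl, mul_one]
    · rw [hoff k l hkl, if_neg hkl, mul_zero]
  have hz0 : z ≠ 0 := by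
    intro h0
    rw [h0, zero_smul] at hgz
    have h1 : (g : Matrix ι ι F) * ((g⁻¹ : GL ι F) : Matrix ι ι F) = 1 := by
      rw [← Units.val_mul, mul_inv_cancel, Units.val_one]
    rw [hgz, Matrix.zero_mul] at h1
    have := congrFun (congrFun h1 a₀) a₀
    rw [Matrix.zero_apply, Matrix.one_apply_eq] at this
    exact zero_ne_one this
  refine ⟨?_, z, hz0, hgz⟩
  intro t ht
  obtain ⟨b, hb⟩ := exists_ne a₀
  have := hdiag a₀ b hb.symm t ht
  rw [hzall, hzall, mul_comm t] at this
  exact mul_left_cancel₀ hz0 this

end FieldF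

section FieldF2
variable {n : ℕ} {F : Type*} [Field F]

/-- for `n ≥ 3` no automorphism of semilinear type agrees with the inverse transpose on the
images of the elementary transvections -/
theorem not_semi_eq_tauBar_on_transvections (hn : 3 ≤ n) (g : GL (Fin n) F) (σ : F ≃+* F)
    (he : ∀ (a b : Fin n) (hab : a ≠ b),
      semi g σ (piN (transvection hab 1)) = tauBar (piN (transvection hab (1 : F)))) :
    False := by
  have key : ∀ {a b : Fin n} (hab : a ≠ b),
      (g : Matrix (Fin n) (Fin n) F) * Matrix.single a b (1 : F)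
        = Matrix.single b a (-1 : F) * (g : Matrix (Fin n) (Fin n) F) := by
    intro a b hab
    have h1 := he a b hab
    rw [semi_pi, tauBar_pi, fieldAut_transvection', tauAut_transvection', map_one] at h1
    have h3 := glConj_transvection_eq_of_piN_eq g hab hab.symm _ _ h1
    have h4 := glConj_mul_eq g (transvection hab (1 : F))
    rw [h3, transvection_coe, transvection_coe, Matrix.add_mul, Matrix.mul_add, Matrix.one_mul,
      Matrix.mul_one] at h4
    exact (add_left_cancel h4).symm
  have hzero : ∀ k a : Fin n, (g : Matrix (Fin n) (Fin n) F) k a = 0 := by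
    intro k a
    obtain ⟨b, hbk, hba⟩ := Cfsg.Agent.Lib.Helper1.exists_third hn k a
    have h1 := congrFun (congrFun (key hba.symm) k) b
    rw [Matrix.mul_single_apply_same, Matrix.single_mul_apply_of_ne _ _ _ _ _ hbk.symm,
      mul_one] at h1
    exact h1
  have h1 : (g : Matrix (Fin n) (Fin n) F) * ((g⁻¹ : GL (Fin n) F) : Matrix (Fin n) (Fin n) F)
      = 1 := by
    rw [← Units.val_mul, mul_inv_cancel, Units.val_one]
  have hg0 : (g : Matrix (Fin n) (Fin n) F) = 0 := by
    ext k a
    exact hzero k a
  rw [hg0, Matrix.zero_mul] at h1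
  have := congrFun (congrFun h1 ⟨0, by omega⟩) ⟨0, by omega⟩
  rw [Matrix.zero_apply, Matrix.one_apply_eq] at this
  exact zero_ne_one this

end FieldF2

end Cfsg.Agent.Lib.Helper5.LBal
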