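import Mathlib

set_option autoImplicit false

/-! Lifting a subgroup of odd order through a homomorphism with central kernel. -/

namespace Cfsg.Agent.Lib.Helper5.LBal

section Lift

/-- a central subgroup of order prime to its index has a unique complement, consisting of the
elements of order dividing the index -/
theorem coprime_complement {G : Type*} [Group G] [Finite G] (Z : Subgroup G)
    (hZc : Z ≤ Subgroup.center G) (hcop : (Nat.card Z).Coprime Z.index) :
    ∃ H : Subgroup G, Nat.card H = Z.index ∧ (∀ s, s ∈ H ↔ s ^ Z.index = 1) ∧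
      ∀ s : G, ∃ z ∈ Z, ∃ h ∈ H, s = z * h := by
  classical
  haveI : Z.Normal := by
    refine ⟨fun z hz g => ?_⟩
    have := Subgroup.mem_center_iff.1 (hZc hz) g
    rw [this, mul_inv_cancel_right]
    exact hz
  obtain ⟨H, hH⟩ := Subgroup.exists_right_complement'_of_coprime hcop
  have hcard : Nat.card H = Z.index := hH.symm.index_eq_card.symm
  have hdec : ∀ s : G, ∃ z ∈ Z, ∃ h ∈ H, s = z * h := by
    intro s
    obtain ⟨⟨z, h⟩, hzh, -⟩ := (Subgroup.isComplement_iff_existsUnique.1 hH) s
    exact ⟨z.1, z.2, h.1, h.2, hzh.symm⟩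
  refine ⟨H, hcard, fun s => ⟨fun hs => ?_, fun hs => ?_⟩, hdec⟩
  · have := pow_card_eq_one' (G := ↥H) (x := ⟨s, hs⟩)
    rw [hcard] at this
    have h2 := congrArg Subtype.val this
    rw [Subgroup.coe_pow, Subgroup.coe_one] at h2
    exact h2
  · obtain ⟨z, hz, h, hh, rfl⟩ := hdec s
    have hcomm : Commute z h := (Subgroup.mem_center_iff.1 (hZc hz) h).symm
    have hh' : h ^ Z.index = 1 := by
      have := pow_card_eq_one' (G := ↥H) (x := ⟨h, hh⟩)
      rw [hcard] at this
      have h2 := congrArg Subtype.val this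
      rw [Subgroup.coe_pow, Subgroup.coe_one] at h2
      exact h2
    rw [hcomm.mul_pow, hh', mul_one] at hs
    have hz' : z ^ Nat.card Z = 1 := by
      have := pow_card_eq_one' (G := ↥Z) (x := ⟨z, hz⟩)
      have h2 := congrArg Subtype.val this
      rw [Subgroup.coe_pow, Subgroup.coe_one] at h2
      exact h2
    have h1 : orderOf z ∣ Nat.gcd (Nat.card Z) Z.index :=
      Nat.dvd_gcd (orderOf_dvd_of_pow_eq_one hz') (orderOf_dvd_of_pow_eq_one hs)
    rw [hcop.gcd_eq_one, Nat.dvd_one, orderOf_eq_one_iff] at h1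
    rw [h1, one_mul]
    exact hh

/-- lifting a subgroup of odd order through a homomorphism with central kernel -/
theorem exists_odd_lift' {G G' : Type*} [Group G] [Finite G] [Group G'] (π : G →* G')
    (hker : π.ker ≤ Subgroup.center G)
    (D : Subgroup G') (hD : D ≤ π.range) (hodd : Odd (Nat.card D)) :
    ∃ (H : Subgroup G) (M : ℕ), Odd (Nat.card H) ∧ H.map π = D ∧
      ∀ s, s ∈ H ↔ (π s ∈ D ∧ s ^ M = 1) := by
  classical
  haveI : Fact (Nat.Prime 2) := ⟨Nat.prime_two⟩
  set P : Subgroup G := D.comap π with hP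
  set Z : Subgroup ↥P := π.ker.subgroupOf P with hZ
  -- the restriction of `π` to `P`
  let πP : ↥P →* ↥D := (π.comp P.subtype).codRestrict D (fun s => s.2)
  have hπP : ∀ s : ↥P, ((πP s : ↥D) : G') = π (s : G) := fun s => rfl
  have hsurj : Function.Surjective πP := by
    intro d
    obtain ⟨s, hs⟩ := hD d.2
    refine ⟨⟨s, ?_⟩, ?_⟩
    · show π s ∈ D
      rw [hs]
      exact d.2
    · apply Subtype.ext
      rw [hπP]
      exact hs
  have hkerP : πP.ker = Z := by
    ext s
    rw [MonoidHom.mem_ker, hZ, Subgroup.mem_subgroupOf, MonoidHom.mem_ker]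
    constructor
    · intro h
      have := congrArg Subtype.val h
      rw [hπP, Subgroup.coe_one] at this
      exact this
    · intro h
      apply Subtype.ext
      rw [hπP, Subgroup.coe_one]
      exact h
  have hidx : Z.index = Nat.card D := by
    rw [← hkerP, Subgroup.index_ker, MonoidHom.range_eq_top.2 hsurj]
    exact Subgroup.card_top
  have hZc : Z ≤ Subgroup.center ↥P := by
    intro z hz
    rw [hZ, Subgroup.mem_subgroupOf] at hz
    rw [Subgroup.mem_center_iff]
    intro g
    apply Subtype.ext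
    rw [Subgroup.coe_mul, Subgroup.coe_mul]
    exact Subgroup.mem_center_iff.1 (hker hz) g
  -- the Sylow 2-subgroup of `Z`
  obtain ⟨S⟩ : Nonempty (Sylow 2 ↥Z) := inferInstance
  set T : Subgroup ↥P := (S : Subgroup ↥Z).map Z.subtype with hT
  have hTZ : T ≤ Z := by
    rintro _ ⟨z, -, rfl⟩
    exact z.2
  have hTc : T ≤ Subgroup.center ↥P := hTZ.trans hZc
  have hTcard : Nat.card T = Nat.card (S : Subgroup ↥Z) := by
    rw [hT, Subgroup.card_map_of_injective Z.subtype_injective]
  have hTidx : T.index = (S : Subgroup ↥Z).index * Nat.card D := by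
    have h1 : T.relIndex Z = (S : Subgroup ↥Z).index := by
      have h2 : T.subgroupOf Z = (S : Subgroup ↥Z) := by
        rw [hT]
        ext z
        rw [Subgroup.mem_subgroupOf]
        constructor
        · rintro ⟨z', hz', hzz'⟩
          have : z' = z := Subtype.ext hzz'
          rw [← this]
          exact hz'
        · intro hz
          exact ⟨z, hz, rfl⟩
      show (T.subgroupOf Z).index = _
      rw [h2]
    rw [← Subgroup.relIndex_mul_index hTZ, h1, hidx]
  have hSodd : Odd (S : Subgroup ↥Z).index := by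
    have h1 := S.not_dvd_index
    exact Nat.odd_iff.2 (Nat.two_dvd_ne_zero.1 h1)
  have hToddidx : Odd T.index := by
    rw [hTidx]
    exact hSodd.mul hodd
  have hcop : (Nat.card T).Coprime T.index := by
    rw [hTcard]
    obtain ⟨j, hj⟩ := IsPGroup.iff_card.1 S.isPGroup'
    rw [hj]
    exact Nat.Coprime.pow_left j (Nat.coprime_two_left.2 hToddidx)
  obtain ⟨H, hcard, hmem, hdec⟩ := coprime_complement T hTc hcop
  have hmem' : ∀ s, s ∈ H.map P.subtype ↔ (π s ∈ D ∧ s ^ T.index = 1) := by
    intro s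
    constructor
    · rintro ⟨t, ht, rfl⟩
      refine ⟨t.2, ?_⟩
      have := (hmem t).1 ht
      have h2 := congrArg Subtype.val this
      rw [Subgroup.coe_pow, Subgroup.coe_one] at h2
      exact h2
    · rintro ⟨h1, h2⟩
      refine ⟨⟨s, h1⟩, (hmem _).2 ?_, rfl⟩
      apply Subtype.ext
      rw [Subgroup.coe_pow, Subgroup.coe_one]
      exact h2
  refine ⟨H.map P.subtype, T.index, ?_, ?_, hmem'⟩
  · rw [Subgroup.card_map_of_injective P.subtype_injective, hcard]
    exact hToddidx
  · apply le_antisymm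
    · rintro _ ⟨s, hs, rfl⟩
      exact ((hmem' s).1 hs).1
    · intro d hd
      obtain ⟨s, hs⟩ := hD hd
      have hsP : s ∈ P := by
        show π s ∈ D
        rw [hs]
        exact hd
      obtain ⟨z, hz, h, hh, hzh⟩ := hdec ⟨s, hsP⟩
      refine ⟨(h : G), ⟨h, hh, rfl⟩, ?_⟩
      have hz' := hTZ hz
      rw [hZ, Subgroup.mem_subgroupOf, MonoidHom.mem_ker] at hz'
      have := congrArg (fun t : ↥P => π (t : G)) hzh
      simp only [Subgroup.coe_mul, map_mul] at this
      rw [hz', one_mul] at this
      rw [← this]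
      exact hs

/-- an element of a quotient by a central subgroup which is fixed by an involutory automorphism
and has odd order lifts to a fixed element -/
theorem fix_lift {G : Type*} [Group G] (θ : G ≃* G) (hθ : ∀ s, θ (θ s) = s)
    (s z : G) (hz : ∀ g : G, z * g = g * z) (hs : θ s = z * s) (m : ℕ) (hm : Odd m)
    (w : G) (hw : ∀ g : G, w * g = g * w) (hsm : s ^ m = w) :
    ∃ ζ : G, (∀ g : G, ζ * g = g * ζ) ∧ θ (ζ * s) = ζ * s := by
  obtain ⟨j, rfl⟩ := hm
  have hθz : θ z = z⁻¹ := by
    have h1 := hθ s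
    rw [hs, map_mul, hs] at h1
    have h2 : θ z * z = 1 := by
      have : θ z * z * s = 1 * s := by rw [one_mul, mul_assoc]; exact h1
      exact mul_right_cancel this
    exact eq_inv_of_mul_eq_one_left h2
  have hθw : θ w = z ^ (2 * j + 1) * w := by
    rw [← hsm, map_pow, hs]
    have hc : Commute z s := hz s
    rw [hc.mul_pow]
  have hzw : Commute z w := hz w
  refine ⟨w⁻¹ * (z ^ j)⁻¹, ?_, ?_⟩
  · intro g
    have h1 : Commute w g := hw g
    have h2 : Commute z g := hz g
    exact ((h1.inv_left).mul_left ((h2.pow_left j).inv_left)).eq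
  · rw [map_mul, map_mul, map_inv, map_inv, map_pow, hθw, hθz, hs]
    have e1 : (z ^ (2 * j + 1) * w)⁻¹ * ((z⁻¹) ^ j)⁻¹ * (z * s)
        = w⁻¹ * ((z ^ (2 * j + 1))⁻¹ * z ^ j * z) * s := by
      rw [mul_inv_rev, inv_pow, inv_inv]
      simp only [mul_assoc]
    have e2 : (z ^ (2 * j + 1))⁻¹ * z ^ j * z = (z ^ j)⁻¹ := by
      have : z ^ (2 * j + 1) = z ^ j * z ^ j * z := by
        rw [← pow_add, ← pow_succ]
        congr 1
        ring
      rw [this]
      group
    rw [e1, e2]

end Lift

end Cfsg.Agent.Lib.Helper5.LBal
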