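import Mathlib
import Cfsg.Agent.Lib.Helper5.LBal.Lift
import Cfsg.Agent.Lib.Helper5.SLnAut1

set_option autoImplicit false

/-! From groups of matrices to subgroups of the projective special linear group: a subgroup of
odd order of fixed points of an involutory automorphism lifts to a group of fixed matrices. -/

namespace Cfsg.Agent.Lib.Helper5.LBal

open Matrix Matrix.SpecialLinearGroup Cfsg.Agent.Lib.Helper5.SLnAut

section Pipe
variable {ι : Type*} [Fintype ι] [DecidableEq ι] {F : Type*} [Field F] [Finite F]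

theorem finite_SL : Finite (SpecialLinearGroup ι F) := by
  haveI : Finite (Matrix ι ι F) := by unfold Matrix; infer_instance
  exact Finite.of_injective (fun s : SpecialLinearGroup ι F => (s : Matrix ι ι F))
    Subtype.val_injective

theorem finite_PSL : Finite (ProjectiveSpecialLinearGroup ι F) := by
  haveI := finite_SL (ι := ι) (F := F)
  exact Finite.of_surjective _ (piN_surjective (ι := ι) (F := F))

set_option maxHeartbeats 800000 in
/-- the passage from matrices to the projective group -/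
theorem hA_of_nc (θ : MulAut (SpecialLinearGroup ι F)) (hθ : ∀ s, θ (θ s) = s)
    (Lt : Set (SpecialLinearGroup ι F)) (hLt : ∀ l ∈ Lt, θ l = l)
    (hnc : ∀ H : Subgroup (SpecialLinearGroup ι F), (∀ h ∈ H, θ h = h) → Odd (Nat.card H) →
      (∀ l ∈ Lt, ∀ h ∈ H, l * h * l⁻¹ ∈ H) → ∀ h ∈ H, piN h = 1)
    (D : Subgroup (ProjectiveSpecialLinearGroup ι F)) (hDfix : ∀ d ∈ D, quotAut θ d = d)
    (hDodd : (Nat.card D).Coprime 2)
    (hDnorm : ∀ l ∈ Lt, ∀ d ∈ D, piN l * d * (piN l)⁻¹ ∈ D) : D = ⊥ := by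
  classical
  haveI := finite_SL (ι := ι) (F := F)
  haveI := finite_PSL (ι := ι) (F := F)
  have hodd : Odd (Nat.card D) := Nat.coprime_two_right.1 hDodd
  set Gθ : Subgroup (SpecialLinearGroup ι F) :=
    MonoidHom.eqLocus θ.toMonoidHom (MonoidHom.id _) with hGθ
  have hmemG : ∀ s, s ∈ Gθ ↔ θ s = s := fun s => Iff.rfl
  set π' : ↥Gθ →* ProjectiveSpecialLinearGroup ι F := piN.comp Gθ.subtype with hπ'
  have hker : π'.ker ≤ Subgroup.center ↥Gθ := by
    intro z hz
    rw [MonoidHom.mem_ker] at hz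
    have hz' : piN (z : SpecialLinearGroup ι F) = 1 := hz
    rw [piN_eq_one_iff] at hz'
    rw [Subgroup.mem_center_iff]
    intro g
    apply Subtype.ext
    rw [Subgroup.coe_mul, Subgroup.coe_mul]
    exact Subgroup.mem_center_iff.1 hz' g
  have hrange : D ≤ π'.range := by
    intro d hd
    obtain ⟨s, rfl⟩ := piN_surjective d
    have h1 := hDfix _ hd
    rw [quotAut_pi, piN_eq_iff] at h1
    -- `θ s = z * s` with `z` central
    obtain ⟨z, hz⟩ : ∃ z, z = θ s * s⁻¹ := ⟨_, rfl⟩
    have hzc : z ∈ Subgroup.center (SpecialLinearGroup ι F) := by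
      have h2 : z = s * ((θ s)⁻¹ * s)⁻¹ * s⁻¹ := by rw [hz]; group
      rw [h2]
      exact (inferInstance : (Subgroup.center (SpecialLinearGroup ι F)).Normal).conj_mem _
        (Subgroup.inv_mem _ h1) s
    have hzs : θ s = z * s := by rw [hz]; group
    have hord : Odd (orderOf (piN s)) := by
      have h3 : orderOf (⟨piN s, hd⟩ : ↥D) ∣ Nat.card D := orderOf_dvd_natCard _
      rw [← Subgroup.orderOf_coe] at h3
      exact Odd.of_dvd_nat hodd h3
    have hwc : s ^ orderOf (piN s) ∈ Subgroup.center (SpecialLinearGroup ι F) := by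
      rw [← piN_eq_one_iff, map_pow, pow_orderOf_eq_one]
    obtain ⟨ζ, hζc, hζ⟩ := fix_lift θ hθ s z (fun g => (Subgroup.mem_center_iff.1 hzc g).symm) hzs
      (orderOf (piN s)) hord _ (fun g => (Subgroup.mem_center_iff.1 hwc g).symm) rfl
    refine ⟨⟨ζ * s, (hmemG _).2 hζ⟩, ?_⟩
    show piN (ζ * s) = piN s
    rw [map_mul]
    have : piN ζ = 1 := by
      rw [piN_eq_one_iff, Subgroup.mem_center_iff]
      intro g
      exact (hζc g).symm
    rw [this, one_mul]
  obtain ⟨H', M, hH'odd, hH'map, hH'mem⟩ := exists_odd_lift' π' hker D hrange hodd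
  have hall := hnc (H'.map Gθ.subtype)
    (by
      rintro _ ⟨h, -, rfl⟩
      exact (hmemG _).1 h.2)
    (by
      rw [Subgroup.card_map_of_injective Gθ.subtype_injective]
      exact hH'odd)
    (by
      rintro l hl _ ⟨h, hh, rfl⟩
      have hlG : l ∈ Gθ := (hmemG l).2 (hLt l hl)
      refine ⟨(⟨l, hlG⟩ : ↥Gθ) * h * (⟨l, hlG⟩ : ↥Gθ)⁻¹, ?_, rfl⟩
      obtain ⟨h1, h2⟩ := (hH'mem h).1 hh
      refine (hH'mem _).2 ⟨?_, ?_⟩
      · rw [map_mul, map_mul, map_inv]
        exact hDnorm l hl _ h1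
      · rw [conj_pow, h2, mul_one, mul_inv_cancel])
  rw [← hH'map, eq_bot_iff]
  rintro _ ⟨h, hh, rfl⟩
  rw [Subgroup.mem_bot]
  exact hall _ ⟨h, hh, rfl⟩

end Pipe

end Cfsg.Agent.Lib.Helper5.LBal
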