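import Mathlib
import Cfsg.Agent.Lib.Helper5.LBal.FieldE
import Cfsg.Agent.Lib.Helper5.LBal.FieldF
import Cfsg.Agent.Lib.Helper5.LBal.Core
import Cfsg.Agent.Lib.Helper5.LBal.PSLPipe
import Cfsg.Agent.Lib.Helper5.SLnAutPred
import Cfsg.Agent.Lib.Helper5.SLnOut3
import Cfsg.Agent.Lib.Helper5.PSpBal5

set_option autoImplicit false

/-! The standard field automorphism of prime order `p` of `PSL_n(F)`: if `p` divides the number of
its fixed points then its centralizer has trivial `p'`-core. -/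

namespace Cfsg.Agent.Lib.Helper5.LBal

open Matrix Cfsg.Agent.Lib.Helper5.SLnAut Cfsg.Agent.Lib.Helper5.SLnBN
  Cfsg.Agent.Lib.Helper5.PSpField Cfsg.Agent.Lib.Helper5.PSpBal Cfsg.Agent.Lib.Helper5.PSLCoset

section FieldG
variable {n : ℕ} {F : Type*} [Field F] [Fintype F]

theorem transvection_mem_fixSL (σ : F ≃+* F) {a b : Fin n} (hab : a ≠ b) {t : F}
    (ht : σ t = t) : Matrix.SpecialLinearGroup.transvection hab t ∈ fixSL (n := n) σ := by
  rw [mem_fixSL, fieldAut_transvection', ht]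

set_option maxHeartbeats 1600000 in
theorem hA_field (hn : 2 ≤ n) (r : ℕ) [Fact r.Prime] [CharP F r] (σ : F ≃+* F) (p : ℕ)
    [Fact p.Prime] (hpr : p ≠ r) (hdvd0 : p ∣ Nat.card ↥(P0L (n := n) σ))
    (D : Subgroup (ProjectiveSpecialLinearGroup (Fin n) F))
    (hDfix : ∀ d ∈ D, semi (1 : GL (Fin n) F) σ d = d) (hDcop : (Nat.card D).Coprime p)
    (hDnorm : ∀ l ∈ (P0L (n := n) σ : Set (ProjectiveSpecialLinearGroup (Fin n) F)),
      ∀ d ∈ D, l * d * l⁻¹ ∈ D) : D = ⊥ := by
  classical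
  haveI : Nontrivial (Fin n) := Fin.nontrivial_iff_two_le.2 hn
  haveI := finite_PSL (ι := Fin n) (F := F)
  have hp : p.Prime := Fact.out
  set E := fixF σ with hEdef
  have hE : ∀ a, a ∈ E ↔ σ a = a := fun a => Iff.rfl
  have hD1 : D ⊓ P0L σ = ⊥ := by
    by_contra hne
    obtain ⟨k, hk⟩ := relIndex_dvd_pow_of_normal hn r σ E hE (D ⊓ P0L σ) inf_le_right
      (fun k hk y hy => ⟨hDnorm k hk y hy.1,
        (P0L σ).mul_mem ((P0L σ).mul_mem hk hy.2) ((P0L σ).inv_mem hk)⟩) hne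
    have h2 : Nat.card ↥(D ⊓ P0L σ) * (D ⊓ P0L σ).relIndex (P0L σ)
        = Nat.card ↥(P0L (n := n) σ) := by
      have := Subgroup.relIndex_mul_relIndex
        (⊥ : Subgroup (ProjectiveSpecialLinearGroup (Fin n) F)) (D ⊓ P0L σ) (P0L σ)
        bot_le inf_le_right
      rw [Subgroup.relIndex_bot_left, Subgroup.relIndex_bot_left] at this
      exact this
    have h3 : (Nat.card ↥(D ⊓ P0L σ)).Coprime p :=
      Nat.Coprime.coprime_dvd_left (Subgroup.card_dvd_of_le inf_le_left) hDcop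
    have h5 : ((D ⊓ P0L σ).relIndex (P0L σ)).Coprime p := by
      apply Nat.Coprime.coprime_dvd_left hk
      apply Nat.Coprime.pow_left
      exact (Nat.coprime_primes (Fact.out : r.Prime) hp).2 (Ne.symm hpr)
    rw [← h2] at hdvd0
    have h6 := (Nat.Coprime.mul_left h3 h5)
    exact hp.one_lt.ne' (Nat.eq_one_of_dvd_coprimes h6.symm (dvd_refl p) hdvd0)
  rw [eq_bot_iff]
  intro d hd
  rw [Subgroup.mem_bot]
  have hcomm : ∀ y ∈ P0L (n := n) σ, d * y * d⁻¹ = y := by
    intro y hy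
    have h1 : d * (y * d⁻¹ * y⁻¹) ∈ D ⊓ P0L σ := by
      refine ⟨D.mul_mem hd ?_, ?_⟩
      · exact hDnorm y hy _ (D.inv_mem hd)
      · have h2 : d * y * d⁻¹ ∈ P0L σ := P0L_conj_mem σ (hDfix d hd) hy
        have h3 : d * (y * d⁻¹ * y⁻¹) = d * y * d⁻¹ * y⁻¹ := by group
        rw [h3]
        exact (P0L σ).mul_mem h2 ((P0L σ).inv_mem hy)
    rw [hD1, Subgroup.mem_bot] at h1
    have h3 : d * y * d⁻¹ = d * (y * d⁻¹ * y⁻¹) * y := by group
    rw [h3, h1, one_mul]
  obtain ⟨s, rfl⟩ := piN_surjective d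
  obtain ⟨-, z, hz0, hz⟩ := semi_fix_transvections (Matrix.SpecialLinearGroup.toGL s)
    (1 : F ≃+* F) {1} rfl (by
      intro a b hab t ht
      rw [Set.mem_singleton_iff] at ht
      rw [← conj_piN_eq_semi, MulAut.conj_apply]
      apply hcomm
      exact piN_mem_P0L σ (transvection_mem_fixSL σ hab (by rw [ht, map_one])))
  rw [Matrix.SpecialLinearGroup.coe_GL_coe_matrix] at hz
  rw [piN_eq_one_iff, Matrix.SpecialLinearGroup.mem_center_iff]
  refine ⟨z, ?_, ?_⟩
  · have h1 := s.2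
    rw [hz, Matrix.det_smul, Matrix.det_one, mul_one] at h1
    exact h1
  · rw [hz, Matrix.scalar_apply, Matrix.smul_one_eq_diagonal]

set_option maxHeartbeats 1600000 in
/-- an automorphism of semilinear type fixing the image of the fixed matrices is a power of the
field automorphism -/
theorem semi_pow_of_fix (hn : 2 ≤ n) (σ : F ≃+* F) (p : ℕ) (hσ : orderOf σ = p)
    (h : GL (Fin n) F) (τ : F ≃+* F)
    (hfix : ∀ l ∈ P0L (n := n) σ, semi h τ l = l) : (semi h τ) ^ p = 1 := by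
  haveI : Nontrivial (Fin n) := Fin.nontrivial_iff_two_le.2 hn
  obtain ⟨hτ, z, hz0, hz⟩ := semi_fix_transvections h τ {t | σ t = t} (map_one σ) (by
    intro a b hab t ht
    exact hfix _ (piN_mem_P0L σ (transvection_mem_fixSL σ hab ht)))
  have h1 : semi h τ = semi (1 : GL (Fin n) F) τ :=
    semi_eq_of_smul h 1 τ z hz0 (by rw [hz, Units.val_one])
  have hτz : τ ∈ Subgroup.zpowers σ := mem_zpowers_of_fixes σ τ hτ
  obtain ⟨j, hj⟩ := Subgroup.mem_zpowers_iff.1 hτz
  have hτp : τ ^ p = 1 := by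
    rw [← hj, ← zpow_natCast, ← _root_.zpow_mul, mul_comm, _root_.zpow_mul, zpow_natCast, ← hσ,
      pow_orderOf_eq_one, _root_.one_zpow]
  rw [h1, semi_one_pow, hτp, semi_one_one]

set_option maxHeartbeats 1600000 in
theorem hB_field {p' f : ℕ} [Fact p'.Prime] (hf : 1 ≤ f) (hF : Fintype.card F = p' ^ f)
    (hn : 2 ≤ n) (σ : F ≃+* F) (p : ℕ) (hσ : orderOf σ = p)
    (ν : MulAut (ProjectiveSpecialLinearGroup (Fin n) F))
    (hfix : ∀ l ∈ P0L (n := n) σ, ν l = l) (hcop : (orderOf ν).Coprime p) : ν = 1 := by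
  have hsemi : ∀ (h : GL (Fin n) F) (τ : F ≃+* F), ν = semi h τ → ν = 1 := by
    intro h τ hν
    have h1 : ν ^ p = 1 := by
      rw [hν]
      apply semi_pow_of_fix hn σ p hσ h τ
      rw [← hν]
      exact hfix
    have h3 := orderOf_dvd_of_pow_eq_one h1
    have h4 := Nat.Coprime.eq_one_of_dvd hcop h3
    exact orderOf_eq_one_iff.1 h4
  by_cases hn2 : n = 2
  · subst hn2
    obtain ⟨g, τ, hν⟩ := Cfsg.Agent.Lib.Helper5.PSL2Aut.exists_semi hf hF ν
    rw [semi_two_eq] at hν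
    exact hsemi g τ hν
  · have hn3 : 3 ≤ n := by omega
    obtain ⟨g, τ, hν | hν⟩ := exists_semi_tau_all hf hF hn ν
    · exact hsemi g τ hν
    · exfalso
      apply not_semi_eq_tauBar_on_transvections hn3 g τ
      intro a b hab
      have hy : piN (Matrix.SpecialLinearGroup.transvection hab (1 : F)) ∈ P0L (n := n) σ :=
        piN_mem_P0L σ (transvection_mem_fixSL σ hab (map_one σ))
      have hty : tauBar (piN (Matrix.SpecialLinearGroup.transvection hab (1 : F)))
          ∈ P0L (n := n) σ := by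
        rw [tauBar_pi, tauAut_transvection']
        exact piN_mem_P0L σ (transvection_mem_fixSL σ hab.symm (by rw [map_neg, map_one]))
      have h1 := hfix _ hty
      rw [hν, MulAut.mul_apply, tauBar_tauBar] at h1
      exact h1

/-- the centralizer of the standard field automorphism of order `p` has trivial `p'`-core if
`p` divides the number of fixed points -/
theorem no_core_field {p' f : ℕ} [Fact p'.Prime] (hf : 1 ≤ f) (hF : Fintype.card F = p' ^ f)
    (hn : 2 ≤ n) (r : ℕ) [Fact r.Prime] [CharP F r] (σ : F ≃+* F) (p : ℕ) [Fact p.Prime]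
    (hpr : p ≠ r) (hσ : orderOf σ = p)
    (hdvd : p ∣ Nat.card ↥(MonoidHom.eqLocus
      (semi (1 : GL (Fin n) F) σ : MulAut (ProjectiveSpecialLinearGroup (Fin n) F)).toMonoidHom
      (MonoidHom.id _)))
    (A : Subgroup (MulAut (ProjectiveSpecialLinearGroup (Fin n) F)))
    (hinn : ∀ k : ProjectiveSpecialLinearGroup (Fin n) F, MulAut.conj k ∈ A)
    (N : Subgroup (MulAut (ProjectiveSpecialLinearGroup (Fin n) F)))
    (hN : HasCore p A (semi (1 : GL (Fin n) F) σ) N) : False := by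
  haveI : Nontrivial (Fin n) := Fin.nontrivial_iff_two_le.2 hn
  haveI := finite_PSL (ι := Fin n) (F := F)
  have hdvd0 := dvd_card_P0L hn r σ p hpr hσ hdvd
  refine no_core_abstract conj_injective_PSL p A hinn (semi (1 : GL (Fin n) F) σ)
    (P0L (n := n) σ : Set (ProjectiveSpecialLinearGroup (Fin n) F)) ?_ ?_ ?_ N hN
  · intro l hl
    exact P0L_le_fix σ hl
  · intro D hDfix hDcop hDnorm
    exact hA_field hn r σ p hpr hdvd0 D hDfix hDcop hDnorm
  · intro ν _ hνfix hνcop
    exact hB_field hf hF hn σ p hσ ν hνfix hνcop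

end FieldG

end Cfsg.Agent.Lib.Helper5.LBal
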