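import Mathlib
import Cfsg.Agent.Lib.Helper5.GInv.NC

set_option autoImplicit false

/-! The first and the last step of the proof that a group of isometries of odd order normalized
by the Eichler transformations is trivial, in any dimension at least three. -/

namespace Cfsg.Agent.Lib.Helper5.LBal

open Module QuadraticMap Cfsg.Agent.Lib.Helper5.GInv
open scoped Pointwise

section NC4a
variable {k : Type*} [Field k] {W : Type*} [AddCommGroup W] [Module k W]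
variable [Finite k] [FiniteDimensional k W] (Q : QuadraticForm k W)

set_option maxHeartbeats 1600000 in
/-- the image of a singular vector under an element of the group is orthogonal to it -/
theorem nc_P1 (h2 : (2 : k) ≠ 0) (hQ : (polarBilin Q).Nondegenerate)
    (D : Subgroup (W ≃ₗ[k] W)) (hodd : Odd (Nat.card D))
    (hiso : ∀ δ ∈ D, ∀ x, Q (δ x) = Q x)
    (hnorm : ∀ (e u : W) (he : Q e = 0) (heu : polar Q e u = 0), ∀ δ ∈ D,
      eichE Q e u he heu * δ * (eichE Q e u he heu)⁻¹ ∈ D) :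
    ∀ δ ∈ D, ∀ e, Q e = 0 → polar Q (δ e) e = 0 := by
  classical
  haveI : Finite (W ≃ₗ[k] W) := finite_linearEquiv
  have hpol : ∀ δ ∈ D, ∀ x y, polar Q (δ x) (δ y) = polar Q x y := by
    intro δ hδ x y
    unfold polar
    rw [← map_add, hiso δ hδ, hiso δ hδ, hiso δ hδ]
  have hinvapp' : ∀ (δ : W ≃ₗ[k] W) (x : W), δ⁻¹ (δ x) = x := fun δ x => δ.symm_apply_apply x
  intro δ₀ hδ₀ e₀ he₀
  by_contra hne
  have he₀0 : e₀ ≠ 0 := ne_zero_of_polar_ne Q hne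
  have hπ : polar Q e₀ (δ₀ e₀) ≠ 0 := by rw [polar_comm]; exact hne
  -- the relation
  have A1 : ∀ e e' : W, Q e = 0 → Q e' = 0 → polar Q e e' ≠ 0 →
      (∃ δ ∈ D, ∃ c : k, c ≠ 0 ∧ δ e₀ = c • e) →
      ∃ δ ∈ D, ∃ c : k, c ≠ 0 ∧ δ e₀ = c • e' := by
    rintro e e' he he' hee' ⟨δ₁, hδ₁, c, hc0, hδ₁e⟩
    obtain ⟨g₁, hg₁⟩ : ∃ g₁, g₁ = δ₁ (δ₀ e₀) := ⟨_, rfl⟩
    have hg₁Q : Q g₁ = 0 := by rw [hg₁, hiso δ₁ hδ₁, hiso δ₀ hδ₀, he₀]
    have hs : polar Q e g₁ = c⁻¹ * polar Q e₀ (δ₀ e₀) := by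
      have h3 : polar Q (δ₁ e₀) g₁ = polar Q e₀ (δ₀ e₀) := by rw [hg₁, hpol δ₁ hδ₁]
      rw [hδ₁e, polar_smul_left, smul_eq_mul] at h3
      rw [← h3, ← mul_assoc, inv_mul_cancel₀ hc0, one_mul]
    have hs0 : polar Q e g₁ ≠ 0 := by rw [hs]; exact mul_ne_zero (inv_ne_zero hc0) hπ
    obtain ⟨f₁, hf₁⟩ : ∃ f₁, f₁ = (polar Q e g₁)⁻¹ • g₁ := ⟨_, rfl⟩
    obtain ⟨f₂, hf₂⟩ : ∃ f₂, f₂ = (polar Q e e')⁻¹ • e' := ⟨_, rfl⟩
    have hf₁Q : Q f₁ = 0 := by rw [hf₁, QuadraticMap.map_smul, hg₁Q, smul_zero]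
    have hf₂Q : Q f₂ = 0 := by rw [hf₂, QuadraticMap.map_smul, he', smul_zero]
    have hef₁ : polar Q e f₁ = 1 := by
      rw [hf₁, polar_smul_right, smul_eq_mul, inv_mul_cancel₀ hs0]
    have hef₂ : polar Q e f₂ = 1 := by
      rw [hf₂, polar_smul_right, smul_eq_mul, inv_mul_cancel₀ hee']
    have heu : polar Q e (f₂ - f₁) = 0 := by rw [polar_sub_right, hef₁, hef₂, sub_self]
    have hρ := eich_partner Q hf₁Q hf₂Q hef₁ hef₂
    have hmem : eichE Q e (f₂ - f₁) he heu * (δ₁ * δ₀ * δ₁⁻¹) *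
        (eichE Q e (f₂ - f₁) he heu)⁻¹ ∈ D :=
      hnorm e (f₂ - f₁) he heu _ (D.mul_mem (D.mul_mem hδ₁ hδ₀) (D.inv_mem hδ₁))
    refine ⟨_, D.mul_mem hmem hδ₁, polar Q e g₁ * (polar Q e e')⁻¹,
      mul_ne_zero hs0 (inv_ne_zero hee'), ?_⟩
    have hδ₁inv : δ₁⁻¹ e = c⁻¹ • e₀ := by
      have : e = δ₁ (c⁻¹ • e₀) := by
        rw [map_smul, hδ₁e, smul_smul, inv_mul_cancel₀ hc0, one_smul]
      rw [this, hinvapp']
    have hρinv : (eichE Q e (f₂ - f₁) he heu)⁻¹ e = e := by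
      show (eichE Q e (f₂ - f₁) he heu).symm e = e
      rw [eichE_symm_apply]
      exact eich_e Q he (by rw [polar_neg_right, heu, neg_zero])
    have hg₁' : g₁ = polar Q e g₁ • f₁ := by
      rw [hf₁, smul_smul, mul_inv_cancel₀ hs0, one_smul]
    rw [LinearEquiv.mul_apply, hδ₁e, map_smul, LinearEquiv.mul_apply, LinearEquiv.mul_apply,
      hρinv, LinearEquiv.mul_apply, LinearEquiv.mul_apply, hδ₁inv, map_smul, map_smul, ← hg₁,
      map_smul, smul_smul, mul_inv_cancel₀ hc0, one_smul, hg₁', map_smul, eichE_apply, hρ, hf₂,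
      smul_smul, polar_smul_right, hef₁, smul_eq_mul, mul_one]
  have A : ∀ e : W, e ≠ 0 → Q e = 0 → ∃ δ ∈ D, ∃ c : k, c ≠ 0 ∧ δ e₀ = c • e := by
    intro e he0 he
    have hR₀ : ∃ δ ∈ D, ∃ c : k, c ≠ 0 ∧ δ e₀ = c • e₀ :=
      ⟨1, D.one_mem, 1, one_ne_zero, by simp⟩
    by_cases hee : polar Q e₀ e = 0
    · obtain ⟨z, hz, hz1, hz2⟩ := exists_nonperp_both Q hQ he₀0 he0 he₀ hee
      have hRz := A1 e₀ z he₀ hz hz1 hR₀
      exact A1 z e hz he (by rw [polar_comm]; exact hz2) hRz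
    · exact A1 e₀ e he₀ he hee hR₀
  -- counting
  have horb : MulAction.orbit ↥D (Submodule.span k {e₀}) = {P | IsSingPt Q P} := by
    ext P
    constructor
    · rintro ⟨δ, rfl⟩
      refine ⟨(δ : W ≃ₗ[k] W) e₀, ?_, ?_, ?_⟩
      · intro h
        apply he₀0
        have := hinvapp' (δ : W ≃ₗ[k] W) e₀
        rw [h, map_zero] at this
        exact this.symm
      · rw [hiso _ δ.2]; exact he₀
      · exact smul_span_singleton' (δ : W ≃ₗ[k] W) e₀
    · rintro ⟨e, he0, he, rfl⟩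
      obtain ⟨δ, hδ, c, hc0, hδe⟩ := A e he0 he
      refine ⟨⟨δ, hδ⟩, ?_⟩
      show δ • Submodule.span k {e₀} = _
      rw [smul_span_singleton', hδe]
      exact Submodule.span_singleton_smul_eq (IsUnit.mk0 c hc0) e
  have h3 := MulAction.index_stabilizer ↥D (Submodule.span k {e₀})
  rw [horb, ← Nat.card_coe_set_eq] at h3
  have h4 : Nat.card {P : Submodule k W // IsSingPt Q P} ∣ Nat.card D := by
    have := Subgroup.index_dvd_card (MulAction.stabilizer ↥D (Submodule.span k {e₀}))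
    rw [h3] at this
    exact this
  have h5 := even_card_singPts Q h2 hQ
  obtain ⟨m, hm⟩ := h4
  rw [hm] at hodd
  exact (Nat.not_even_iff_odd.2 (Nat.Odd.of_mul_left hodd)) h5

set_option maxHeartbeats 800000 in
/-- a group of isometries of odd order fixing all singular points is trivial -/
theorem nc_of_P2 (h2 : (2 : k) ≠ 0) (hQ : (polarBilin Q).Nondegenerate)
    (hd3 : 3 ≤ finrank k W)
    (D : Subgroup (W ≃ₗ[k] W)) (hodd : Odd (Nat.card D))
    (hiso : ∀ δ ∈ D, ∀ x, Q (δ x) = Q x)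
    (P2 : ∀ δ ∈ D, ∀ e, e ≠ 0 → Q e = 0 → ∃ c : k, δ e = c • e) :
    ∀ δ ∈ D, ∀ x, δ x = x := by
  classical
  haveI : Finite (W ≃ₗ[k] W) := finite_linearEquiv
  have hinvapp' : ∀ (δ : W ≃ₗ[k] W) (x : W), δ⁻¹ (δ x) = x := fun δ x => δ.symm_apply_apply x
  intro δ hδ
  obtain ⟨-, κ, hκ⟩ := sl_main Q h2 hQ hd3 id rfl rfl δ (fun x y => map_add δ x y)
    (fun c x => map_smul δ c x) (fun x hx => by
      have := hinvapp' δ x
      rw [hx, map_zero] at this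
      exact this.symm) (P2 δ hδ)
  obtain ⟨e, he0, he⟩ := exists_singular_of_finrank Q hd3
  obtain ⟨f, hef, hf⟩ := exists_partner Q hQ he0 he
  have hv : Q (e + f) = 1 := by
    rw [QuadraticMap.map_add (⇑Q), he, hf, hef]
    ring
  have h3 := hiso δ hδ (e + f)
  rw [hκ, QuadraticMap.map_smul, hv, smul_eq_mul, mul_one] at h3
  have h4 : (κ - 1) * (κ + 1) = 0 := by linear_combination h3
  rcases mul_eq_zero.1 h4 with h | h
  · intro x
    rw [hκ, sub_eq_zero.1 h, one_smul]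
  · exfalso
    have hκ' : κ = -1 := eq_neg_of_add_eq_zero_left h
    obtain ⟨m, hm⟩ := hodd
    have h5 : (⟨δ, hδ⟩ : ↥D) ^ Nat.card ↥D = 1 := pow_card_eq_one'
    have h6 : δ ^ Nat.card ↥D = 1 := by
      have := congrArg Subtype.val h5
      rwa [Subgroup.coe_pow] at this
    have h7 := pow_apply_of_scalar δ κ hκ (Nat.card ↥D) (e + f)
    have h9 : (1 : W ≃ₗ[k] W) (e + f) = e + f := rfl
    rw [h6, hκ', hm, Odd.neg_one_pow ⟨m, rfl⟩, h9, neg_one_smul] at h7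
    have h8 : (2 : k) • (e + f) = 0 := by
      rw [two_smul]
      nth_rewrite 1 [h7]
      exact neg_add_cancel _
    rcases smul_eq_zero.1 h8 with h | h
    · exact h2 h
    · rw [h, QuadraticMap.map_zero] at hv
      exact zero_ne_one hv

end NC4a

end Cfsg.Agent.Lib.Helper5.LBal
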