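import Mathlib
import Cfsg.Agent.Lib.Helper5.LBal.NC4a

set_option autoImplicit false

/-! Dimension four: a group of isometries of odd order normalized by the Eichler transformations
fixes all singular points. -/

namespace Cfsg.Agent.Lib.Helper5.LBal

open Module QuadraticMap Cfsg.Agent.Lib.Helper5.GInv
open scoped Pointwise

section NC4b
variable {k : Type*} [Field k] {W : Type*} [AddCommGroup W] [Module k W]

theorem smul_eq_of_maps [FiniteDimensional k W] (g : W ≃ₗ[k] W) (m : Submodule k W)
    (hg : ∀ x ∈ m, g x ∈ m) : g • m = m := by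
  have hle : g • m ≤ m := by
    rintro _ ⟨x, hx, rfl⟩
    exact hg x hx
  apply Submodule.eq_of_le_of_finrank_eq hle
  exact LinearEquiv.finrank_map_eq g m

theorem mem_span_pair' {e e' x : W} :
    x ∈ Submodule.span k ({e, e'} : Set W) ↔ ∃ a b : k, a • e + b • e' = x :=
  Submodule.mem_span_pair

theorem odd_card_of_two_ne_zero [Fintype k] (h2 : (2 : k) ≠ 0) : Odd (Fintype.card k) := by
  rw [Nat.odd_iff]
  apply FiniteField.odd_card_of_char_ne_two
  intro h
  haveI : CharP k 2 := ringChar.of_eq h
  exact h2 (by exact_mod_cast CharP.cast_eq_zero k 2)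

variable [Finite k] [FiniteDimensional k W] (Q : QuadraticForm k W)

/-- a singular vector orthogonal to `e` pairing to one with `e'` -/
theorem exists_sing_pairing (hQ : (polarBilin Q).Nondegenerate) {e e' : W}
    (he' : Q e' = 0) (hee' : polar Q e e' = 0) (hne : ∀ c : k, e' ≠ c • e) :
    ∃ u : W, polar Q e u = 0 ∧ polar Q e' u = 1 ∧ Q u = 0 := by
  have hrefl : (polarBilin Q).IsRefl := by
    intro x y h
    show polar Q y x = 0
    rw [polar_comm]
    exact h
  have h1 := LinearMap.BilinForm.orthogonal_orthogonal hQ hrefl (Submodule.span k {e})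
  have h2 : e' ∉ LinearMap.BilinForm.orthogonal (polarBilin Q)
      (LinearMap.BilinForm.orthogonal (polarBilin Q) (Submodule.span k {e})) := by
    rw [h1, Submodule.mem_span_singleton]
    rintro ⟨c, hc⟩
    exact hne c hc.symm
  rw [LinearMap.BilinForm.mem_orthogonal_iff] at h2
  push Not at h2
  obtain ⟨v, hv, hve'⟩ := h2
  have hev : polar Q e v = 0 := by
    have := (LinearMap.BilinForm.mem_orthogonal_iff.1 hv) e (Submodule.mem_span_singleton_self e)
    exact this
  have hve'' : polar Q v e' ≠ 0 := hve'
  obtain ⟨v', hv'⟩ : ∃ v', v' = (polar Q v e')⁻¹ • v := ⟨_, rfl⟩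
  have hev' : polar Q e v' = 0 := by rw [hv', polar_smul_right, hev, smul_zero]
  have he'v' : polar Q v' e' = 1 := by
    rw [hv', polar_smul_left, smul_eq_mul, inv_mul_cancel₀ hve'']
  refine ⟨v' - Q v' • e', ?_, ?_, ?_⟩
  · rw [polar_sub_right, polar_smul_right, hev', hee', smul_zero, sub_zero]
  · rw [polar_sub_right, polar_smul_right, polar_self_sing Q he', smul_zero, sub_zero,
      polar_comm]
    exact he'v'
  · have h3 : v' - Q v' • e' = (1 : k) • v' + (-Q v') • e' := by
      rw [one_smul, neg_smul, sub_eq_add_neg]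
    rw [h3, map_lin2, he', he'v']
    ring

set_option maxHeartbeats 1600000 in
/-- in dimension four the group fixes all singular points -/
theorem nc_four_P2 (h2 : (2 : k) ≠ 0) (hQ : (polarBilin Q).Nondegenerate)
    (hd : finrank k W = 4)
    (D : Subgroup (W ≃ₗ[k] W)) (hodd : Odd (Nat.card D))
    (hiso : ∀ δ ∈ D, ∀ x, Q (δ x) = Q x)
    (hnorm : ∀ (e u : W) (he : Q e = 0) (heu : polar Q e u = 0), ∀ δ ∈ D,
      eichE Q e u he heu * δ * (eichE Q e u he heu)⁻¹ ∈ D) :
    ∀ δ ∈ D, ∀ e, e ≠ 0 → Q e = 0 → ∃ c : k, δ e = c • e := by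
  classical
  haveI : Finite (W ≃ₗ[k] W) := finite_linearEquiv
  haveI : Fintype k := Fintype.ofFinite k
  have P1 := nc_P1 Q h2 hQ D hodd hiso hnorm
  intro δ hδ e he0 he
  by_contra hcon
  push Not at hcon
  obtain ⟨e', he'⟩ : ∃ e', e' = δ e := ⟨_, rfl⟩
  rw [← he'] at hcon
  have he'Q : Q e' = 0 := by rw [he', hiso δ hδ, he]
  have hee' : polar Q e e' = 0 := by rw [polar_comm, he']; exact P1 δ hδ e he
  obtain ⟨e'', he''⟩ : ∃ e'', e'' = δ e' := ⟨_, rfl⟩
  have h1 : polar Q e'' e' = 0 := by rw [he'']; exact P1 δ hδ e' he'Q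
  have h1' : polar Q e'' e = 0 := by
    have := P1 (δ * δ) (D.mul_mem hδ hδ) e he
    rw [LinearEquiv.mul_apply, ← he', ← he''] at this
    exact this
  -- the line
  have hli : LinearIndependent k ![e, e'] := by
    rw [LinearIndependent.pair_iff]
    intro s t hst
    have ht : t = 0 := by
      by_contra ht
      apply hcon (-(t⁻¹ * s))
      have h3 : t • e' = -(s • e) := eq_neg_of_add_eq_zero_right hst
      have h4 : e' = t⁻¹ • (t • e') := by rw [smul_smul, inv_mul_cancel₀ ht, one_smul]
      rw [h4, h3, smul_neg, smul_smul, neg_smul]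
    rw [ht, zero_smul, add_zero] at hst
    rcases smul_eq_zero.1 hst with h | h
    · exact ⟨h, ht⟩
    · exact absurd h he0
  set m : Submodule k W := Submodule.span k ({e, e'} : Set W) with hm
  have hmfin : finrank k m = 2 := by
    have h3 := finrank_span_eq_card hli
    rw [Fintype.card_fin] at h3
    have h4 : Set.range ![e, e'] = ({e, e'} : Set W) := by
      simp [Matrix.range_cons]
      exact Set.pair_comm e' e
    rw [h4] at h3
    exact h3
  have hem : e ∈ m := Submodule.subset_span (Set.mem_insert _ _)
  have he'm : e' ∈ m := Submodule.subset_span (Set.mem_insert_of_mem _ rfl)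
  have hmorth : m = LinearMap.BilinForm.orthogonal (polarBilin Q) m := by
    apply Submodule.eq_of_le_of_finrank_eq
    · intro x hx
      rw [LinearMap.BilinForm.mem_orthogonal_iff]
      intro n hn
      obtain ⟨a, b, rfl⟩ := mem_span_pair'.1 hx
      obtain ⟨a', b', rfl⟩ := mem_span_pair'.1 hn
      show polar Q (a' • e + b' • e') (a • e + b • e') = 0
      simp only [polar_add_left, polar_add_right, polar_smul_left, polar_smul_right,
        polar_self_sing Q he, polar_self_sing Q he'Q, hee', polar_comm Q e' e, smul_zero,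
        add_zero]
    · rw [LinearMap.BilinForm.finrank_orthogonal hQ, hd, hmfin]
  have he''m : e'' ∈ m := by
    rw [hmorth, LinearMap.BilinForm.mem_orthogonal_iff]
    intro n hn
    obtain ⟨a', b', rfl⟩ := mem_span_pair'.1 hn
    show polar Q (a' • e + b' • e') e'' = 0
    simp only [polar_add_left, polar_smul_left, polar_comm Q e e'', h1',
      polar_comm Q e' e'', h1, smul_zero, add_zero]
  -- maps preserving the line
  have hpres : ∀ g : W ≃ₗ[k] W, g e ∈ m → g e' ∈ m → g • m = m := by
    intro g h3 h4
    apply smul_eq_of_maps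
    intro x hx
    obtain ⟨a, b, rfl⟩ := mem_span_pair'.1 hx
    rw [map_add, map_smul, map_smul]
    exact m.add_mem (m.smul_mem a h3) (m.smul_mem b h4)
  have hδm : δ • m = m := hpres δ (by rw [← he']; exact he'm) (by rw [← he'']; exact he''m)
  -- the Eichler transformations
  obtain ⟨u, heu, he'u, hu⟩ := exists_sing_pairing Q hQ he'Q hee' hcon
  have heut : ∀ t : k, polar Q e (t • u) = 0 := by
    intro t
    rw [polar_smul_right, heu, smul_zero]
  have hρe : ∀ t : k, eichE Q e (t • u) he (heut t) e = e := fun t => eich_e Q he (heut t)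
  have hρe' : ∀ t : k, eichE Q e (t • u) he (heut t) e' = e' - t • e := by
    intro t
    rw [eichE_apply, eich_apply, hee', polar_smul_left, polar_comm Q u e', he'u]
    simp
  have hρinv : ∀ t : k, (eichE Q e (t • u) he (heut t))⁻¹ e = e := by
    intro t
    show (eichE Q e (t • u) he (heut t)).symm e = e
    rw [eichE_symm_apply]
    exact eich_e Q he (by rw [polar_neg_right, heut, neg_zero])
  have hρm : ∀ t : k, eichE Q e (t • u) he (heut t) • m = m := by
    intro t
    apply hpres
    · rw [hρe]; exact hem
    · rw [hρe']; exact m.sub_mem he'm (m.smul_mem t hem)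
  -- the stabilizer
  set S : Subgroup (W ≃ₗ[k] W) := D ⊓ MulAction.stabilizer (W ≃ₗ[k] W) m with hS
  have hSodd : Odd (Nat.card S) := Odd.of_dvd_nat hodd (Subgroup.card_dvd_of_le inf_le_left)
  have hδt : ∀ t : k, eichE Q e (t • u) he (heut t) * δ * (eichE Q e (t • u) he (heut t))⁻¹ ∈ S := by
    intro t
    refine ⟨hnorm e (t • u) he (heut t) δ hδ, ?_⟩
    apply Subgroup.mul_mem _ (Subgroup.mul_mem _ _ _) (Subgroup.inv_mem _ _)
    · exact MulAction.mem_stabilizer_iff.2 (hρm t)
    · exact MulAction.mem_stabilizer_iff.2 hδm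
    · exact MulAction.mem_stabilizer_iff.2 (hρm t)
  set P₀ : Submodule k W := Submodule.span k {e} with hP₀
  let f : Option k → Submodule k W := fun o =>
    match o with
    | none => P₀
    | some t => Submodule.span k {e' - t • e}
  have hfinj : Function.Injective f := by
    have hA : ∀ t : k, Submodule.span k {e' - t • e} ≠ P₀ := by
      intro t h
      have h3 : e' - t • e ∈ P₀ := by
        rw [← h]
        exact Submodule.mem_span_singleton_self _
      rw [hP₀, Submodule.mem_span_singleton] at h3
      obtain ⟨c, hc⟩ := h3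
      apply hcon (c + t)
      rw [add_smul, hc]
      abel
    have hB : ∀ t t' : k, Submodule.span k {e' - t • e} = Submodule.span k {e' - t' • e} →
        t = t' := by
      intro t t' h
      have h3 : e' - t • e ∈ Submodule.span k {e' - t' • e} := by
        rw [← h]
        exact Submodule.mem_span_singleton_self _
      rw [Submodule.mem_span_singleton] at h3
      obtain ⟨c, hc⟩ := h3
      have h4 : (c * t' - t) • e + (1 - c) • e' = 0 := by
        have : c • (e' - t' • e) - (e' - t • e) = 0 := sub_eq_zero.2 hc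
        rw [← neg_eq_zero, ← this]
        module
      obtain ⟨h5, h6⟩ := (LinearIndependent.pair_iff.1 hli) _ _ h4
      have hc1 : c = 1 := (sub_eq_zero.1 h6).symm
      rw [hc1, one_mul] at h5
      exact (sub_eq_zero.1 h5).symm
    intro o o' h
    cases o with
    | none =>
      cases o' with
      | none => rfl
      | some t' => exact absurd h.symm (hA t')
    | some t =>
      cases o' with
      | none => exact absurd h (hA t)
      | some t' => rw [hB t t' h]
  have hrange : Set.range f = MulAction.orbit ↥S P₀ := by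
    ext P
    constructor
    · rintro ⟨o, rfl⟩
      cases o with
      | none => exact MulAction.mem_orbit_self _
      | some t =>
        refine ⟨⟨_, hδt t⟩, ?_⟩
        show (eichE Q e (t • u) he (heut t) * δ * (eichE Q e (t • u) he (heut t))⁻¹) • P₀ = _
        rw [hP₀, smul_span_singleton', LinearEquiv.mul_apply, LinearEquiv.mul_apply, hρinv,
          ← he', hρe']
    · rintro ⟨s, rfl⟩
      have hs2 : (s : W ≃ₗ[k] W) • m = m := MulAction.mem_stabilizer_iff.1 s.2.2
      have hsem : (s : W ≃ₗ[k] W) e ∈ m := by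
        rw [← hs2]
        exact ⟨e, hem, rfl⟩
      obtain ⟨a, b, hab⟩ := mem_span_pair'.1 hsem
      have hse0 : (s : W ≃ₗ[k] W) e ≠ 0 := by
        intro h
        apply he0
        have := (s : W ≃ₗ[k] W).symm_apply_apply e
        rw [h, map_zero] at this
        exact this.symm
      show (s : W ≃ₗ[k] W) • P₀ ∈ Set.range f
      rw [hP₀, smul_span_singleton', ← hab]
      by_cases hb : b = 0
      · have ha : a ≠ 0 := by
          intro ha
          rw [ha, hb, zero_smul, zero_smul, add_zero] at hab
          exact hse0 hab.symm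
        refine ⟨none, ?_⟩
        show P₀ = _
        rw [hb, zero_smul, add_zero, hP₀]
        exact (Submodule.span_singleton_smul_eq (IsUnit.mk0 a ha) e).symm
      · refine ⟨some (-(b⁻¹ * a)), ?_⟩
        show Submodule.span k {e' - (-(b⁻¹ * a)) • e} = _
        have h3 : a • e + b • e' = b • (e' - (-(b⁻¹ * a)) • e) := by
          have h4 : b * -(b⁻¹ * a) = -a := by
            rw [mul_neg, ← mul_assoc, mul_inv_cancel₀ hb, one_mul]
          rw [smul_sub, smul_smul, h4]
          module
        rw [h3]
        exact (Submodule.span_singleton_smul_eq (IsUnit.mk0 b hb) _).symm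
  have hcard : Nat.card (MulAction.orbit ↥S P₀) = Fintype.card k + 1 := by
    rw [← hrange, Nat.card_congr (Equiv.ofInjective f hfinj).symm, Nat.card_eq_fintype_card,
      Fintype.card_option]
  have h3 := MulAction.index_stabilizer ↥S P₀
  have h4 : Nat.card (MulAction.orbit ↥S P₀) ∣ Nat.card S := by
    have := Subgroup.index_dvd_card (MulAction.stabilizer ↥S P₀)
    rw [h3] at this
    exact this
  rw [hcard] at h4
  have h5 : Odd (Fintype.card k + 1) := Odd.of_dvd_nat hSodd h4
  have h6 := odd_card_of_two_ne_zero h2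
  rw [Nat.odd_add_one] at h5
  exact h5 h6

/-- a group of isometries of odd order of a nondegenerate quadratic space of dimension at least
three over a finite field of odd characteristic which is normalized by the Eichler
transformations is trivial -/
theorem nc_all (h2 : (2 : k) ≠ 0) (hQ : (polarBilin Q).Nondegenerate)
    (hd : 3 ≤ finrank k W)
    (D : Subgroup (W ≃ₗ[k] W)) (hodd : Odd (Nat.card D))
    (hiso : ∀ δ ∈ D, ∀ x, Q (δ x) = Q x)
    (hnorm : ∀ (e u : W) (he : Q e = 0) (heu : polar Q e u = 0), ∀ δ ∈ D,
      eichE Q e u he heu * δ * (eichE Q e u he heu)⁻¹ ∈ D) :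
    ∀ δ ∈ D, ∀ x, δ x = x := by
  by_cases h4 : finrank k W = 4
  · exact nc_of_P2 Q h2 hQ hd D hodd hiso (nc_four_P2 Q h2 hQ h4 D hodd hiso hnorm)
  · exact nc_main Q h2 hQ (by omega) D hodd hiso hnorm

end NC4b

end Cfsg.Agent.Lib.Helper5.LBal
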