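import Mathlib
import Cfsg.Agent.Lib.Helper5.LBal.SLTools
import Cfsg.Agent.Lib.Helper5.LBal.NC4b
import Cfsg.Agent.Lib.Helper5.QuadEmbed
import Cfsg.Agent.Lib.Helper5.GInv.Split
import Cfsg.Agent.S2703
import Cfsg.Agent.Lib.Helper5.GraphInv

set_option autoImplicit false

/-! The quadratic form of a symmetric matrix, its isometries of determinant one and its Eichler
transformations as matrices. -/

namespace Cfsg.Agent.Lib.Helper5.LBal

open Matrix Module QuadraticMap Cfsg.Agent.Lib.Helper5.SLnAut Cfsg.Agent.Lib.Helper5.GInv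

section GraphO1
variable {n : ℕ} {F : Type*} [Field F]

/-- the quadratic form of a matrix -/
noncomputable def QM (M : Matrix (Fin n) (Fin n) F) : QuadraticForm F (Fin n → F) :=
  M.toQuadraticForm'

theorem QM_apply (M : Matrix (Fin n) (Fin n) F) (v : Fin n → F) : QM M v = v ⬝ᵥ (M *ᵥ v) :=
  Cfsg.Agent.Lib.Helper5.QuadEmbed.dot_toQuadraticMap' M v

theorem dot_symm {M : Matrix (Fin n) (Fin n) F} (hM : Mᵀ = M) (u v : Fin n → F) :
    v ⬝ᵥ (M *ᵥ u) = u ⬝ᵥ (M *ᵥ v) := by
  rw [Matrix.dotProduct_mulVec, ← Matrix.mulVec_transpose, hM, dotProduct_comm]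

theorem polar_QM {M : Matrix (Fin n) (Fin n) F} (hM : Mᵀ = M) (u v : Fin n → F) :
    polar (QM M) u v = 2 * (u ⬝ᵥ (M *ᵥ v)) := by
  unfold polar
  rw [QM_apply, QM_apply, QM_apply, Matrix.mulVec_add, add_dotProduct, dotProduct_add,
    dotProduct_add, dot_symm hM u v]
  ring

theorem QM_nondeg (h2 : (2 : F) ≠ 0) {M : Matrix (Fin n) (Fin n) F} (hM : Mᵀ = M)
    (M' : Matrix (Fin n) (Fin n) F) (hMM' : M * M' = 1) :
    (polarBilin (QM M)).Nondegenerate := by
  apply nondeg_of_sep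
  intro x hx
  have h1 : x ᵥ* M = 0 := by
    ext i
    have := hx (Pi.single i 1)
    rw [polar_QM hM, Matrix.dotProduct_mulVec] at this
    have h3 := (mul_eq_zero.1 this).resolve_left h2
    rw [dotProduct_single_one] at h3
    exact h3
  have h3 : x = (x ᵥ* M) ᵥ* M' := by
    rw [Matrix.vecMul_vecMul, hMM', Matrix.vecMul_one]
  rw [h3, h1, Matrix.zero_vecMul]

/-- a matrix is an isometry of the form of a symmetric matrix iff it preserves the matrix -/
theorem isom_iff (h2 : (2 : F) ≠ 0) {M : Matrix (Fin n) (Fin n) F} (hM : Mᵀ = M)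
    (g : Matrix (Fin n) (Fin n) F) :
    (∀ v, QM M (g *ᵥ v) = QM M v) ↔ gᵀ * M * g = M := by
  constructor
  · intro h
    have hS : (gᵀ * M * g - M)ᵀ = gᵀ * M * g - M := by
      rw [Matrix.transpose_sub, Matrix.transpose_mul, Matrix.transpose_mul,
        Matrix.transpose_transpose, hM, Matrix.mul_assoc]
    have h0 := Cfsg.Agent.S2703.eq_smul_one_of_quad h2 _ hS 0 (by
      intro v
      rw [Matrix.sub_mulVec, dotProduct_sub, ← Cfsg.Agent.Lib.Helper5.GraphInv.dot_mulVec_mul,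
        zero_mul, sub_eq_zero, ← QM_apply, ← QM_apply]
      exact h v)
    rw [zero_smul, sub_eq_zero] at h0
    exact h0
  · intro h v
    rw [QM_apply, QM_apply, Cfsg.Agent.Lib.Helper5.GraphInv.dot_mulVec_mul, h]

end GraphO1

end Cfsg.Agent.Lib.Helper5.LBal
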