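import Mathlib
import Cfsg.Agent.Lib.Helper5.LBal.SLTools
import Cfsg.Agent.Lib.Helper5.GraphInv

set_option autoImplicit false

/-! The automorphism of the special linear group inducing a graph automorphism. -/

namespace Cfsg.Agent.Lib.Helper5.LBal

open Matrix Cfsg.Agent.Lib.Helper5.SLnAut Cfsg.Agent.Lib.Helper5.SLnBN
  Cfsg.Agent.Lib.Helper5.GraphInv

section Theta
variable {n : ℕ} {F : Type*} [Field F]

/-- the matrix automorphism inducing the graph automorphism of `c` -/
noncomputable def thetaG (c : GL (Fin n) F) : MulAut (SpecialLinearGroup (Fin n) F) :=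
  glConj c * tauAut

theorem quotAut_thetaG (c : GL (Fin n) F) : quotAut (thetaG c) = gam c := by
  unfold thetaG gam semi tauBar
  rw [map_mul, map_mul, map_one, map_one, mul_one]

theorem thetaG_coe (c : GL (Fin n) F) (s : SpecialLinearGroup (Fin n) F) :
    ((thetaG c s : SpecialLinearGroup (Fin n) F) : Matrix (Fin n) (Fin n) F)
      = (c : Matrix (Fin n) (Fin n) F)
        * ((s⁻¹ : SpecialLinearGroup (Fin n) F) : Matrix (Fin n) (Fin n) F)ᵀ
        * ((c⁻¹ : GL (Fin n) F) : Matrix (Fin n) (Fin n) F) := by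
  unfold thetaG
  rw [MulAut.mul_apply, glConj_coe, tauAut_coe]

theorem tauAut_mul_glConj (g : GL (Fin n) F) :
    (tauAut : MulAut (SpecialLinearGroup (Fin n) F)) * glConj g = glConj (tauGL g) * tauAut := by
  apply MulEquiv.ext
  intro x
  rw [MulAut.mul_apply, MulAut.mul_apply, tauAut_glConj]

/-- the automorphism is an involution when `c` is proportional to its transpose -/
theorem thetaG_invol (c : GL (Fin n) F) (z : F) (hz : z ≠ 0)
    (hc : (c : Matrix (Fin n) (Fin n) F) = z • (c : Matrix (Fin n) (Fin n) F)ᵀ)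
    (s : SpecialLinearGroup (Fin n) F) : thetaG c (thetaG c s) = s := by
  have h1 : thetaG c * thetaG c = 1 := by
    unfold thetaG
    rw [mul_assoc, ← mul_assoc tauAut, tauAut_mul_glConj, mul_assoc, tauAut_mul_self, mul_one,
      ← map_mul]
    have h2 : ((c * tauGL c : GL (Fin n) F) : Matrix (Fin n) (Fin n) F)
        = z • ((1 : GL (Fin n) F) : Matrix (Fin n) (Fin n) F) := by
      rw [Units.val_mul, tauGL_coe, Units.val_one]
      conv_lhs => rw [hc]
      rw [Matrix.smul_mul, ← Matrix.transpose_mul, ← Units.val_mul, inv_mul_cancel, Units.val_one,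
        Matrix.transpose_one]
    rw [glConj_eq_of_smul _ _ z hz h2, map_one]
  have := DFunLike.congr_fun h1 s
  exact this

/-- the fixed matrices are the isometries of the inverse of `c` -/
theorem thetaG_fix_iff (c : GL (Fin n) F) (s : SpecialLinearGroup (Fin n) F) :
    thetaG c s = s ↔ (s : Matrix (Fin n) (Fin n) F)ᵀ
      * ((c⁻¹ : GL (Fin n) F) : Matrix (Fin n) (Fin n) F) * (s : Matrix (Fin n) (Fin n) F)
      = ((c⁻¹ : GL (Fin n) F) : Matrix (Fin n) (Fin n) F) := by
  have hcc : ((c⁻¹ : GL (Fin n) F) : Matrix (Fin n) (Fin n) F) * (c : Matrix (Fin n) (Fin n) F)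
      = 1 := by rw [← Units.val_mul, inv_mul_cancel, Units.val_one]
  have hcc' : (c : Matrix (Fin n) (Fin n) F) * ((c⁻¹ : GL (Fin n) F) : Matrix (Fin n) (Fin n) F)
      = 1 := by rw [← Units.val_mul, mul_inv_cancel, Units.val_one]
  have hss : (s : Matrix (Fin n) (Fin n) F)ᵀ
      * ((s⁻¹ : SpecialLinearGroup (Fin n) F) : Matrix (Fin n) (Fin n) F)ᵀ = 1 := by
    rw [← Matrix.transpose_mul, coe_inv_mul_coe, Matrix.transpose_one]
  constructor
  · intro h
    have h1 := congrArg (fun t : SpecialLinearGroup (Fin n) F => (t : Matrix (Fin n) (Fin n) F)) h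
    beta_reduce at h1
    rw [thetaG_coe] at h1
    -- `c * s⁻ᵀ * c⁻¹ = s`
    calc (s : Matrix (Fin n) (Fin n) F)ᵀ
          * ((c⁻¹ : GL (Fin n) F) : Matrix (Fin n) (Fin n) F) * (s : Matrix (Fin n) (Fin n) F)
        = (s : Matrix (Fin n) (Fin n) F)ᵀ
          * ((c⁻¹ : GL (Fin n) F) : Matrix (Fin n) (Fin n) F) * ((c : Matrix (Fin n) (Fin n) F)
          * ((s⁻¹ : SpecialLinearGroup (Fin n) F) : Matrix (Fin n) (Fin n) F)ᵀ
          * ((c⁻¹ : GL (Fin n) F) : Matrix (Fin n) (Fin n) F)) := by rw [h1]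
      _ = (s : Matrix (Fin n) (Fin n) F)ᵀ
          * (((c⁻¹ : GL (Fin n) F) : Matrix (Fin n) (Fin n) F) * (c : Matrix (Fin n) (Fin n) F))
          * ((s⁻¹ : SpecialLinearGroup (Fin n) F) : Matrix (Fin n) (Fin n) F)ᵀ
          * ((c⁻¹ : GL (Fin n) F) : Matrix (Fin n) (Fin n) F) := by
            simp only [Matrix.mul_assoc]
      _ = ((c⁻¹ : GL (Fin n) F) : Matrix (Fin n) (Fin n) F) := by
            rw [hcc, Matrix.mul_one, hss, Matrix.one_mul]
  · intro h
    apply Subtype.ext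
    rw [thetaG_coe]
    have h2 : ((s⁻¹ : SpecialLinearGroup (Fin n) F) : Matrix (Fin n) (Fin n) F)ᵀ
        * ((c⁻¹ : GL (Fin n) F) : Matrix (Fin n) (Fin n) F)
        = ((c⁻¹ : GL (Fin n) F) : Matrix (Fin n) (Fin n) F) * (s : Matrix (Fin n) (Fin n) F) := by
      have hss' : ((s⁻¹ : SpecialLinearGroup (Fin n) F) : Matrix (Fin n) (Fin n) F)ᵀ
          * (s : Matrix (Fin n) (Fin n) F)ᵀ = 1 := by
        rw [← Matrix.transpose_mul, coe_mul_coe_inv, Matrix.transpose_one]
      calc ((s⁻¹ : SpecialLinearGroup (Fin n) F) : Matrix (Fin n) (Fin n) F)ᵀ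
            * ((c⁻¹ : GL (Fin n) F) : Matrix (Fin n) (Fin n) F)
          = ((s⁻¹ : SpecialLinearGroup (Fin n) F) : Matrix (Fin n) (Fin n) F)ᵀ
            * ((s : Matrix (Fin n) (Fin n) F)ᵀ
            * ((c⁻¹ : GL (Fin n) F) : Matrix (Fin n) (Fin n) F)
            * (s : Matrix (Fin n) (Fin n) F)) := by rw [h]
        _ = (((s⁻¹ : SpecialLinearGroup (Fin n) F) : Matrix (Fin n) (Fin n) F)ᵀ
            * (s : Matrix (Fin n) (Fin n) F)ᵀ)
            * ((c⁻¹ : GL (Fin n) F) : Matrix (Fin n) (Fin n) F)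
            * (s : Matrix (Fin n) (Fin n) F) := by simp only [Matrix.mul_assoc]
        _ = ((c⁻¹ : GL (Fin n) F) : Matrix (Fin n) (Fin n) F)
            * (s : Matrix (Fin n) (Fin n) F) := by rw [hss', Matrix.one_mul]
    rw [Matrix.mul_assoc, h2, ← Matrix.mul_assoc, hcc', Matrix.one_mul]

end Theta

end Cfsg.Agent.Lib.Helper5.LBal
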