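import Mathlib
import Cfsg.Agent.Lib.Helper5.LBal.GraphO1
import Cfsg.Agent.Lib.Helper5.LBal.Theta
import Cfsg.Agent.Lib.Helper5.LBal.PSLPipe

set_option autoImplicit false

/-! Graph automorphisms of orthogonal type: subgroups of odd order of fixed points normalized by
the Eichler transformations are trivial. -/

namespace Cfsg.Agent.Lib.Helper5.LBal

open Matrix Module QuadraticMap Cfsg.Agent.Lib.Helper5.SLnAut Cfsg.Agent.Lib.Helper5.GInv
  Cfsg.Agent.Lib.Helper5.GraphInv

section EichPow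
variable {k : Type*} [Field k] {W : Type*} [AddCommGroup W] [Module k W]
variable (Q : QuadraticForm k W)

theorem eichE_pow_apply (e u : W) (he : Q e = 0) (heu : polar Q e u = 0) (j : ℕ) (x : W) :
    ((eichE Q e u he heu) ^ j) x = eich Q e ((j : k) • u) x := by
  induction j generalizing x with
  | zero =>
    rw [pow_zero, Nat.cast_zero, zero_smul, eich_zero]
    rfl
  | succ j ih =>
    rw [pow_succ, LinearEquiv.mul_apply, ih, eichE_apply,
      eich_comp Q he heu (by rw [polar_smul_right, heu, smul_zero])]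
    congr 1
    rw [Nat.cast_succ, add_smul, one_smul, add_comm]

theorem eichE_pow_char (r : ℕ) [CharP k r] (e u : W) (he : Q e = 0) (heu : polar Q e u = 0) :
    (eichE Q e u he heu) ^ r = 1 := by
  apply LinearEquiv.ext
  intro x
  rw [eichE_pow_apply, CharP.cast_eq_zero, zero_smul, eich_zero]
  rfl

end EichPow

section GraphO2
variable {n : ℕ} {F : Type*} [Field F] [Fintype F]

theorem transpose_inv_of_symm (c : GL (Fin n) F)
    (hc : (c : Matrix (Fin n) (Fin n) F)ᵀ = (c : Matrix (Fin n) (Fin n) F)) :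
    ((c⁻¹ : GL (Fin n) F) : Matrix (Fin n) (Fin n) F)ᵀ
      = ((c⁻¹ : GL (Fin n) F) : Matrix (Fin n) (Fin n) F) := by
  rw [Matrix.coe_units_inv, Matrix.transpose_nonsing_inv, hc]

/-- the Eichler transformations as matrices of determinant one -/
noncomputable def eichSL (r : ℕ) [Fact r.Prime] [CharP F r] (M : Matrix (Fin n) (Fin n) F)
    (e u : Fin n → F) (he : QM M e = 0) (heu : polar (QM M) e u = 0) :
    SpecialLinearGroup (Fin n) F :=
  ofLinSL (eichE (QM M) e u he heu)
    (det_eq_one_of_pow_char r _ (eichE_pow_char (QM M) r e u he heu))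

theorem toLin'_eichSL (r : ℕ) [Fact r.Prime] [CharP F r] (M : Matrix (Fin n) (Fin n) F)
    (e u : Fin n → F) (he : QM M e = 0) (heu : polar (QM M) e u = 0) :
    Matrix.SpecialLinearGroup.toLin' (eichSL r M e u he heu) = eichE (QM M) e u he heu :=
  toLin'_ofLinSL _ _

theorem eichSL_pow (r : ℕ) [Fact r.Prime] [CharP F r] (M : Matrix (Fin n) (Fin n) F)
    (e u : Fin n → F) (he : QM M e = 0) (heu : polar (QM M) e u = 0) :
    (eichSL r M e u he heu) ^ r = 1 := by
  apply Matrix.SpecialLinearGroup.toLin'_injective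
  rw [map_pow, toLin'_eichSL, eichE_pow_char, map_one]

/-- the set of Eichler transformations -/
def eichSet (r : ℕ) [Fact r.Prime] [CharP F r] (M : Matrix (Fin n) (Fin n) F) :
    Set (SpecialLinearGroup (Fin n) F) :=
  {l | ∃ (e u : Fin n → F) (he : QM M e = 0) (heu : polar (QM M) e u = 0),
    l = eichSL r M e u he heu}

theorem isom_of_fix (h2 : (2 : F) ≠ 0) (c : GL (Fin n) F)
    (hc : (c : Matrix (Fin n) (Fin n) F)ᵀ = (c : Matrix (Fin n) (Fin n) F))
    (s : SpecialLinearGroup (Fin n) F) :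
    thetaG c s = s ↔ ∀ v, QM ((c⁻¹ : GL (Fin n) F) : Matrix (Fin n) (Fin n) F)
      (Matrix.SpecialLinearGroup.toLin' s v)
      = QM ((c⁻¹ : GL (Fin n) F) : Matrix (Fin n) (Fin n) F) v := by
  rw [thetaG_fix_iff, ← isom_iff h2 (transpose_inv_of_symm c hc)]
  constructor
  · intro h v
    rw [toLin'_apply_mulVec]
    exact h v
  · intro h v
    rw [← toLin'_apply_mulVec]
    exact h v

theorem eichSet_fix (r : ℕ) [Fact r.Prime] [CharP F r] (h2 : (2 : F) ≠ 0) (c : GL (Fin n) F)
    (hc : (c : Matrix (Fin n) (Fin n) F)ᵀ = (c : Matrix (Fin n) (Fin n) F))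
    (l : SpecialLinearGroup (Fin n) F)
    (hl : l ∈ eichSet r ((c⁻¹ : GL (Fin n) F) : Matrix (Fin n) (Fin n) F)) : thetaG c l = l := by
  obtain ⟨e, u, he, heu, rfl⟩ := hl
  rw [isom_of_fix h2 c hc]
  intro v
  rw [toLin'_eichSL, eichE_apply, Q_eich _ he heu]

set_option maxHeartbeats 800000 in
/-- a group of odd order of fixed matrices normalized by the Eichler transformations is trivial -/
theorem hnc_orth (r : ℕ) [Fact r.Prime] [CharP F r] (h2 : (2 : F) ≠ 0) (hn : 3 ≤ n)
    (c : GL (Fin n) F)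
    (hc : (c : Matrix (Fin n) (Fin n) F)ᵀ = (c : Matrix (Fin n) (Fin n) F))
    (H : Subgroup (SpecialLinearGroup (Fin n) F)) (hfix : ∀ h ∈ H, thetaG c h = h)
    (hodd : Odd (Nat.card H))
    (hnorm : ∀ l ∈ eichSet r ((c⁻¹ : GL (Fin n) F) : Matrix (Fin n) (Fin n) F),
      ∀ h ∈ H, l * h * l⁻¹ ∈ H) : ∀ h ∈ H, piN h = 1 := by
  classical
  set M : Matrix (Fin n) (Fin n) F := ((c⁻¹ : GL (Fin n) F) : Matrix (Fin n) (Fin n) F) with hM
  have hMs : Mᵀ = M := transpose_inv_of_symm c hc
  have hQ : (polarBilin (QM M)).Nondegenerate :=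
    QM_nondeg h2 hMs (c : Matrix (Fin n) (Fin n) F)
      (by rw [hM, ← Units.val_mul, inv_mul_cancel, Units.val_one])
  set D : Subgroup ((Fin n → F) ≃ₗ[F] (Fin n → F)) :=
    H.map (Matrix.SpecialLinearGroup.toLin' : SpecialLinearGroup (Fin n) F →* _) with hD
  have hinj := Matrix.SpecialLinearGroup.toLin'_injective (n := Fin n) (R := F)
  have hDodd : Odd (Nat.card D) := by
    rw [hD, Subgroup.card_map_of_injective hinj]
    exact hodd
  have hd : 3 ≤ finrank F (Fin n → F) := by
    rw [Module.finrank_fin_fun]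
    exact hn
  have hall := nc_all (QM M) h2 hQ hd D hDodd
    (by
      rintro _ ⟨h, hh, rfl⟩ x
      exact (isom_of_fix h2 c hc h).1 (hfix h hh) x)
    (by
      rintro e u he heu _ ⟨h, hh, rfl⟩
      have h1 := hnorm (eichSL r M e u he heu) ⟨e, u, he, heu, rfl⟩ h hh
      refine ⟨_, h1, ?_⟩
      rw [map_mul, map_mul, map_inv, toLin'_eichSL])
  intro h hh
  have h1 : Matrix.SpecialLinearGroup.toLin' h = 1 := by
    apply LinearEquiv.ext
    intro x
    exact hall _ ⟨h, hh, rfl⟩ x
  have h3 : h = 1 := hinj (by rw [h1, map_one])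
  rw [h3, map_one]

end GraphO2

end Cfsg.Agent.Lib.Helper5.LBal
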