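import Mathlib
import Cfsg.Agent.Lib.Helper5.LBal.SLTools
import Cfsg.Agent.Lib.Helper5.SLnOut3

set_option autoImplicit false

/-! The semilinear map attached to an automorphism `semi h τ`, and what it means for the
automorphism to fix the image of a matrix of order dividing the characteristic. -/

namespace Cfsg.Agent.Lib.Helper5.LBal

open Matrix Cfsg.Agent.Lib.Helper5.SLnAut

section SemiComm
variable {ι : Type*} [Fintype ι] [DecidableEq ι] {F : Type*} [Field F]

/-- the semilinear map `v ↦ h τ(v)` -/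
def vsemi (h : GL ι F) (τ : F ≃+* F) (v : ι → F) : ι → F :=
  (h : Matrix ι ι F) *ᵥ (fun i => τ (v i))

theorem vsemi_add (h : GL ι F) (τ : F ≃+* F) (v w : ι → F) :
    vsemi h τ (v + w) = vsemi h τ v + vsemi h τ w := by
  unfold vsemi
  rw [← Matrix.mulVec_add]
  congr 1
  ext i
  simp

theorem vsemi_smul (h : GL ι F) (τ : F ≃+* F) (a : F) (v : ι → F) :
    vsemi h τ (a • v) = τ a • vsemi h τ v := by
  unfold vsemi
  rw [← Matrix.mulVec_smul]
  congr 1
  ext i
  simp

theorem vsemi_inj (h : GL ι F) (τ : F ≃+* F) (v : ι → F) (hv : vsemi h τ v = 0) : v = 0 := by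
  unfold vsemi at hv
  have h1 := congrArg (fun w => ((h⁻¹ : GL ι F) : Matrix ι ι F) *ᵥ w) hv
  beta_reduce at h1
  rw [Matrix.mulVec_mulVec, ← Units.val_mul, inv_mul_cancel, Units.val_one, Matrix.one_mulVec,
    Matrix.mulVec_zero] at h1
  ext i
  have h2 := congrFun h1 i
  simp only [Pi.zero_apply] at h2 ⊢
  exact (map_eq_zero_iff τ τ.injective).1 h2

/-- if `semi h τ` fixes the image of a matrix of order dividing the characteristic then the
semilinear map of `h, τ` commutes with the matrix -/
theorem vsemi_comm_of_fix (r : ℕ) [Fact r.Prime] [CharP F r] (h : GL ι F) (τ : F ≃+* F)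
    (l : SpecialLinearGroup ι F) (hl : l ^ r = 1) (hfix : semi h τ (piN l) = piN l)
    (v : ι → F) :
    vsemi h τ ((l : Matrix ι ι F) *ᵥ v) = (l : Matrix ι ι F) *ᵥ vsemi h τ v := by
  rw [semi_pi] at hfix
  have h1 : glConj h (fieldAut τ l) = l := by
    apply eq_of_piN_eq_of_pow_char r _ _ hfix _ hl
    rw [← map_pow, ← map_pow, hl, map_one, map_one]
  have h2 := congrArg (fun t : SpecialLinearGroup ι F => (t : Matrix ι ι F)) h1
  beta_reduce at h2
  rw [glConj_coe, fieldAut_coe] at h2
  have h3 : (h : Matrix ι ι F) * (l : Matrix ι ι F).map τ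
      = (l : Matrix ι ι F) * (h : Matrix ι ι F) := by
    have h4 := congrArg (fun M => M * (h : Matrix ι ι F)) h2
    beta_reduce at h4
    rw [Matrix.mul_assoc, ← Units.val_mul, inv_mul_cancel, Units.val_one, Matrix.mul_one] at h4
    exact h4
  unfold vsemi
  have h5 : (fun i => τ (((l : Matrix ι ι F) *ᵥ v) i))
      = ((l : Matrix ι ι F).map τ) *ᵥ (fun i => τ (v i)) := by
    ext i
    exact RingHom.map_mulVec (τ : F →+* F) (l : Matrix ι ι F) v i
  rw [h5, Matrix.mulVec_mulVec, h3, Matrix.mulVec_mulVec]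

/-- a scalar semilinear map with trivial field automorphism gives the trivial automorphism -/
theorem semi_eq_one_of_scalar [Nonempty ι] (h : GL ι F) (τ : F ≃+* F) (hτ : ∀ t, τ t = t) (κ : F)
    (hκ : ∀ v, vsemi h τ v = κ • v) : semi h τ = 1 := by
  have hτ1 : τ = 1 := RingEquiv.ext hτ
  have hv : ∀ v : ι → F, (h : Matrix ι ι F) *ᵥ v = κ • v := by
    intro v
    have := hκ v
    unfold vsemi at this
    simp only [hτ] at this
    exact this
  have h1 : (h : Matrix ι ι F) = κ • (1 : Matrix ι ι F) := by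
    ext i j
    have := congrFun (hv (Pi.single j 1)) i
    rw [Matrix.mulVec_single_one, Matrix.col_apply] at this
    rw [Matrix.smul_apply, Matrix.one_apply, smul_eq_mul, this, Pi.smul_apply, Pi.single_apply,
      smul_eq_mul]
  have hκ0 : κ ≠ 0 := by
    intro h0
    rw [h0, zero_smul] at h1
    have h2 : (h : Matrix ι ι F) * ((h⁻¹ : GL ι F) : Matrix ι ι F) = 1 := by
      rw [← Units.val_mul, mul_inv_cancel, Units.val_one]
    rw [h1, Matrix.zero_mul] at h2
    obtain ⟨i⟩ : Nonempty ι := inferInstance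
    have := congrFun (congrFun h2 i) i
    rw [Matrix.zero_apply, Matrix.one_apply_eq] at this
    exact absurd this zero_ne_one
  rw [hτ1, ← semi_one_one]
  apply semi_eq_of_smul _ _ 1 κ hκ0
  rw [Units.val_one]
  exact h1

end SemiComm

end Cfsg.Agent.Lib.Helper5.LBal
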