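import Mathlib
import Cfsg.Agent.Lib.Helper5.LBal.GraphO2
import Cfsg.Agent.Lib.Helper5.LBal.SemiComm
import Cfsg.Agent.Lib.Helper5.LBal.Core
import Cfsg.Agent.Lib.Helper5.GInv.SLcomm

set_option autoImplicit false

/-! Graph automorphisms of orthogonal type have centralizers with trivial core. -/

namespace Cfsg.Agent.Lib.Helper5.LBal

open Matrix Module QuadraticMap Cfsg.Agent.Lib.Helper5.SLnAut Cfsg.Agent.Lib.Helper5.GInv
  Cfsg.Agent.Lib.Helper5.GraphInv Cfsg.Agent.Lib.Helper5.PSpBal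

section GraphO3
variable {n : ℕ} {F : Type*} [Field F] [Fintype F]

set_option maxHeartbeats 800000 in
/-- an automorphism of semilinear type fixing the Eichler transformations is trivial -/
theorem semi_eq_one_of_fix_eich (r : ℕ) [Fact r.Prime] [CharP F r] (h2 : (2 : F) ≠ 0)
    (hn : 3 ≤ n) (c : GL (Fin n) F)
    (hc : (c : Matrix (Fin n) (Fin n) F)ᵀ = (c : Matrix (Fin n) (Fin n) F))
    (h : GL (Fin n) F) (τ : F ≃+* F)
    (hfix : ∀ l ∈ eichSet r ((c⁻¹ : GL (Fin n) F) : Matrix (Fin n) (Fin n) F),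
      semi h τ (piN l) = piN l) : semi h τ = 1 := by
  haveI : Nonempty (Fin n) := ⟨⟨0, by omega⟩⟩
  set M : Matrix (Fin n) (Fin n) F := ((c⁻¹ : GL (Fin n) F) : Matrix (Fin n) (Fin n) F) with hM
  have hMs : Mᵀ = M := transpose_inv_of_symm c hc
  have hQ : (polarBilin (QM M)).Nondegenerate :=
    QM_nondeg h2 hMs (c : Matrix (Fin n) (Fin n) F)
      (by rw [hM, ← Units.val_mul, inv_mul_cancel, Units.val_one])
  have hd : 3 ≤ finrank F (Fin n → F) := by
    rw [Module.finrank_fin_fun]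
    exact hn
  obtain ⟨hτ, κ, hκ⟩ := sl_of_comm (QM M) h2 hQ hd (fun t => τ t) (map_one τ)
    (map_ofNat τ 2) (vsemi h τ)
    (vsemi_add h τ) (vsemi_smul h τ) (vsemi_inj h τ)
    (by
      intro e u he heu x
      have h1 := vsemi_comm_of_fix r h τ (eichSL r M e u he heu) (eichSL_pow r M e u he heu)
        (hfix _ ⟨e, u, he, heu, rfl⟩)
      have h3 : ∀ y, ((eichSL r M e u he heu : SpecialLinearGroup (Fin n) F) :
          Matrix (Fin n) (Fin n) F) *ᵥ y = eich (QM M) e u y := by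
        intro y
        rw [← toLin'_apply_mulVec, toLin'_eichSL, eichE_apply]
      have h4 := h1 x
      rw [h3, h3] at h4
      exact h4)
  exact semi_eq_one_of_scalar h τ hτ κ hκ

set_option maxHeartbeats 800000 in
/-- an automorphism of odd order fixing the Eichler transformations is trivial -/
theorem hB_orth {p f : ℕ} [Fact p.Prime] (hf : 1 ≤ f) (hF : Fintype.card F = p ^ f)
    (r : ℕ) [Fact r.Prime] [CharP F r] (h2 : (2 : F) ≠ 0)
    (hn : 3 ≤ n) (c : GL (Fin n) F)
    (hc : (c : Matrix (Fin n) (Fin n) F)ᵀ = (c : Matrix (Fin n) (Fin n) F))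
    (ν : MulAut (ProjectiveSpecialLinearGroup (Fin n) F))
    (hfix : ∀ l ∈ eichSet r ((c⁻¹ : GL (Fin n) F) : Matrix (Fin n) (Fin n) F),
      ν (piN l) = piN l)
    (hodd : (orderOf ν).Coprime 2) : ν = 1 := by
  obtain ⟨h, τ, ε, rfl⟩ := exists_std hf hF (by omega : 2 ≤ n) ν
  rcases zmod2_cases ε with rfl | rfl
  · unfold std at hfix ⊢
    rw [tauPow_zero, mul_one] at hfix ⊢
    exact semi_eq_one_of_fix_eich r h2 hn c hc h τ hfix
  · exfalso
    have hx : gam c = std c 1 1 := by
      unfold gam std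
      rw [tauPow_one]
    obtain ⟨g'', hg''⟩ := std_mul_std h c τ 1 1 1
    have h11 : (1 : ZMod 2) + 1 = 0 := by decide
    rw [h11, mul_one] at hg''
    have hfix' : ∀ l ∈ eichSet r ((c⁻¹ : GL (Fin n) F) : Matrix (Fin n) (Fin n) F),
        semi g'' τ (piN l) = piN l := by
      intro l hl
      have h3 : std g'' τ 0 = semi g'' τ := by
        unfold std
        rw [tauPow_zero, mul_one]
      rw [← h3, ← hg'', MulAut.mul_apply, ← hx, ← quotAut_thetaG, quotAut_pi,
        eichSet_fix r h2 c hc l hl]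
      exact hfix l hl
    have h4 := semi_eq_one_of_fix_eich r h2 hn c hc g'' τ hfix'
    have h5 : std g'' τ 0 = 1 := by
      unfold std
      rw [tauPow_zero, mul_one]
      exact h4
    rw [h5] at hg''
    have h6 : std h τ 1 = (gam c)⁻¹ := by
      rw [hx]
      exact eq_inv_of_mul_eq_one_left hg''
    have h7 : orderOf (gam c) = 2 :=
      (orderOf_gam_eq_two_iff hn c).2 ⟨1, one_ne_zero, by rw [one_smul, hc]⟩
    rw [h6, orderOf_inv, h7] at hodd
    exact absurd hodd (by decide)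

/-- the centralizer of a graph automorphism of orthogonal type has trivial core -/
theorem no_core_graph_orth {p f : ℕ} [Fact p.Prime] (hf : 1 ≤ f) (hF : Fintype.card F = p ^ f)
    (r : ℕ) [Fact r.Prime] [CharP F r] (h2 : (2 : F) ≠ 0)
    (hn : 3 ≤ n) (c : GL (Fin n) F)
    (hc : (c : Matrix (Fin n) (Fin n) F)ᵀ = (c : Matrix (Fin n) (Fin n) F))
    (A : Subgroup (MulAut (ProjectiveSpecialLinearGroup (Fin n) F)))
    (hinn : ∀ k : ProjectiveSpecialLinearGroup (Fin n) F, MulAut.conj k ∈ A)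
    (N : Subgroup (MulAut (ProjectiveSpecialLinearGroup (Fin n) F)))
    (hN : HasCore 2 A (gam c) N) : False := by
  haveI : Nontrivial (Fin n) := Fin.nontrivial_iff_two_le.2 (by omega)
  haveI := finite_PSL (ι := Fin n) (F := F)
  set M : Matrix (Fin n) (Fin n) F := ((c⁻¹ : GL (Fin n) F) : Matrix (Fin n) (Fin n) F) with hM
  refine no_core_abstract conj_injective_PSL 2 A hinn (gam c) (piN '' eichSet r M) ?_ ?_ ?_ N hN
  · rintro _ ⟨l, hl, rfl⟩
    rw [← quotAut_thetaG, quotAut_pi, eichSet_fix r h2 c hc l hl]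
  · intro D hDfix hDcop hDnorm
    apply hA_of_nc (thetaG c) (thetaG_invol c 1 one_ne_zero (by rw [one_smul, hc]))
      (eichSet r M) (eichSet_fix r h2 c hc) (hnc_orth r h2 hn c hc) D
    · intro d hd
      rw [quotAut_thetaG]
      exact hDfix d hd
    · exact hDcop
    · intro l hl d hd
      exact hDnorm _ ⟨l, hl, rfl⟩ d hd
  · intro ν _ hνfix hνodd
    apply hB_orth hf hF r h2 hn c hc ν _ hνodd
    intro l hl
    exact hνfix _ ⟨l, hl, rfl⟩

end GraphO3

end Cfsg.Agent.Lib.Helper5.LBal
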