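import Mathlib

set_option autoImplicit false

/-! Symplectic transvections of an abstract alternating space, and semilinear maps fixing all
points. -/

namespace Cfsg.Agent.Lib.Helper5.LBal

open Module

section Tv
variable {k : Type*} [Field k] {W : Type*} [AddCommGroup W] [Module k W]
variable (B : LinearMap.BilinForm k W)

/-- the transvection `x ↦ x + c B(x,u) u` -/
def tv (u : W) (c : k) : W →ₗ[k] W :=
  LinearMap.id + c • (B.flip u).smulRight u

theorem tv_apply (u : W) (c : k) (x : W) : tv B u c x = x + (c * B x u) • u := by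
  have h1 : (B.flip u) x = B x u := rfl
  simp only [tv, LinearMap.add_apply, LinearMap.id_coe, id_eq, LinearMap.smul_apply,
    LinearMap.smulRight_apply, mul_smul, h1]

variable {B}

theorem alt_swap' (hB : B.IsAlt) (x y : W) : B x y = -B y x := by
  have := hB.neg_eq x y
  rw [← this, neg_neg]

theorem B_tv (hB : B.IsAlt) (u : W) (c : k) (x y : W) : B (tv B u c x) (tv B u c y) = B x y := by
  rw [tv_apply, tv_apply, map_add, map_add, LinearMap.add_apply, LinearMap.add_apply, map_smul,
    map_smul, map_smul, LinearMap.smul_apply, LinearMap.smul_apply, hB.self_eq_zero u,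
    alt_swap' hB u y]
  simp only [smul_eq_mul]
  ring

theorem tv_comp (hB : B.IsAlt) (u : W) (c d : k) (x : W) :
    tv B u d (tv B u c x) = tv B u (c + d) x := by
  rw [tv_apply, tv_apply, tv_apply, map_add, LinearMap.add_apply, map_smul, LinearMap.smul_apply,
    hB.self_eq_zero u]
  module

theorem tv_zero (u : W) (x : W) : tv B u 0 x = x := by
  rw [tv_apply]
  simp

/-- the transvection as a linear equivalence -/
def tvE (hB : B.IsAlt) (u : W) (c : k) : W ≃ₗ[k] W :=
  LinearEquiv.ofLinear (tv B u c) (tv B u (-c))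
    (by
      ext x
      rw [LinearMap.comp_apply, tv_comp hB, neg_add_cancel, tv_zero, LinearMap.id_apply])
    (by
      ext x
      rw [LinearMap.comp_apply, tv_comp hB, add_neg_cancel, tv_zero, LinearMap.id_apply])

@[simp] theorem tvE_apply (hB : B.IsAlt) (u : W) (c : k) (x : W) :
    tvE hB u c x = tv B u c x := rfl

theorem tvE_symm_apply (hB : B.IsAlt) (u : W) (c : k) (x : W) :
    (tvE hB u c).symm x = tv B u (-c) x := rfl

theorem tv_fix {u x : W} (c : k) (h : B x u = 0) : tv B u c x = x := by
  rw [tv_apply, h]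
  simp

end Tv

section Points
variable {k : Type*} [Field k] {W : Type*} [AddCommGroup W] [Module k W]

/-- an injective semilinear map fixing all points of a space of dimension at least two is a
scalar multiplication, and the field map is the identity -/
theorem scalar_of_fix_points (hd : 2 ≤ finrank k W) (τ : k → k) (f : W → W)
    (hadd : ∀ x y, f (x + y) = f x + f y) (hsmul : ∀ (c : k) (x : W), f (c • x) = τ c • f x)
    (hinj : ∀ x, f x = 0 → x = 0) (hfix : ∀ x : W, x ≠ 0 → ∃ c : k, f x = c • x) :
    (∀ t, τ t = t) ∧ ∃ κ : k, ∀ x, f x = κ • x := by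
  classical
  have hf0 : f 0 = 0 := by
    have := hadd 0 0
    rw [add_zero] at this
    exact left_eq_add.1 this
  haveI : FiniteDimensional k W := FiniteDimensional.of_finrank_pos (by omega)
  -- two independent vectors
  obtain ⟨x₀, y₀, hli₀⟩ : ∃ x₀ y₀ : W, LinearIndependent k ![x₀, y₀] := by
    have h1 : (2 : Cardinal) ≤ Module.rank k W := by
      rw [← finrank_eq_rank]
      exact_mod_cast hd
    obtain ⟨s, hs1, hs2⟩ := (le_rank_iff_exists_linearIndependent_finset (n := 2)).1 (by exact_mod_cast h1)
    obtain ⟨x₀, y₀, hxy, rfl⟩ := Finset.card_eq_two.1 hs1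
    refine ⟨x₀, y₀, ?_⟩
    rw [LinearIndependent.pair_iff]
    intro a b hab
    have h3 := (linearIndependent_iff'.1 hs2) {⟨x₀, by simp⟩, ⟨y₀, by simp⟩}
      (fun z => if (z : W) = x₀ then a else b) (by
        rw [Finset.sum_pair (by
          intro h
          exact hxy (congrArg Subtype.val h))]
        simp only [if_true]
        rw [if_neg (Ne.symm hxy)]
        exact hab)
    have ha := h3 ⟨x₀, by simp⟩ (by simp)
    have hb := h3 ⟨y₀, by simp⟩ (by simp)
    simp only [if_true] at ha
    rw [if_neg (Ne.symm hxy)] at hb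
    exact ⟨ha, hb⟩
  -- the multiplier of a vector
  have hmult : ∀ x y : W, LinearIndependent k ![x, y] → ∀ a b : k, f x = a • x → f y = b • y →
      a = b := by
    intro x y hli a b hx hy
    have hxy0 : x + y ≠ 0 := by
      intro h
      have := (LinearIndependent.pair_iff.1 hli) 1 1 (by rw [one_smul, one_smul]; exact h)
      exact one_ne_zero this.1
    obtain ⟨c, hc⟩ := hfix (x + y) hxy0
    rw [hadd, hx, hy, smul_add] at hc
    have h1 : (a - c) • x + (b - c) • y = 0 := by
      rw [sub_smul, sub_smul]
      have := sub_eq_zero.2 hc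
      rw [← this]
      abel
    obtain ⟨h2, h3⟩ := (LinearIndependent.pair_iff.1 hli) _ _ h1
    rw [sub_eq_zero.1 h2, sub_eq_zero.1 h3]
  have hx₀0 : x₀ ≠ 0 := by
    have := hli₀.ne_zero 0
    simpa using this
  obtain ⟨κ, hκ⟩ := hfix x₀ hx₀0
  have hall : ∀ x : W, f x = κ • x := by
    intro x
    by_cases hx0 : x = 0
    · rw [hx0, hf0, smul_zero]
    obtain ⟨a, ha⟩ := hfix x hx0
    by_cases hli : LinearIndependent k ![x₀, x]
    · rw [ha, ← hmult x₀ x hli κ a hκ ha]
    · -- `x` is a multiple of `x₀`; compare with `y₀`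
      have hy₀0 : y₀ ≠ 0 := by
        have := hli₀.ne_zero 1
        simpa using this
      obtain ⟨b, hb⟩ := hfix y₀ hy₀0
      have hκb : κ = b := hmult x₀ y₀ hli₀ κ b hκ hb
      have hli' : LinearIndependent k ![x, y₀] := by
        rw [LinearIndependent.pair_iff] at hli ⊢
        push Not at hli
        obtain ⟨s, t, hst, hne⟩ := hli
        have ht : t ≠ 0 := by
          intro ht
          rw [ht, zero_smul, add_zero] at hst
          rcases smul_eq_zero.1 hst with h | h
          · exact hne h ht
          · exact hx₀0 h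
        intro a' b' hab
        have hx : x = (-(t⁻¹ * s)) • x₀ := by
          have h3 : t • x = -(s • x₀) := eq_neg_of_add_eq_zero_right hst
          have h4 : x = t⁻¹ • (t • x) := by rw [smul_smul, inv_mul_cancel₀ ht, one_smul]
          rw [h4, h3, smul_neg, smul_smul, neg_smul]
        rw [hx, smul_smul] at hab
        obtain ⟨h5, h6⟩ := (LinearIndependent.pair_iff.1 hli₀) _ _ hab
        refine ⟨?_, h6⟩
        rcases mul_eq_zero.1 h5 with h | h
        · exact h
        · exfalso
          apply hx0
          rw [hx, h, zero_smul]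
      rw [ha, hmult x y₀ hli' a b ha hb, hκb]
  refine ⟨fun t => ?_, κ, hall⟩
  have h1 := hsmul t x₀
  rw [hall, hall, smul_smul, mul_comm] at h1
  have hκ0 : κ ≠ 0 := by
    intro h
    apply hx₀0
    apply hinj
    rw [hall, h, zero_smul]
  have h2 : (t * κ - τ t * κ) • x₀ = 0 := by
    rw [sub_smul, h1, smul_smul, sub_self]
  rcases smul_eq_zero.1 h2 with h | h
  · have h3 : (t - τ t) * κ = 0 := by rw [sub_mul]; exact h
    rcases mul_eq_zero.1 h3 with h4 | h4
    · exact (sub_eq_zero.1 h4).symm
    · exact absurd h4 hκ0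
  · exact absurd h hx₀0

end Points

end Cfsg.Agent.Lib.Helper5.LBal
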