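import Mathlib
import Cfsg.Agent.Lib.Helper5.LBal.SpTv
import Cfsg.Agent.Lib.Helper5.LBal.NC4b
import Cfsg.Agent.Lib.Helper5.AltForm

set_option autoImplicit false

/-! A group of isometries of odd order of a nondegenerate alternating space over a finite field of
odd characteristic which is normalized by the symplectic transvections is trivial. -/

namespace Cfsg.Agent.Lib.Helper5.LBal

open Module Cfsg.Agent.Lib.Helper5.GInv
open scoped Pointwise

section NCSp
variable {k : Type*} [Field k] {W : Type*} [AddCommGroup W] [Module k W]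

theorem even_sum_pow_of_odd {q : ℕ} (hq : Odd q) (m : ℕ) :
    Even (∑ i ∈ Finset.range (2 * m), q ^ i) := by
  induction m with
  | zero => simp
  | succ m ih =>
    have h1 : 2 * (m + 1) = 2 * m + 1 + 1 := by ring
    rw [h1, Finset.sum_range_succ, Finset.sum_range_succ, add_assoc]
    apply Even.add ih
    have h2 : q ^ (2 * m) + q ^ (2 * m + 1) = q ^ (2 * m) * (1 + q) := by ring
    rw [h2]
    apply Even.mul_left
    rw [add_comm]
    exact Odd.add_one hq

variable [Finite k] [FiniteDimensional k W] {B : LinearMap.BilinForm k W}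

/-- the number of points of a space of even dimension over a field of odd order is even -/
theorem even_card_points (h2 : (2 : k) ≠ 0) {m : ℕ} (hm : finrank k W = 2 * m) :
    Even (Nat.card {P : Submodule k W // ∃ e : W, e ≠ 0 ∧ P = Submodule.span k {e}}) := by
  classical
  haveI : Fintype k := Fintype.ofFinite k
  have h1 : Nat.card {P : Submodule k W // ∃ e : W, e ≠ 0 ∧ P = Submodule.span k {e}}
      = Nat.card (Projectivization k W) := by
    apply Nat.card_congr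
    refine (Equiv.ofBijective (fun p : Projectivization k W =>
      (⟨p.submodule, p.rep, p.rep_nonzero, by
        conv_lhs => rw [← Projectivization.mk_rep p]
        rw [Projectivization.submodule_mk]⟩ :
        {P : Submodule k W // ∃ e : W, e ≠ 0 ∧ P = Submodule.span k {e}})) ⟨?_, ?_⟩).symm
    · intro p p' h
      apply Projectivization.submodule_injective
      exact congrArg Subtype.val h
    · rintro ⟨P, e, he0, rfl⟩
      refine ⟨Projectivization.mk k e he0, ?_⟩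
      apply Subtype.ext
      exact Projectivization.submodule_mk e he0
  rw [h1, Projectivization.card_of_finrank k W hm, Nat.card_eq_fintype_card]
  exact even_sum_pow_of_odd (odd_card_of_two_ne_zero h2) m

set_option maxHeartbeats 1600000 in
theorem nc_sp_P1 (h2 : (2 : k) ≠ 0) (hB : B.IsAlt) (hnd : B.Nondegenerate)
    (D : Subgroup (W ≃ₗ[k] W)) (hodd : Odd (Nat.card D))
    (hiso : ∀ δ ∈ D, ∀ x y, B (δ x) (δ y) = B x y)
    (hnorm : ∀ (u : W) (c : k), ∀ δ ∈ D, tvE hB u c * δ * (tvE hB u c)⁻¹ ∈ D) :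
    ∀ δ ∈ D, ∀ e, B (δ e) e = 0 := by
  classical
  haveI : Finite (W ≃ₗ[k] W) := finite_linearEquiv
  have hinvapp' : ∀ (δ : W ≃ₗ[k] W) (x : W), δ⁻¹ (δ x) = x := fun δ x => δ.symm_apply_apply x
  intro δ₀ hδ₀ e₀
  by_contra hne
  have he₀0 : e₀ ≠ 0 := by
    intro h
    apply hne
    rw [h, map_zero]
  -- moving a partner of `e` to another one
  have S1 : ∀ e f f' : W, B e f = 1 → B e f' = 1 → B f f' ≠ 0 → ∀ γ ∈ D, ∀ c : k, γ e = c • f →
      ∃ γ' ∈ D, γ' e = c • f' := by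
    intro e f f' hef hef' hff' γ hγ c hγe
    have hew : B e (f' - f) = 0 := by rw [map_sub, hef, hef', sub_self]
    refine ⟨_, hnorm (f' - f) (B f f')⁻¹ γ hγ, ?_⟩
    have h1 : (tvE hB (f' - f) (B f f')⁻¹)⁻¹ e = e := by
      show (tvE hB (f' - f) (B f f')⁻¹).symm e = e
      rw [tvE_symm_apply]
      exact tv_fix _ hew
    rw [LinearEquiv.mul_apply, LinearEquiv.mul_apply, h1, hγe, map_smul, tvE_apply, tv_apply,
      map_sub, hB.self_eq_zero, sub_zero, inv_mul_cancel₀ hff', one_smul]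
    congr 1
    abel
  have S : ∀ e f f' : W, B e f = 1 → B e f' = 1 → ∀ γ ∈ D, ∀ c : k, γ e = c • f →
      ∃ γ' ∈ D, γ' e = c • f' := by
    intro e f f' hef hef' γ hγ c hγe
    by_cases hff' : B f f' = 0
    · have h3 : B e (f + e) = 1 := by rw [map_add, hef, hB.self_eq_zero, add_zero]
      have h4 : B f (f + e) ≠ 0 := by
        rw [map_add, hB.self_eq_zero, zero_add, alt_swap' hB, hef]
        exact neg_ne_zero.2 one_ne_zero
      have h5 : B (f + e) f' ≠ 0 := by
        rw [map_add, LinearMap.add_apply, hff', hef', zero_add]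
        exact one_ne_zero
      obtain ⟨γ₁, hγ₁, hγ₁e⟩ := S1 e f (f + e) hef h3 h4 γ hγ c hγe
      exact S1 e (f + e) f' h3 hef' h5 γ₁ hγ₁ c hγ₁e
    · exact S1 e f f' hef hef' hff' γ hγ c hγe
  have A1 : ∀ e e' : W, B e e' ≠ 0 →
      (∃ δ ∈ D, ∃ c : k, c ≠ 0 ∧ δ e₀ = c • e) →
      ∃ δ ∈ D, ∃ c : k, c ≠ 0 ∧ δ e₀ = c • e' := by
    rintro e e' hee' ⟨δ₁, hδ₁, c, hc0, hδ₁e⟩
    obtain ⟨g₁, hg₁⟩ : ∃ g₁, g₁ = δ₁ (δ₀ e₀) := ⟨_, rfl⟩
    have hs : B e g₁ = c⁻¹ * B e₀ (δ₀ e₀) := by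
      have h3 : B (δ₁ e₀) g₁ = B e₀ (δ₀ e₀) := by rw [hg₁, hiso δ₁ hδ₁]
      rw [hδ₁e, map_smul, LinearMap.smul_apply, smul_eq_mul] at h3
      rw [← h3, ← mul_assoc, inv_mul_cancel₀ hc0, one_mul]
    have hπ : B e₀ (δ₀ e₀) ≠ 0 := by
      rw [alt_swap' hB]
      exact neg_ne_zero.2 hne
    have hs0 : B e g₁ ≠ 0 := by rw [hs]; exact mul_ne_zero (inv_ne_zero hc0) hπ
    have hδ₁inv : δ₁⁻¹ e = c⁻¹ • e₀ := by
      have : e = δ₁ (c⁻¹ • e₀) := by
        rw [map_smul, hδ₁e, smul_smul, inv_mul_cancel₀ hc0, one_smul]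
      rw [this, hinvapp']
    have hγe : (δ₁ * δ₀ * δ₁⁻¹) e = (c⁻¹ * B e g₁) • ((B e g₁)⁻¹ • g₁) := by
      rw [LinearEquiv.mul_apply, LinearEquiv.mul_apply, hδ₁inv, map_smul, map_smul, ← hg₁,
        smul_smul, mul_assoc, mul_inv_cancel₀ hs0, mul_one]
    obtain ⟨γ', hγ', hγ'e⟩ := S e ((B e g₁)⁻¹ • g₁) ((B e e')⁻¹ • e')
      (by rw [map_smul, smul_eq_mul, inv_mul_cancel₀ hs0])
      (by rw [map_smul, smul_eq_mul, inv_mul_cancel₀ hee'])
      _ (D.mul_mem (D.mul_mem hδ₁ hδ₀) (D.inv_mem hδ₁)) _ hγe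
    refine ⟨γ' * δ₁, D.mul_mem hγ' hδ₁, c * (c⁻¹ * B e g₁ * (B e e')⁻¹), ?_, ?_⟩
    · exact mul_ne_zero hc0 (mul_ne_zero (mul_ne_zero (inv_ne_zero hc0) hs0) (inv_ne_zero hee'))
    · rw [LinearEquiv.mul_apply, hδ₁e, map_smul, hγ'e, smul_smul, smul_smul, mul_assoc]
  have A : ∀ e : W, e ≠ 0 → ∃ δ ∈ D, ∃ c : k, c ≠ 0 ∧ δ e₀ = c • e := by
    intro e he0
    have hR₀ : ∃ δ ∈ D, ∃ c : k, c ≠ 0 ∧ δ e₀ = c • e₀ :=
      ⟨1, D.one_mem, 1, one_ne_zero, by simp⟩
    by_cases hee : B e₀ e = 0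
    · -- a vector not orthogonal to both
      obtain ⟨z₁, hz₁⟩ : ∃ z₁, B e₀ z₁ ≠ 0 := by
        by_contra hcon
        push Not at hcon
        exact he₀0 (hnd.1 e₀ hcon)
      obtain ⟨z₂, hz₂⟩ : ∃ z₂, B e z₂ ≠ 0 := by
        by_contra hcon
        push Not at hcon
        exact he0 (hnd.1 e hcon)
      obtain ⟨z, hz1, hz2⟩ : ∃ z, B e₀ z ≠ 0 ∧ B z e ≠ 0 := by
        by_cases h3 : B e z₁ = 0
        · by_cases h4 : B e₀ z₂ = 0
          · refine ⟨z₁ + z₂, ?_, ?_⟩
            · rw [map_add, h4, add_zero]; exact hz₁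
            · rw [alt_swap' hB, map_add, h3, zero_add]; exact neg_ne_zero.2 hz₂
          · refine ⟨z₂, h4, ?_⟩
            rw [alt_swap' hB]; exact neg_ne_zero.2 hz₂
        · refine ⟨z₁, hz₁, ?_⟩
          rw [alt_swap' hB]; exact neg_ne_zero.2 h3
      exact A1 z e hz2 (A1 e₀ z hz1 hR₀)
    · exact A1 e₀ e hee hR₀
  -- counting
  have horb : MulAction.orbit ↥D (Submodule.span k {e₀}) =
      {P | ∃ e : W, e ≠ 0 ∧ P = Submodule.span k {e}} := by
    ext P
    constructor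
    · rintro ⟨δ, rfl⟩
      refine ⟨(δ : W ≃ₗ[k] W) e₀, ?_, ?_⟩
      · intro h
        apply he₀0
        have := hinvapp' (δ : W ≃ₗ[k] W) e₀
        rw [h, map_zero] at this
        exact this.symm
      · exact smul_span_singleton' (δ : W ≃ₗ[k] W) e₀
    · rintro ⟨e, he0, rfl⟩
      obtain ⟨δ, hδ, c, hc0, hδe⟩ := A e he0
      refine ⟨⟨δ, hδ⟩, ?_⟩
      show δ • Submodule.span k {e₀} = _
      rw [smul_span_singleton', hδe]
      exact Submodule.span_singleton_smul_eq (IsUnit.mk0 c hc0) e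
  have h3 := MulAction.index_stabilizer ↥D (Submodule.span k {e₀})
  rw [horb, ← Nat.card_coe_set_eq] at h3
  have h4 : Nat.card {P : Submodule k W // ∃ e : W, e ≠ 0 ∧ P = Submodule.span k {e}}
      ∣ Nat.card D := by
    have := Subgroup.index_dvd_card (MulAction.stabilizer ↥D (Submodule.span k {e₀}))
    rw [h3] at this
    exact this
  obtain ⟨m, hm⟩ := Cfsg.Agent.Lib.Helper5.AltForm.even_finrank_of_nondegenerate hB
    (fun x hx => hnd.1 x hx)
  have h5 := even_card_points (W := W) h2 (m := m) (by rw [hm]; ring)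
  obtain ⟨m', hm'⟩ := h4
  rw [hm'] at hodd
  exact (Nat.not_even_iff_odd.2 (Nat.Odd.of_mul_left hodd)) h5

set_option maxHeartbeats 1600000 in
/-- a group of isometries of odd order of a nondegenerate alternating space over a finite field
of odd characteristic which is normalized by the transvections is trivial -/
theorem nc_sp (h2 : (2 : k) ≠ 0) (hB : B.IsAlt) (hnd : B.Nondegenerate)
    (hd : 2 ≤ finrank k W)
    (D : Subgroup (W ≃ₗ[k] W)) (hodd : Odd (Nat.card D))
    (hiso : ∀ δ ∈ D, ∀ x y, B (δ x) (δ y) = B x y)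
    (hnorm : ∀ (u : W) (c : k), ∀ δ ∈ D, tvE hB u c * δ * (tvE hB u c)⁻¹ ∈ D) :
    ∀ δ ∈ D, ∀ x, δ x = x := by
  classical
  haveI : Finite (W ≃ₗ[k] W) := finite_linearEquiv
  have hinvapp : ∀ (δ : W ≃ₗ[k] W) (x : W), δ (δ⁻¹ x) = x := fun δ x => δ.apply_symm_apply x
  have hinvapp' : ∀ (δ : W ≃ₗ[k] W) (x : W), δ⁻¹ (δ x) = x := fun δ x => δ.symm_apply_apply x
  have P1 := nc_sp_P1 h2 hB hnd D hodd hiso hnorm
  have hrefl : B.IsRefl := hB.isRefl
  -- P2
  have P2 : ∀ δ ∈ D, ∀ e, e ≠ 0 → ∃ c : k, δ e = c • e := by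
    intro δ hδ e he0
    by_contra hcon
    push Not at hcon
    obtain ⟨e', he'⟩ : ∃ e', e' = δ e := ⟨_, rfl⟩
    rw [← he'] at hcon
    -- a vector orthogonal to `e` but not to `e'`
    have h1 := LinearMap.BilinForm.orthogonal_orthogonal hnd hrefl (Submodule.span k {e})
    have h3 : e' ∉ LinearMap.BilinForm.orthogonal B
        (LinearMap.BilinForm.orthogonal B (Submodule.span k {e})) := by
      rw [h1, Submodule.mem_span_singleton]
      rintro ⟨c, hc⟩
      exact hcon c hc.symm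
    rw [LinearMap.BilinForm.mem_orthogonal_iff] at h3
    push Not at h3
    obtain ⟨w, hw, hwe'⟩ := h3
    have hew : B e w = 0 :=
      (LinearMap.BilinForm.mem_orthogonal_iff.1 hw) e (Submodule.mem_span_singleton_self e)
    have hwe'' : B w e' ≠ 0 := hwe'
    have hρinv : (tvE hB w 1)⁻¹ e = e := by
      show (tvE hB w 1).symm e = e
      rw [tvE_symm_apply]
      exact tv_fix _ hew
    have hmem : δ⁻¹ * (tvE hB w 1 * δ * (tvE hB w 1)⁻¹) ∈ D :=
      D.mul_mem (D.inv_mem hδ) (hnorm w 1 δ hδ)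
    have h6 := P1 _ hmem e
    rw [LinearEquiv.mul_apply, LinearEquiv.mul_apply, LinearEquiv.mul_apply, hρinv, ← he',
      tvE_apply] at h6
    have h7 : B (δ (δ⁻¹ (tv B w 1 e'))) (δ e) = B (δ⁻¹ (tv B w 1 e')) e := hiso δ hδ _ _
    rw [hinvapp, ← he'] at h7
    rw [← h7, tv_apply, one_mul, map_add, LinearMap.add_apply, hB.self_eq_zero, zero_add,
      map_smul, LinearMap.smul_apply, smul_eq_mul] at h6
    rcases mul_eq_zero.1 h6 with h | h
    · apply hwe''
      rw [alt_swap' hB, h, neg_zero]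
    · exact hwe'' h
  -- P3
  intro δ hδ
  obtain ⟨-, κ, hκ⟩ := scalar_of_fix_points hd id δ (fun x y => map_add δ x y)
    (fun c x => map_smul δ c x) (fun x hx => by
      have := hinvapp' δ x
      rw [hx, map_zero] at this
      exact this.symm) (P2 δ hδ)
  obtain ⟨e, he0⟩ : ∃ e : W, e ≠ 0 := by
    haveI : Nontrivial W := Module.nontrivial_of_finrank_pos (R := k) (by omega)
    exact exists_ne 0
  obtain ⟨f, hef⟩ : ∃ f, B e f ≠ 0 := by
    by_contra hcon
    push Not at hcon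
    exact he0 (hnd.1 e hcon)
  have h3 := hiso δ hδ e f
  rw [hκ, hκ, map_smul, map_smul, LinearMap.smul_apply, smul_eq_mul, smul_eq_mul] at h3
  have h4 : (κ - 1) * (κ + 1) = 0 := by
    have h5 : (κ * κ - 1) * B e f = 0 := by linear_combination h3
    rcases mul_eq_zero.1 h5 with h | h
    · linear_combination h
    · exact absurd h hef
  rcases mul_eq_zero.1 h4 with h | h
  · intro x
    rw [hκ, sub_eq_zero.1 h, one_smul]
  · exfalso
    have hκ' : κ = -1 := eq_neg_of_add_eq_zero_left h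
    obtain ⟨m, hm⟩ := hodd
    have h5 : (⟨δ, hδ⟩ : ↥D) ^ Nat.card ↥D = 1 := pow_card_eq_one'
    have h6 : δ ^ Nat.card ↥D = 1 := by
      have := congrArg Subtype.val h5
      rwa [Subgroup.coe_pow] at this
    have h7 := pow_apply_of_scalar δ κ hκ (Nat.card ↥D) e
    have h9 : (1 : W ≃ₗ[k] W) e = e := rfl
    rw [h6, hκ', hm, Odd.neg_one_pow ⟨m, rfl⟩, h9, neg_one_smul] at h7
    have h8 : (2 : k) • e = 0 := by
      rw [two_smul]
      nth_rewrite 1 [h7]
      exact neg_add_cancel _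
    rcases smul_eq_zero.1 h8 with h | h
    · exact h2 h
    · exact he0 h

end NCSp

end Cfsg.Agent.Lib.Helper5.LBal
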