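import Mathlib
import Cfsg.Agent.Lib.Helper5.LBal.SLTools
import Cfsg.Agent.Lib.Helper5.LBal.NCSp
import Cfsg.Agent.Lib.Helper5.LBal.Theta
import Cfsg.Agent.Lib.Helper5.LBal.PSLPipe
import Cfsg.Agent.Lib.Helper5.GraphInv

set_option autoImplicit false

/-! Graph automorphisms of symplectic type: the alternating form of a skew matrix, its
transvections as matrices, and subgroups of odd order of fixed points. -/

namespace Cfsg.Agent.Lib.Helper5.LBal

open Matrix Module Cfsg.Agent.Lib.Helper5.SLnAut Cfsg.Agent.Lib.Helper5.GraphInv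

section TvPow
variable {k : Type*} [Field k] {W : Type*} [AddCommGroup W] [Module k W]
variable {B : LinearMap.BilinForm k W}

theorem tvE_pow_apply (hB : B.IsAlt) (u : W) (c : k) (j : ℕ) (x : W) :
    ((tvE hB u c) ^ j) x = tv B u ((j : k) * c) x := by
  induction j generalizing x with
  | zero =>
    rw [pow_zero, Nat.cast_zero, zero_mul, tv_zero]
    rfl
  | succ j ih =>
    rw [pow_succ, LinearEquiv.mul_apply, ih, tvE_apply, tv_comp hB]
    congr 1
    rw [Nat.cast_succ]
    ring

theorem tvE_pow_char (r : ℕ) [CharP k r] (hB : B.IsAlt) (u : W) (c : k) :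
    (tvE hB u c) ^ r = 1 := by
  apply LinearEquiv.ext
  intro x
  rw [tvE_pow_apply, CharP.cast_eq_zero, zero_mul, tv_zero]
  rfl

end TvPow

section GraphSp1
variable {n : ℕ} {F : Type*} [Field F]

/-- the bilinear form of a matrix -/
noncomputable def BM (M : Matrix (Fin n) (Fin n) F) : LinearMap.BilinForm F (Fin n → F) :=
  Matrix.toBilin' M

theorem BM_apply (M : Matrix (Fin n) (Fin n) F) (v w : Fin n → F) :
    BM M v w = v ⬝ᵥ (M *ᵥ w) :=
  Matrix.toBilin'_apply' M v w

theorem BM_alt (h2 : (2 : F) ≠ 0) {M : Matrix (Fin n) (Fin n) F} (hM : Mᵀ = -M) :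
    (BM M).IsAlt := by
  intro x
  have h1 : x ⬝ᵥ (M *ᵥ x) = -(x ⬝ᵥ (M *ᵥ x)) := by
    conv_lhs => rw [Matrix.dotProduct_mulVec, ← Matrix.mulVec_transpose, hM, Matrix.neg_mulVec,
      dotProduct_comm, dotProduct_neg]
  rw [BM_apply]
  have h3 : (2 : F) * (x ⬝ᵥ (M *ᵥ x)) = 0 := by
    rw [two_mul]
    nth_rewrite 1 [h1]
    exact neg_add_cancel _
  exact (mul_eq_zero.1 h3).resolve_left h2

theorem BM_nondeg {M : Matrix (Fin n) (Fin n) F}
    (M' : Matrix (Fin n) (Fin n) F) (hMM' : M * M' = 1) : (BM M).Nondegenerate := by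
  have hdet : M.det ≠ 0 := by
    intro h
    have := congrArg Matrix.det hMM'
    rw [Matrix.det_mul, h, zero_mul, Matrix.det_one] at this
    exact zero_ne_one this
  exact (Matrix.nondegenerate_toBilin'_iff.2 (Matrix.nondegenerate_of_det_ne_zero hdet))

/-- a matrix is an isometry of the form of a matrix iff it preserves the matrix -/
theorem isomB_iff (M : Matrix (Fin n) (Fin n) F) (g : Matrix (Fin n) (Fin n) F) :
    (∀ v w, BM M (g *ᵥ v) (g *ᵥ w) = BM M v w) ↔ gᵀ * M * g = M := by
  have key : ∀ v w, BM M (g *ᵥ v) (g *ᵥ w) = v ⬝ᵥ ((gᵀ * M * g) *ᵥ w) := by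
    intro v w
    rw [BM_apply, ← Matrix.mulVec_mulVec, ← Matrix.mulVec_mulVec, Matrix.dotProduct_mulVec v,
      ← Matrix.mulVec_transpose, Matrix.transpose_transpose]
  constructor
  · intro h
    ext i j
    have := h (Pi.single i 1) (Pi.single j 1)
    rw [key, BM_apply] at this
    simpa using this
  · intro h v w
    rw [key, h, BM_apply]

end GraphSp1

end Cfsg.Agent.Lib.Helper5.LBal
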