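import Mathlib
import Cfsg.Agent.Lib.Helper5.LBal.GraphSp1

set_option autoImplicit false

/-! Graph automorphisms of symplectic type: subgroups of odd order of fixed points normalized by
the transvections are trivial. -/

namespace Cfsg.Agent.Lib.Helper5.LBal

open Matrix Module Cfsg.Agent.Lib.Helper5.SLnAut Cfsg.Agent.Lib.Helper5.GraphInv

section GraphSp2
variable {n : ℕ} {F : Type*} [Field F] [Fintype F]

theorem transpose_inv_of_skew (c : GL (Fin n) F)
    (hc : (c : Matrix (Fin n) (Fin n) F)ᵀ = -(c : Matrix (Fin n) (Fin n) F)) :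
    ((c⁻¹ : GL (Fin n) F) : Matrix (Fin n) (Fin n) F)ᵀ
      = -((c⁻¹ : GL (Fin n) F) : Matrix (Fin n) (Fin n) F) := by
  rw [Matrix.coe_units_inv, Matrix.transpose_nonsing_inv, hc]
  apply Matrix.inv_eq_right_inv
  rw [neg_mul_neg, ← Matrix.coe_units_inv, ← Units.val_mul, mul_inv_cancel, Units.val_one]

/-- the symplectic transvections as matrices of determinant one -/
noncomputable def tvSL (r : ℕ) [Fact r.Prime] [CharP F r] {M : Matrix (Fin n) (Fin n) F}
    (hB : (BM M).IsAlt) (u : Fin n → F) (a : F) : SpecialLinearGroup (Fin n) F :=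
  ofLinSL (tvE hB u a) (det_eq_one_of_pow_char r _ (tvE_pow_char r hB u a))

theorem toLin'_tvSL (r : ℕ) [Fact r.Prime] [CharP F r] {M : Matrix (Fin n) (Fin n) F}
    (hB : (BM M).IsAlt) (u : Fin n → F) (a : F) :
    Matrix.SpecialLinearGroup.toLin' (tvSL r hB u a) = tvE hB u a :=
  toLin'_ofLinSL _ _

theorem tvSL_pow (r : ℕ) [Fact r.Prime] [CharP F r] {M : Matrix (Fin n) (Fin n) F}
    (hB : (BM M).IsAlt) (u : Fin n → F) (a : F) : (tvSL r hB u a) ^ r = 1 := by
  apply Matrix.SpecialLinearGroup.toLin'_injective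
  rw [map_pow, toLin'_tvSL, tvE_pow_char, map_one]

/-- the set of symplectic transvections -/
def tvSet (r : ℕ) [Fact r.Prime] [CharP F r] {M : Matrix (Fin n) (Fin n) F}
    (hB : (BM M).IsAlt) : Set (SpecialLinearGroup (Fin n) F) :=
  {l | ∃ (u : Fin n → F) (a : F), l = tvSL r hB u a}

theorem isomB_of_fix (c : GL (Fin n) F) (s : SpecialLinearGroup (Fin n) F) :
    thetaG c s = s ↔ ∀ v w, BM ((c⁻¹ : GL (Fin n) F) : Matrix (Fin n) (Fin n) F)
      (Matrix.SpecialLinearGroup.toLin' s v) (Matrix.SpecialLinearGroup.toLin' s w)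
      = BM ((c⁻¹ : GL (Fin n) F) : Matrix (Fin n) (Fin n) F) v w := by
  rw [thetaG_fix_iff, ← isomB_iff]
  constructor
  · intro h v w
    rw [toLin'_apply_mulVec, toLin'_apply_mulVec]
    exact h v w
  · intro h v w
    rw [← toLin'_apply_mulVec, ← toLin'_apply_mulVec]
    exact h v w

theorem tvSet_fix (r : ℕ) [Fact r.Prime] [CharP F r] (c : GL (Fin n) F)
    (hB : (BM ((c⁻¹ : GL (Fin n) F) : Matrix (Fin n) (Fin n) F)).IsAlt)
    (l : SpecialLinearGroup (Fin n) F) (hl : l ∈ tvSet r hB) : thetaG c l = l := by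
  obtain ⟨u, a, rfl⟩ := hl
  rw [isomB_of_fix c]
  intro v w
  rw [toLin'_tvSL, tvE_apply, tvE_apply, B_tv hB]

set_option maxHeartbeats 800000 in
/-- a group of odd order of fixed matrices normalized by the transvections is trivial -/
theorem hnc_symp (r : ℕ) [Fact r.Prime] [CharP F r] (h2 : (2 : F) ≠ 0) (hn : 2 ≤ n)
    (c : GL (Fin n) F)
    (hB : (BM ((c⁻¹ : GL (Fin n) F) : Matrix (Fin n) (Fin n) F)).IsAlt)
    (H : Subgroup (SpecialLinearGroup (Fin n) F)) (hfix : ∀ h ∈ H, thetaG c h = h)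
    (hodd : Odd (Nat.card H))
    (hnorm : ∀ l ∈ tvSet r hB, ∀ h ∈ H, l * h * l⁻¹ ∈ H) : ∀ h ∈ H, piN h = 1 := by
  classical
  set M : Matrix (Fin n) (Fin n) F := ((c⁻¹ : GL (Fin n) F) : Matrix (Fin n) (Fin n) F) with hM
  have hnd : (BM M).Nondegenerate :=
    BM_nondeg (c : Matrix (Fin n) (Fin n) F)
      (by rw [hM, ← Units.val_mul, inv_mul_cancel, Units.val_one])
  set D : Subgroup ((Fin n → F) ≃ₗ[F] (Fin n → F)) :=
    H.map (Matrix.SpecialLinearGroup.toLin' : SpecialLinearGroup (Fin n) F →* _) with hD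
  have hinj := Matrix.SpecialLinearGroup.toLin'_injective (n := Fin n) (R := F)
  have hDodd : Odd (Nat.card D) := by
    rw [hD, Subgroup.card_map_of_injective hinj]
    exact hodd
  have hd : 2 ≤ finrank F (Fin n → F) := by
    rw [Module.finrank_fin_fun]
    exact hn
  have hall := nc_sp h2 hB hnd hd D hDodd
    (by
      rintro _ ⟨h, hh, rfl⟩ x y
      exact (isomB_of_fix c h).1 (hfix h hh) x y)
    (by
      rintro u a _ ⟨h, hh, rfl⟩
      have h1 := hnorm (tvSL r hB u a) ⟨u, a, rfl⟩ h hh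
      refine ⟨_, h1, ?_⟩
      rw [map_mul, map_mul, map_inv, toLin'_tvSL])
  intro h hh
  have h1 : Matrix.SpecialLinearGroup.toLin' h = 1 := by
    apply LinearEquiv.ext
    intro x
    exact hall _ ⟨h, hh, rfl⟩ x
  have h3 : h = 1 := hinj (by rw [h1, map_one])
  rw [h3, map_one]

end GraphSp2

end Cfsg.Agent.Lib.Helper5.LBal
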