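import Mathlib
import Cfsg.Agent.Lib.Helper5.LBal.GraphSp2
import Cfsg.Agent.Lib.Helper5.LBal.SemiComm
import Cfsg.Agent.Lib.Helper5.LBal.Core

set_option autoImplicit false

/-! Graph automorphisms of symplectic type have centralizers with trivial core. -/

namespace Cfsg.Agent.Lib.Helper5.LBal

open Matrix Module Cfsg.Agent.Lib.Helper5.SLnAut
  Cfsg.Agent.Lib.Helper5.GraphInv Cfsg.Agent.Lib.Helper5.PSpBal

section GraphSp3
variable {n : ℕ} {F : Type*} [Field F] [Fintype F]

set_option maxHeartbeats 800000 in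
/-- an automorphism of semilinear type fixing the symplectic transvections is trivial -/
theorem semi_eq_one_of_fix_tv (r : ℕ) [Fact r.Prime] [CharP F r]
    (hn : 2 ≤ n) (c : GL (Fin n) F)
    (hB : (BM ((c⁻¹ : GL (Fin n) F) : Matrix (Fin n) (Fin n) F)).IsAlt)
    (h : GL (Fin n) F) (τ : F ≃+* F)
    (hfix : ∀ l ∈ tvSet r hB, semi h τ (piN l) = piN l) : semi h τ = 1 := by
  haveI : Nonempty (Fin n) := ⟨⟨0, by omega⟩⟩
  set M : Matrix (Fin n) (Fin n) F := ((c⁻¹ : GL (Fin n) F) : Matrix (Fin n) (Fin n) F) with hM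
  have hnd : (BM M).Nondegenerate :=
    BM_nondeg (c : Matrix (Fin n) (Fin n) F)
      (by rw [hM, ← Units.val_mul, inv_mul_cancel, Units.val_one])
  have hd : 2 ≤ finrank F (Fin n → F) := by
    rw [Module.finrank_fin_fun]
    exact hn
  have hcomm : ∀ (u : Fin n → F) (a : F) (x : Fin n → F),
      vsemi h τ (tv (BM M) u a x) = tv (BM M) u a (vsemi h τ x) := by
    intro u a x
    have h1 := vsemi_comm_of_fix r h τ (tvSL r hB u a) (tvSL_pow r hB u a)
      (hfix _ ⟨u, a, rfl⟩)
    have h3 : ∀ y, ((tvSL r hB u a : SpecialLinearGroup (Fin n) F) :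
        Matrix (Fin n) (Fin n) F) *ᵥ y = tv (BM M) u a y := by
      intro y
      rw [← toLin'_apply_mulVec, toLin'_tvSL, tvE_apply]
    have h4 := h1 x
    rw [h3, h3] at h4
    exact h4
  obtain ⟨hτ, κ, hκ⟩ := scalar_of_fix_points hd (fun t => τ t) (vsemi h τ)
    (vsemi_add h τ) (vsemi_smul h τ) (vsemi_inj h τ)
    (by
      intro u hu
      -- a vector pairing with `u`
      obtain ⟨x, hx⟩ : ∃ x, BM M x u ≠ 0 := by
        by_contra hcon
        push Not at hcon
        exact hu (hnd.2 u hcon)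
      have h1 := hcomm u 1 x
      rw [tv_apply, tv_apply, vsemi_add, vsemi_smul, one_mul, one_mul] at h1
      have h3 : τ (BM M x u) • vsemi h τ u = (BM M (vsemi h τ x) u) • u := add_left_cancel h1
      have h4 : τ (BM M x u) ≠ 0 := by
        intro h0
        exact hx ((map_eq_zero τ).1 h0)
      refine ⟨(τ (BM M x u))⁻¹ * BM M (vsemi h τ x) u, ?_⟩
      rw [mul_smul, ← h3, smul_smul, inv_mul_cancel₀ h4, one_smul])
  exact semi_eq_one_of_scalar h τ hτ κ hκ

set_option maxHeartbeats 800000 in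
/-- an automorphism of odd order fixing the symplectic transvections is trivial -/
theorem hB_symp {p f : ℕ} [Fact p.Prime] (hf : 1 ≤ f) (hF : Fintype.card F = p ^ f)
    (r : ℕ) [Fact r.Prime] [CharP F r]
    (hn : 3 ≤ n) (c : GL (Fin n) F)
    (hc : (c : Matrix (Fin n) (Fin n) F)ᵀ = -(c : Matrix (Fin n) (Fin n) F))
    (hB : (BM ((c⁻¹ : GL (Fin n) F) : Matrix (Fin n) (Fin n) F)).IsAlt)
    (ν : MulAut (ProjectiveSpecialLinearGroup (Fin n) F))
    (hfix : ∀ l ∈ tvSet r hB, ν (piN l) = piN l)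
    (hodd : (orderOf ν).Coprime 2) : ν = 1 := by
  obtain ⟨h, τ, ε, rfl⟩ := exists_std hf hF (by omega : 2 ≤ n) ν
  rcases zmod2_cases ε with rfl | rfl
  · unfold std at hfix ⊢
    rw [tauPow_zero, mul_one] at hfix ⊢
    exact semi_eq_one_of_fix_tv r (by omega) c hB h τ hfix
  · exfalso
    have hx : gam c = std c 1 1 := by
      unfold gam std
      rw [tauPow_one]
    obtain ⟨g'', hg''⟩ := std_mul_std h c τ 1 1 1
    have h11 : (1 : ZMod 2) + 1 = 0 := by decide
    rw [h11, mul_one] at hg''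
    have hfix' : ∀ l ∈ tvSet r hB, semi g'' τ (piN l) = piN l := by
      intro l hl
      have h3 : std g'' τ 0 = semi g'' τ := by
        unfold std
        rw [tauPow_zero, mul_one]
      rw [← h3, ← hg'', MulAut.mul_apply, ← hx, ← quotAut_thetaG, quotAut_pi,
        tvSet_fix r c hB l hl]
      exact hfix l hl
    have h4 := semi_eq_one_of_fix_tv r (by omega) c hB g'' τ hfix'
    have h5 : std g'' τ 0 = 1 := by
      unfold std
      rw [tauPow_zero, mul_one]
      exact h4
    rw [h5] at hg''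
    have h6 : std h τ 1 = (gam c)⁻¹ := by
      rw [hx]
      exact eq_inv_of_mul_eq_one_left hg''
    have h7 : orderOf (gam c) = 2 :=
      (orderOf_gam_eq_two_iff hn c).2 ⟨-1, neg_ne_zero.2 one_ne_zero, by
        rw [hc, neg_smul, one_smul, neg_neg]⟩
    rw [h6, orderOf_inv, h7] at hodd
    exact absurd hodd (by decide)

/-- the centralizer of a graph automorphism of symplectic type has trivial core -/
theorem no_core_graph_symp {p f : ℕ} [Fact p.Prime] (hf : 1 ≤ f) (hF : Fintype.card F = p ^ f)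
    (r : ℕ) [Fact r.Prime] [CharP F r] (h2 : (2 : F) ≠ 0)
    (hn : 3 ≤ n) (c : GL (Fin n) F)
    (hc : (c : Matrix (Fin n) (Fin n) F)ᵀ = -(c : Matrix (Fin n) (Fin n) F))
    (A : Subgroup (MulAut (ProjectiveSpecialLinearGroup (Fin n) F)))
    (hinn : ∀ k : ProjectiveSpecialLinearGroup (Fin n) F, MulAut.conj k ∈ A)
    (N : Subgroup (MulAut (ProjectiveSpecialLinearGroup (Fin n) F)))
    (hN : HasCore 2 A (gam c) N) : False := by
  haveI : Nontrivial (Fin n) := Fin.nontrivial_iff_two_le.2 (by omega)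
  haveI := finite_PSL (ι := Fin n) (F := F)
  have hB : (BM ((c⁻¹ : GL (Fin n) F) : Matrix (Fin n) (Fin n) F)).IsAlt :=
    BM_alt h2 (transpose_inv_of_skew c hc)
  refine no_core_abstract conj_injective_PSL 2 A hinn (gam c) (piN '' tvSet r hB) ?_ ?_ ?_ N hN
  · rintro _ ⟨l, hl, rfl⟩
    rw [← quotAut_thetaG, quotAut_pi, tvSet_fix r c hB l hl]
  · intro D hDfix hDcop hDnorm
    apply hA_of_nc (thetaG c) (thetaG_invol c (-1) (neg_ne_zero.2 one_ne_zero)
        (by rw [hc, neg_smul, one_smul, neg_neg]))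
      (tvSet r hB) (tvSet_fix r c hB) (hnc_symp r h2 (by omega) c hB) D
    · intro d hd
      rw [quotAut_thetaG]
      exact hDfix d hd
    · exact hDcop
    · intro l hl d hd
      exact hDnorm _ ⟨l, hl, rfl⟩ d hd
  · intro ν _ hνfix hνodd
    apply hB_symp hf hF r hn c hc hB ν _ hνodd
    intro l hl
    exact hνfix _ ⟨l, hl, rfl⟩

end GraphSp3

end Cfsg.Agent.Lib.Helper5.LBal
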