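import Mathlib
import Cfsg.Agent.Lib.Helper5.PSLCoset5

set_option autoImplicit false

/-! Siegel transformations of a Hermitian space. -/

namespace Cfsg.Agent.Lib.Helper5.LBal

open Module Cfsg.Agent.Lib.Helper5.PSLCoset

section Herm1
variable {F : Type*} [Field F] {σ : F ≃+* F} {V : Type*} [AddCommGroup V] [Module F V]
variable {H : V → V → F}

/-- the Siegel transformation `x ↦ x + H(x,e) w - H(x,w) e + c H(x,e) e` -/
def sieg (hH : IsHerm σ H) (e w : V) (c : F) : V →ₗ[F] V :=
  LinearMap.id + (hH.toDual e).smulRight w - (hH.toDual w).smulRight e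
    + c • (hH.toDual e).smulRight e

theorem sieg_apply (hH : IsHerm σ H) (e w : V) (c : F) (x : V) :
    sieg hH e w c x = x + H x e • w - H x w • e + (c * H x e) • e := by
  simp only [sieg, LinearMap.add_apply, LinearMap.sub_apply, LinearMap.id_coe, id_eq,
    LinearMap.smul_apply, LinearMap.smulRight_apply, IsHerm.toDual_apply, mul_smul]

/-- the conditions making a Siegel transformation an isometry -/
def SiegOK (σ : F ≃+* F) (H : V → V → F) (e w : V) (c : F) : Prop :=
  H e e = 0 ∧ H w e = 0 ∧ c + σ c + H w w = 0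

theorem SiegOK.ew (hH : IsHerm σ H) {e w : V} {c : F} (h : SiegOK σ H e w c) : H e w = 0 := by
  rw [hH.symm w e, h.2.1, map_zero]

theorem sieg_e (hH : IsHerm σ H) {e w : V} {c : F} (h : SiegOK σ H e w c) :
    sieg hH e w c e = e := by
  rw [sieg_apply, h.1, h.ew hH]
  simp

theorem H_sieg_e (hH : IsHerm σ H) {e w : V} {c : F} (h : SiegOK σ H e w c) (x : V) :
    H (sieg hH e w c x) e = H x e := by
  rw [sieg_apply, hH.add_left, hH.sub_left, hH.add_left, hH.smul_left, hH.smul_left,
    hH.smul_left, h.1, h.2.1]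
  ring

theorem H_sieg (hH : IsHerm σ H) {e w : V} {c : F} (h : SiegOK σ H e w c) (x y : V) :
    H (sieg hH e w c x) (sieg hH e w c y) = H x y := by
  have hew := h.ew hH
  obtain ⟨h1, h2, h3⟩ := h
  rw [sieg_apply, sieg_apply]
  simp only [hH.add_left, hH.sub_left, hH.smul_left, hH.add_right, hH.sub_right, hH.smul_right,
    h1, h2, hew, map_mul]
  rw [hH.symm y w, hH.symm y e]
  linear_combination (H x e * σ (H y e)) * h3

theorem sieg_comp (hH : IsHerm σ H) {e w w' : V} {c c' : F} (h : SiegOK σ H e w c)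
    (h' : SiegOK σ H e w' c') (x : V) :
    sieg hH e w c (sieg hH e w' c' x) = sieg hH e (w + w') (c + c' - H w' w) x := by
  have hew := h.ew hH
  rw [sieg_apply hH e w c, H_sieg_e hH h', sieg_apply hH e w' c' x, sieg_apply]
  simp only [hH.add_left, hH.sub_left, hH.smul_left, hH.add_right, hew]
  module

theorem sieg_zero (hH : IsHerm σ H) (e : V) (x : V) : sieg hH e 0 0 x = x := by
  rw [sieg_apply, hH.zero_right]
  simp

theorem SiegOK.inv (hH : IsHerm σ H) (hσ2 : ∀ a, σ (σ a) = a) {e w : V} {c : F}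
    (h : SiegOK σ H e w c) : SiegOK σ H e (-w) (σ c) := by
  obtain ⟨h1, h2, h3⟩ := h
  refine ⟨h1, by rw [hH.neg_left, h2, neg_zero], ?_⟩
  rw [hσ2, hH.neg_left, hH.symm (-w) w, hH.neg_left, map_neg, neg_neg, ← hH.symm]
  linear_combination h3

theorem SiegOK.add (hH : IsHerm σ H) {e w w' : V} {c c' : F}
    (h : SiegOK σ H e w c) (h' : SiegOK σ H e w' c') :
    SiegOK σ H e (w + w') (c + c' - H w' w) := by
  obtain ⟨h1, h2, h3⟩ := h
  obtain ⟨-, h2', h3'⟩ := h'
  refine ⟨h1, by rw [hH.add_left, h2, h2', add_zero], ?_⟩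
  simp only [hH.add_left, hH.add_right, map_add, map_sub]
  rw [← hH.symm w' w]
  linear_combination h3 + h3'

/-- the Siegel transformation as a linear equivalence -/
def siegE (hH : IsHerm σ H) (hσ2 : ∀ a, σ (σ a) = a) (e w : V) (c : F)
    (h : SiegOK σ H e w c) : V ≃ₗ[F] V :=
  LinearEquiv.ofLinear (sieg hH e w c) (sieg hH e (-w) (σ c))
    (by
      ext x
      rw [LinearMap.comp_apply, sieg_comp hH h (h.inv hH hσ2), LinearMap.id_apply]
      have h3 := h.2.2
      have h4 : c + σ c - H (-w) w = 0 := by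
        rw [hH.neg_left]
        linear_combination h3
      rw [h4, add_neg_cancel, sieg_zero])
    (by
      ext x
      rw [LinearMap.comp_apply, sieg_comp hH (h.inv hH hσ2) h, LinearMap.id_apply]
      have h3 := h.2.2
      have h4 : σ c + c - H w (-w) = 0 := by
        rw [hH.symm (-w) w, hH.neg_left, map_neg, ← hH.symm]
        linear_combination h3
      rw [h4, neg_add_cancel, sieg_zero])

@[simp] theorem siegE_apply (hH : IsHerm σ H) (hσ2 : ∀ a, σ (σ a) = a) (e w : V) (c : F)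
    (h : SiegOK σ H e w c) (x : V) : siegE hH hσ2 e w c h x = sieg hH e w c x := rfl

theorem siegE_symm_apply (hH : IsHerm σ H) (hσ2 : ∀ a, σ (σ a) = a) (e w : V) (c : F)
    (h : SiegOK σ H e w c) (x : V) :
    (siegE hH hσ2 e w c h).symm x = sieg hH e (-w) (σ c) x := rfl

/-- the conditions for moving one partner of `e` to another one -/
theorem siegOK_partner (hH : IsHerm σ H) {e f₁ f₂ : V} (he : H e e = 0) (hf₁ : H f₁ f₁ = 0)
    (hf₂ : H f₂ f₂ = 0) (h1 : H f₁ e = 1) (h2 : H f₂ e = 1) :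
    SiegOK σ H e (f₂ - f₁) (H f₁ f₂) := by
  refine ⟨he, by rw [hH.sub_left, h1, h2, sub_self], ?_⟩
  simp only [hH.sub_left, hH.sub_right, hf₁, hf₂]
  rw [← hH.symm f₁ f₂]
  ring

theorem sieg_partner (hH : IsHerm σ H) {e f₁ f₂ : V} (hf₁ : H f₁ f₁ = 0)
    (h1 : H f₁ e = 1) :
    sieg hH e (f₂ - f₁) (H f₁ f₂) f₁ = f₂ := by
  rw [sieg_apply, h1, hH.sub_right, hf₁]
  module

/-- the transvection conditions -/
theorem siegOK_tv (hH : IsHerm σ H) {e : V} {a : F} (he : H e e = 0) (ha : σ a = -a) :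
    SiegOK σ H e 0 a := by
  refine ⟨he, hH.zero_left e, ?_⟩
  rw [ha, hH.zero_left]
  ring

theorem sieg_tv (hH : IsHerm σ H) (e : V) (a : F) (x : V) :
    sieg hH e 0 a x = x + (a * H x e) • e := by
  rw [sieg_apply, hH.zero_right]
  simp

end Herm1

end Cfsg.Agent.Lib.Helper5.LBal
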