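import Mathlib
import Cfsg.Agent.Lib.Helper5.LBal.Herm1

set_option autoImplicit false

/-! Powers of Siegel transformations. -/

namespace Cfsg.Agent.Lib.Helper5.LBal

open Module Cfsg.Agent.Lib.Helper5.PSLCoset

section Herm2
variable {F : Type*} [Field F] {σ : F ≃+* F} {V : Type*} [AddCommGroup V] [Module F V]
variable {H : V → V → F}

theorem siegE_pow_aux (hH : IsHerm σ H) (hσ2 : ∀ a, σ (σ a) = a) (h2 : (2 : F) ≠ 0)
    (e w : V) (c : F) (h : SiegOK σ H e w c) (j : ℕ) :
    SiegOK σ H e ((j : F) • w) ((j : F) * c - ((j : F) * ((j : F) - 1) / 2) * H w w) ∧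
    ∀ x, ((siegE hH hσ2 e w c h) ^ j) x
      = sieg hH e ((j : F) • w) ((j : F) * c - ((j : F) * ((j : F) - 1) / 2) * H w w) x := by
  induction j with
  | zero =>
    constructor
    · refine ⟨h.1, ?_, ?_⟩
      · rw [Nat.cast_zero, zero_smul, hH.zero_left]
      · rw [Nat.cast_zero, zero_smul, hH.zero_left]
        simp
    · intro x
      rw [pow_zero, Nat.cast_zero, zero_smul]
      have h0 : (0 : F) * c - (0 : F) * ((0 : F) - 1) / 2 * H w w = 0 := by ring
      rw [h0, sieg_zero]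
      rfl
  | succ j ih =>
    obtain ⟨ih1, ih2⟩ := ih
    have hw : H w ((j : F) • w) = (j : F) * H w w := by
      rw [hH.smul_right, map_natCast]
    have e1 : (j : F) • w + w = ((j + 1 : ℕ) : F) • w := by
      rw [Nat.cast_succ, add_smul, one_smul]
    have e2 : (j : F) * c - ((j : F) * ((j : F) - 1) / 2) * H w w + c - H w ((j : F) • w)
        = ((j + 1 : ℕ) : F) * c - (((j + 1 : ℕ) : F) * (((j + 1 : ℕ) : F) - 1) / 2) * H w w := by
      rw [hw, Nat.cast_succ]
      field_simp
      ring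
    constructor
    · have := SiegOK.add hH ih1 h
      rw [e1, e2] at this
      exact this
    · intro x
      rw [pow_succ, LinearEquiv.mul_apply, ih2, siegE_apply, sieg_comp hH ih1 h, e1, e2]

theorem siegE_pow_char (hH : IsHerm σ H) (hσ2 : ∀ a, σ (σ a) = a) (h2 : (2 : F) ≠ 0)
    (r : ℕ) [CharP F r] (e w : V) (c : F) (h : SiegOK σ H e w c) :
    (siegE hH hσ2 e w c h) ^ r = 1 := by
  apply LinearEquiv.ext
  intro x
  rw [(siegE_pow_aux hH hσ2 h2 e w c h r).2, CharP.cast_eq_zero, zero_smul]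
  have h0 : (0 : F) * c - (0 : F) * ((0 : F) - 1) / 2 * H w w = 0 := by ring
  rw [h0, sieg_zero]
  rfl

end Herm2

end Cfsg.Agent.Lib.Helper5.LBal
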