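import Mathlib
import Cfsg.Agent.Lib.Helper5.LBal.SLTools
import Cfsg.Agent.Lib.Helper5.LBal.Herm2
import Cfsg.Agent.Lib.Helper5.GraphInv
import Cfsg.Agent.Lib.Helper5.PSLCoset6

set_option autoImplicit false

/-! The matrix automorphism inducing the standard graph-field automorphism, and the standard
Hermitian form. -/

namespace Cfsg.Agent.Lib.Helper5.LBal

open Matrix Cfsg.Agent.Lib.Helper5.SLnAut Cfsg.Agent.Lib.Helper5.SLnBN
  Cfsg.Agent.Lib.Helper5.GraphInv Cfsg.Agent.Lib.Helper5.PSLCoset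

section GraphU1
variable {n : ℕ} {F : Type*} [Field F]

/-- the matrix automorphism inducing the standard graph-field automorphism -/
noncomputable def thetaU (σ : F ≃+* F) : MulAut (SpecialLinearGroup (Fin n) F) :=
  fieldAut σ * tauAut

theorem quotAut_thetaU (σ : F ≃+* F) :
    quotAut (thetaU (n := n) σ) = semi (1 : GL (Fin n) F) σ * tauBar := by
  unfold thetaU semi tauBar
  rw [map_mul, map_mul, map_one, map_one, one_mul]

theorem thetaU_coe (σ : F ≃+* F) (s : SpecialLinearGroup (Fin n) F) :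
    ((thetaU σ s : SpecialLinearGroup (Fin n) F) : Matrix (Fin n) (Fin n) F)
      = (((s⁻¹ : SpecialLinearGroup (Fin n) F) : Matrix (Fin n) (Fin n) F)ᵀ).map σ := by
  unfold thetaU
  rw [MulAut.mul_apply, fieldAut_coe, tauAut_coe]

theorem map_map_invol {σ : F ≃+* F} (hσ2 : ∀ a, σ (σ a) = a) (M : Matrix (Fin n) (Fin n) F) :
    (M.map σ).map σ = M := by
  ext i j
  exact hσ2 _

theorem thetaU_invol {σ : F ≃+* F} (hσ2 : ∀ a, σ (σ a) = a)
    (s : SpecialLinearGroup (Fin n) F) : thetaU σ (thetaU σ s) = s := by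
  unfold thetaU
  rw [MulAut.mul_apply, MulAut.mul_apply, tauAut_fieldAut, tauAut_tauAut]
  apply Subtype.ext
  rw [fieldAut_coe, fieldAut_coe, map_map_invol hσ2]

/-- the fixed matrices are the unitary matrices -/
theorem thetaU_fix_iff {σ : F ≃+* F} (hσ2 : ∀ a, σ (σ a) = a)
    (s : SpecialLinearGroup (Fin n) F) :
    thetaU σ s = s ↔ (s : Matrix (Fin n) (Fin n) F)ᵀ * (s : Matrix (Fin n) (Fin n) F).map σ
      = 1 := by
  have hss : (s : Matrix (Fin n) (Fin n) F)ᵀ
      * ((s⁻¹ : SpecialLinearGroup (Fin n) F) : Matrix (Fin n) (Fin n) F)ᵀ = 1 := by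
    rw [← Matrix.transpose_mul, coe_inv_mul_coe, Matrix.transpose_one]
  have hss' : ((s⁻¹ : SpecialLinearGroup (Fin n) F) : Matrix (Fin n) (Fin n) F)ᵀ
      * (s : Matrix (Fin n) (Fin n) F)ᵀ = 1 := by
    rw [← Matrix.transpose_mul, coe_mul_coe_inv, Matrix.transpose_one]
  constructor
  · intro h
    have h1 := congrArg (fun t : SpecialLinearGroup (Fin n) F => (t : Matrix (Fin n) (Fin n) F)) h
    beta_reduce at h1
    rw [thetaU_coe] at h1
    have h3 : (s : Matrix (Fin n) (Fin n) F).map σ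
        = ((s⁻¹ : SpecialLinearGroup (Fin n) F) : Matrix (Fin n) (Fin n) F)ᵀ := by
      rw [← h1, map_map_invol hσ2]
    rw [h3, hss]
  · intro h
    apply Subtype.ext
    rw [thetaU_coe]
    have h3 : (s : Matrix (Fin n) (Fin n) F).map σ
        = ((s⁻¹ : SpecialLinearGroup (Fin n) F) : Matrix (Fin n) (Fin n) F)ᵀ := by
      calc (s : Matrix (Fin n) (Fin n) F).map σ
          = (((s⁻¹ : SpecialLinearGroup (Fin n) F) : Matrix (Fin n) (Fin n) F)ᵀ
            * (s : Matrix (Fin n) (Fin n) F)ᵀ) * (s : Matrix (Fin n) (Fin n) F).map σ := by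
              rw [hss', Matrix.one_mul]
        _ = ((s⁻¹ : SpecialLinearGroup (Fin n) F) : Matrix (Fin n) (Fin n) F)ᵀ := by
              rw [Matrix.mul_assoc, h, Matrix.mul_one]
    rw [← h3, map_map_invol hσ2]

/-- the standard Hermitian form -/
def stdH (σ : F ≃+* F) (x y : Fin n → F) : F := x ⬝ᵥ (fun i => σ (y i))

theorem stdH_apply (σ : F ≃+* F) (x y : Fin n → F) : stdH σ x y = ∑ i, x i * σ (y i) := rfl

theorem isHerm_stdH {σ : F ≃+* F} (hσ2 : ∀ a, σ (σ a) = a) :
    IsHerm σ (stdH (n := n) σ) := by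
  refine ⟨?_, ?_, ?_⟩
  · intro u v w
    unfold stdH
    rw [add_dotProduct]
  · intro a v w
    unfold stdH
    rw [smul_dotProduct, smul_eq_mul]
  · intro v w
    rw [stdH_apply, stdH_apply, map_sum]
    apply Finset.sum_congr rfl
    intro i _
    rw [map_mul, hσ2, mul_comm]

theorem stdH_single_right (σ : F ≃+* F) (x : Fin n → F) (i : Fin n) :
    stdH σ x (Pi.single i 1) = x i := by
  classical
  rw [stdH_apply, Finset.sum_eq_single i]
  · rw [Pi.single_eq_same, map_one, mul_one]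
  · intro j _ hji
    rw [Pi.single_eq_of_ne hji, map_zero, mul_zero]
  · intro h
    exact absurd (Finset.mem_univ i) h

theorem stdH_basis (σ : F ≃+* F) (i j : Fin n) :
    stdH σ (Pi.single i (1 : F)) (Pi.single j 1) = if i = j then 1 else 0 := by
  rw [stdH_single_right, Pi.single_apply]
  by_cases h : i = j
  · rw [if_pos h.symm, if_pos h]
  · rw [if_neg (Ne.symm h), if_neg h]

theorem stdH_sep (σ : F ≃+* F) (x : Fin n → F)
    (h : ∀ i, stdH σ x (Pi.single i 1) = 0) : x = 0 := by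
  ext i
  rw [← stdH_single_right σ x i, h]
  rfl

theorem map_mulVec_comp (σ : F ≃+* F) (g : Matrix (Fin n) (Fin n) F) (y : Fin n → F) :
    (fun i => σ ((g *ᵥ y) i)) = (g.map σ) *ᵥ (fun i => σ (y i)) := by
  ext i
  simp only [Matrix.mulVec, dotProduct, map_sum, map_mul, Matrix.map_apply]

/-- a matrix is an isometry of the standard Hermitian form iff it is unitary -/
theorem isomU_iff (σ : F ≃+* F) (g : Matrix (Fin n) (Fin n) F) :
    (∀ x y, stdH σ (g *ᵥ x) (g *ᵥ y) = stdH σ x y) ↔ gᵀ * g.map σ = 1 := by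
  have key : ∀ x y, stdH σ (g *ᵥ x) (g *ᵥ y)
      = x ⬝ᵥ ((gᵀ * g.map σ) *ᵥ (fun i => σ (y i))) := by
    intro x y
    unfold stdH
    rw [map_mulVec_comp, ← Matrix.mulVec_mulVec, Matrix.dotProduct_mulVec x,
      ← Matrix.mulVec_transpose, Matrix.transpose_transpose]
  constructor
  · intro h
    ext i j
    have := h (Pi.single i 1) (Pi.single j 1)
    rw [key, stdH_basis] at this
    have h3 : (fun k => σ ((Pi.single j (1 : F) : Fin n → F) k)) = Pi.single j 1 := by
      ext k
      by_cases hk : k = j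
      · subst hk
        rw [Pi.single_eq_same, map_one]
      · rw [Pi.single_eq_of_ne hk, map_zero]
    rw [h3] at this
    rw [Matrix.one_apply]
    simpa using this
  · intro h x y
    rw [key, h, Matrix.one_mulVec]
    rfl

end GraphU1

end Cfsg.Agent.Lib.Helper5.LBal
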