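import Mathlib
import Cfsg.Agent.Lib.Helper5.LBal.Herm1

set_option autoImplicit false

/-! Existence of isotropic vectors with prescribed properties in a nondegenerate Hermitian
space. -/

namespace Cfsg.Agent.Lib.Helper5.LBal

open Module Cfsg.Agent.Lib.Helper5.PSLCoset

section Herm3
variable {F : Type*} [Field F] {σ : F ≃+* F} {V : Type*} [AddCommGroup V] [Module F V]
variable {H : V → V → F}

theorem H_self_fixed (hH : IsHerm σ H) (x : V) : σ (H x x) = H x x := (hH.symm x x).symm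

theorem herm_neg_right (hH : IsHerm σ H) (v w : V) : H v (-w) = -H v w := by
  rw [hH.symm (-w) v, hH.neg_left, map_neg, ← hH.symm]

theorem exists_trace_zero (hσ2 : ∀ a, σ (σ a) = a) (hσ1 : σ ≠ 1) : ∃ t : F, t ≠ 0 ∧ σ t = -t := by
  obtain ⟨s, hs⟩ : ∃ s, σ s ≠ s := by
    by_contra hcon
    push Not at hcon
    exact hσ1 (RingEquiv.ext hcon)
  refine ⟨s - σ s, fun h => hs (sub_eq_zero.1 h).symm, ?_⟩
  rw [map_sub, hσ2]
  ring

/-- nondegeneracy in the second variable -/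
theorem nondeg_right (hH : IsHerm σ H) (hnd : ∀ x, (∀ y, H x y = 0) → x = 0) (x : V)
    (h : ∀ y, H y x = 0) : x = 0 := by
  apply hnd
  intro y
  rw [hH.symm y x, h, map_zero]

/-- adjusting a vector by a multiple of an isotropic vector to make it isotropic -/
theorem isotropic_adjust (hH : IsHerm σ H) (h2 : (2 : F) ≠ 0) {e₀ y : V} (he₀ : H e₀ e₀ = 0)
    (hy : H e₀ y ≠ 0) :
    H (y + (-(H y y / 2) / H e₀ y) • e₀) (y + (-(H y y / 2) / H e₀ y) • e₀) = 0 := by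
  have hs : σ (H y y) = H y y := H_self_fixed hH y
  have h2' : σ (2 : F) = 2 := map_ofNat σ 2
  have h1 : σ (-(H y y / 2) / H e₀ y) * σ (H e₀ y) = -(H y y / 2) := by
    rw [← map_mul, div_mul_cancel₀ _ hy, map_neg, map_div₀, hs, h2']
  simp only [hH.add_left, hH.add_right, hH.smul_left, hH.smul_right, he₀]
  rw [hH.symm e₀ y, h1, mul_zero, mul_zero, add_zero, div_mul_cancel₀ _ hy]
  field_simp
  ring

theorem exists_nonperp_both_herm (hH : IsHerm σ H) (h2 : (2 : F) ≠ 0)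
    (hnd : ∀ x, (∀ y, H x y = 0) → x = 0) {e₀ e : V} (he₀0 : e₀ ≠ 0) (he0 : e ≠ 0)
    (he₀ : H e₀ e₀ = 0) (hee : H e₀ e = 0) :
    ∃ z, H z z = 0 ∧ H e₀ z ≠ 0 ∧ H z e ≠ 0 := by
  obtain ⟨y₁, hy₁⟩ : ∃ y₁, H e₀ y₁ ≠ 0 := by
    by_contra hcon
    push Not at hcon
    exact he₀0 (hnd e₀ hcon)
  obtain ⟨y₂, hy₂⟩ : ∃ y₂, H y₂ e ≠ 0 := by
    by_contra hcon
    push Not at hcon
    exact he0 (nondeg_right hH hnd e hcon)
  obtain ⟨y, hy1, hy2⟩ : ∃ y, H e₀ y ≠ 0 ∧ H y e ≠ 0 := by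
    by_cases h3 : H y₁ e = 0
    · by_cases h4 : H e₀ y₂ = 0
      · refine ⟨y₁ + y₂, ?_, ?_⟩
        · rw [hH.add_right, h4, add_zero]; exact hy₁
        · rw [hH.add_left, h3, zero_add]; exact hy₂
      · exact ⟨y₂, h4, hy₂⟩
    · exact ⟨y₁, hy₁, h3⟩
  refine ⟨_, isotropic_adjust hH h2 he₀ hy1, ?_, ?_⟩
  · rw [hH.add_right, hH.smul_right, he₀, mul_zero, add_zero]
    exact hy1
  · rw [hH.add_left, hH.smul_left, hee, mul_zero, add_zero]
    exact hy2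

theorem exists_partner_herm (hH : IsHerm σ H) (h2 : (2 : F) ≠ 0)
    (hnd : ∀ x, (∀ y, H x y = 0) → x = 0) {e : V} (he0 : e ≠ 0) (he : H e e = 0) :
    ∃ g, H g g = 0 ∧ H g e = 1 := by
  obtain ⟨y, hy⟩ : ∃ y, H e y ≠ 0 := by
    by_contra hcon
    push Not at hcon
    exact he0 (hnd e hcon)
  obtain ⟨z, hz⟩ : ∃ z, z = y + (-(H y y / 2) / H e y) • e := ⟨_, rfl⟩
  have hzz : H z z = 0 := by
    rw [hz]
    exact isotropic_adjust hH h2 he hy
  have hze : H z e ≠ 0 := by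
    rw [hz, hH.add_left, hH.smul_left, he, mul_zero, add_zero, hH.symm e y]
    exact fun h => hy ((map_eq_zero σ).1 h)
  refine ⟨(H z e)⁻¹ • z, ?_, ?_⟩
  · rw [hH.smul_left, hH.smul_right, hzz, mul_zero, mul_zero]
  · rw [hH.smul_left, inv_mul_cancel₀ hze]

theorem mem_span_of_perp (hH : IsHerm σ H) (hσ2 : ∀ a, σ (σ a) = a)
    (hnd : ∀ x, (∀ y, H x y = 0) → x = 0) {e e' : V} (he0 : e ≠ 0)
    (h : ∀ y, H y e = 0 → H y e' = 0) : ∃ c : F, e' = c • e := by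
  obtain ⟨y₁, hy₁⟩ : ∃ y₁, H y₁ e ≠ 0 := by
    by_contra hcon
    push Not at hcon
    exact he0 (nondeg_right hH hnd e hcon)
  obtain ⟨y₀, hy₀⟩ : ∃ y₀, y₀ = (H y₁ e)⁻¹ • y₁ := ⟨_, rfl⟩
  have hy₀e : H y₀ e = 1 := by rw [hy₀, hH.smul_left, inv_mul_cancel₀ hy₁]
  have h1 : ∀ y, H y e' = H y e * H y₀ e' := by
    intro y
    have h3 := h (y - H y e • y₀) (by rw [hH.sub_left, hH.smul_left, hy₀e, mul_one, sub_self])
    rw [hH.sub_left, hH.smul_left] at h3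
    exact sub_eq_zero.1 h3
  refine ⟨σ (H y₀ e'), ?_⟩
  have h3 : e' - σ (H y₀ e') • e = 0 := by
    apply nondeg_right hH hnd
    intro y
    rw [hH.sub_right, hH.smul_right, hσ2, h1 y]
    ring
  exact sub_eq_zero.1 h3

theorem exists_perp_nonperp (hH : IsHerm σ H) (hσ2 : ∀ a, σ (σ a) = a) (h2 : (2 : F) ≠ 0)
    (hnd : ∀ x, (∀ y, H x y = 0) → x = 0) {e e' : V} (he0 : e ≠ 0) (he' : H e' e' = 0)
    (hee' : H e e' = 0) (hne : ∀ c : F, e' ≠ c • e) :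
    ∃ z, H z z = 0 ∧ H z e = 0 ∧ H e' z ≠ 0 := by
  obtain ⟨y, hy1, hy2⟩ : ∃ y, H y e = 0 ∧ H y e' ≠ 0 := by
    by_contra hcon
    push Not at hcon
    obtain ⟨c, hc⟩ := mem_span_of_perp hH hσ2 hnd he0 hcon
    exact hne c hc
  have hy3 : H e' y ≠ 0 := by
    rw [hH.symm y e']
    exact fun h => hy2 ((map_eq_zero σ).1 h)
  have he'e : H e' e = 0 := by rw [hH.symm e e', hee', map_zero]
  refine ⟨_, isotropic_adjust hH h2 he' hy3, ?_, ?_⟩
  · rw [hH.add_left, hH.smul_left, he'e, mul_zero, add_zero]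
    exact hy1
  · rw [hH.add_right, hH.smul_right, he', mul_zero, add_zero]
    exact hy3

end Herm3

end Cfsg.Agent.Lib.Helper5.LBal
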