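import Mathlib
import Cfsg.Agent.Lib.Helper5.LBal.Herm3
import Cfsg.Agent.Lib.Helper5.GInv.Parity

set_option autoImplicit false

/-! The number of isotropic points of a Hermitian space with an orthonormal basis over a finite
field of odd characteristic is even. -/

namespace Cfsg.Agent.Lib.Helper5.LBal

open Module Cfsg.Agent.Lib.Helper5.PSLCoset Cfsg.Agent.Lib.Helper5.GInv

section Herm4
variable {F : Type*} [Field F] {σ : F ≃+* F} {V : Type*} [AddCommGroup V] [Module F V]
variable {H : V → V → F}

/-- the reflection in a vector of norm one -/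
def hrefl (hH : IsHerm σ H) (b : V) : V →ₗ[F] V :=
  LinearMap.id - (2 : F) • (hH.toDual b).smulRight b

theorem hrefl_apply (hH : IsHerm σ H) (b x : V) : hrefl hH b x = x - (2 * H x b) • b := by
  simp only [hrefl, LinearMap.sub_apply, LinearMap.id_coe, id_eq, LinearMap.smul_apply,
    LinearMap.smulRight_apply, IsHerm.toDual_apply, mul_smul]

theorem H_hrefl_b (hH : IsHerm σ H) {b : V} (hb : H b b = 1) (x : V) :
    H (hrefl hH b x) b = -H x b := by
  rw [hrefl_apply, hH.sub_left, hH.smul_left, hb]
  ring

theorem hrefl_hrefl (hH : IsHerm σ H) {b : V} (hb : H b b = 1) (x : V) :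
    hrefl hH b (hrefl hH b x) = x := by
  rw [hrefl_apply hH b (hrefl hH b x), H_hrefl_b hH hb, hrefl_apply]
  module

theorem H_hrefl (hH : IsHerm σ H) {b : V} (hb : H b b = 1) (x y : V) :
    H (hrefl hH b x) (hrefl hH b y) = H x y := by
  rw [hrefl_apply, hrefl_apply]
  simp only [hH.sub_left, hH.sub_right, hH.smul_left, hH.smul_right, hb, map_mul]
  rw [hH.symm y b, map_ofNat]
  ring

theorem hrefl_comm (hH : IsHerm σ H) {b b' : V} (h : H b b' = 0) (x : V) :
    hrefl hH b (hrefl hH b' x) = hrefl hH b' (hrefl hH b x) := by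
  have h' : H b' b = 0 := by rw [hH.symm b b', h, map_zero]
  rw [hrefl_apply hH b (hrefl hH b' x), hrefl_apply hH b' (hrefl hH b x), hrefl_apply hH b' x,
    hrefl_apply hH b x]
  simp only [hH.sub_left, hH.smul_left, h, h', mul_zero, sub_zero]
  abel

/-- isotropic points -/
def IsIsoPt (H : V → V → F) (P : Submodule F V) : Prop :=
  ∃ e : V, e ≠ 0 ∧ H e e = 0 ∧ P = Submodule.span F {e}

set_option maxHeartbeats 800000 in
/-- the number of isotropic points is even -/
theorem even_card_isoPts [Finite F] [FiniteDimensional F V] (hH : IsHerm σ H)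
    (h2 : (2 : F) ≠ 0) {m : ℕ} (b : Fin m → V)
    (hb : ∀ i j, H (b i) (b j) = if i = j then 1 else 0)
    (hb0 : ∀ x, (∀ i, H x (b i) = 0) → x = 0) :
    Even (Nat.card {P : Submodule F V // IsIsoPt H P}) := by
  classical
  haveI : Finite (Submodule F V) := finite_submodule
  haveI : Fintype {P : Submodule F V // IsIsoPt H P} := Fintype.ofFinite _
  rw [Nat.card_eq_fintype_card]
  have hbb : ∀ i, H (b i) (b i) = 1 := by
    intro i
    rw [hb i i, if_pos rfl]
  let ρ : Fin m → {P : Submodule F V // IsIsoPt H P} → {P : Submodule F V // IsIsoPt H P} :=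
    fun i P => ⟨P.1.map (hrefl hH (b i)), by
      obtain ⟨e, he0, he, hP⟩ := P.2
      refine ⟨hrefl hH (b i) e, ?_, ?_, ?_⟩
      · intro h
        apply he0
        have := congrArg (hrefl hH (b i)) h
        rw [hrefl_hrefl hH (hbb i), map_zero] at this
        exact this
      · rw [H_hrefl hH (hbb i)]
        exact he
      · rw [hP, Submodule.map_span, Set.image_singleton]⟩
  apply even_card_of_comm_invol m ρ
  · intro i P
    apply Subtype.ext
    show (P.1.map (hrefl hH (b i))).map (hrefl hH (b i)) = P.1
    rw [← Submodule.map_comp]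
    have : (hrefl hH (b i)).comp (hrefl hH (b i)) = LinearMap.id := by
      ext x
      exact hrefl_hrefl hH (hbb i) x
    rw [this, Submodule.map_id]
  · intro i j P
    apply Subtype.ext
    show (P.1.map (hrefl hH (b j))).map (hrefl hH (b i)) =
      (P.1.map (hrefl hH (b i))).map (hrefl hH (b j))
    rw [← Submodule.map_comp, ← Submodule.map_comp]
    congr 1
    ext x
    by_cases hij : i = j
    · rw [hij]
    · exact hrefl_comm hH (by rw [hb i j, if_neg hij]) x
  · intro P
    by_contra hcon
    push Not at hcon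
    obtain ⟨e, he0, he, hP⟩ := P.2
    apply he0
    apply hb0
    intro i
    have h1 : P.1.map (hrefl hH (b i)) = P.1 := congrArg Subtype.val (hcon i)
    have h3 : hrefl hH (b i) e ∈ P.1 := by
      rw [← h1]
      apply Submodule.mem_map_of_mem
      rw [hP]
      exact Submodule.mem_span_singleton_self e
    rw [hP, Submodule.mem_span_singleton] at h3
    obtain ⟨l, hl⟩ := h3
    rw [hrefl_apply] at hl
    have h4 : (2 * H e (b i)) • b i = (1 - l) • e := by
      rw [sub_smul, one_smul, hl]
      abel
    have h5 : H ((2 * H e (b i)) • b i) ((2 * H e (b i)) • b i) = 0 := by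
      rw [h4, hH.smul_left, hH.smul_right, he, mul_zero, mul_zero]
    rw [hH.smul_left, hH.smul_right, hbb i, mul_one] at h5
    rcases mul_eq_zero.1 h5 with h | h
    · exact (mul_eq_zero.1 h).resolve_left h2
    · exact (mul_eq_zero.1 ((map_eq_zero σ).1 h)).resolve_left h2

end Herm4

end Cfsg.Agent.Lib.Helper5.LBal
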