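import Mathlib
import Cfsg.Agent.Lib.Helper5.LBal.Herm4
import Cfsg.Agent.Lib.Helper5.GInv.NC

set_option autoImplicit false

/-! A group of isometries of odd order of a Hermitian space normalized by the Siegel
transformations: the image of an isotropic vector is orthogonal to it. -/

namespace Cfsg.Agent.Lib.Helper5.LBal

open Module Cfsg.Agent.Lib.Helper5.PSLCoset Cfsg.Agent.Lib.Helper5.GInv
open scoped Pointwise

section NCU1
variable {F : Type*} [Field F] {σ : F ≃+* F} {V : Type*} [AddCommGroup V] [Module F V]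
variable {H : V → V → F}

theorem herm_ne_symm (hH : IsHerm σ H) {x y : V} (h : H x y ≠ 0) : H y x ≠ 0 := by
  rw [hH.symm x y]
  exact fun h0 => h ((map_eq_zero σ).1 h0)

set_option maxHeartbeats 1600000 in
theorem nc_u_P1 [Finite F] [FiniteDimensional F V] (hH : IsHerm σ H)
    (hσ2 : ∀ a, σ (σ a) = a) (h2 : (2 : F) ≠ 0) {m : ℕ} (b : Fin m → V)
    (hb : ∀ i j, H (b i) (b j) = if i = j then 1 else 0)
    (hb0 : ∀ x, (∀ i, H x (b i) = 0) → x = 0)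
    (D : Subgroup (V ≃ₗ[F] V)) (hodd : Odd (Nat.card D))
    (hiso : ∀ δ ∈ D, ∀ x y, H (δ x) (δ y) = H x y)
    (hnorm : ∀ (e w : V) (c : F) (h : SiegOK σ H e w c), ∀ δ ∈ D,
      siegE hH hσ2 e w c h * δ * (siegE hH hσ2 e w c h)⁻¹ ∈ D) :
    ∀ δ ∈ D, ∀ e, H e e = 0 → H (δ e) e = 0 := by
  classical
  haveI : Finite (V ≃ₗ[F] V) := finite_linearEquiv
  have hnd : ∀ x, (∀ y, H x y = 0) → x = 0 := fun x hx => hb0 x (fun i => hx (b i))
  have hinvapp' : ∀ (δ : V ≃ₗ[F] V) (x : V), δ⁻¹ (δ x) = x := fun δ x => δ.symm_apply_apply x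
  intro δ₀ hδ₀ e₀ he₀
  by_contra hne
  have he₀0 : e₀ ≠ 0 := by
    intro h
    apply hne
    rw [h, hH.zero_right]
  -- the relation
  have A1 : ∀ e e' : V, H e e = 0 → H e' e' = 0 → H e e' ≠ 0 →
      (∃ δ ∈ D, ∃ c : F, c ≠ 0 ∧ δ e₀ = c • e) →
      ∃ δ ∈ D, ∃ c : F, c ≠ 0 ∧ δ e₀ = c • e' := by
    rintro e e' he he' hee' ⟨δ₁, hδ₁, c, hc0, hδ₁e⟩
    have he'e : H e' e ≠ 0 := herm_ne_symm hH hee'
    obtain ⟨g₁, hg₁⟩ : ∃ g₁, g₁ = δ₁ (δ₀ e₀) := ⟨_, rfl⟩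
    have hg₁Q : H g₁ g₁ = 0 := by rw [hg₁, hiso δ₁ hδ₁, hiso δ₀ hδ₀, he₀]
    have hδ₁inv : δ₁⁻¹ e = c⁻¹ • e₀ := by
      have : e = δ₁ (c⁻¹ • e₀) := by
        rw [map_smul, hδ₁e, smul_smul, inv_mul_cancel₀ hc0, one_smul]
      rw [this, hinvapp']
    have hs : H g₁ e = σ c⁻¹ * H (δ₀ e₀) e₀ := by
      have h3 : e = δ₁ (c⁻¹ • e₀) := by
        rw [map_smul, hδ₁e, smul_smul, inv_mul_cancel₀ hc0, one_smul]
      rw [hg₁, h3, hiso δ₁ hδ₁, hH.smul_right]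
    have hs0 : H g₁ e ≠ 0 := by
      rw [hs]
      refine mul_ne_zero ?_ hne
      exact fun h0 => inv_ne_zero hc0 ((map_eq_zero σ).1 h0)
    obtain ⟨f₁, hf₁⟩ : ∃ f₁, f₁ = (H g₁ e)⁻¹ • g₁ := ⟨_, rfl⟩
    obtain ⟨f₂, hf₂⟩ : ∃ f₂, f₂ = (H e' e)⁻¹ • e' := ⟨_, rfl⟩
    have hf₁Q : H f₁ f₁ = 0 := by
      rw [hf₁, hH.smul_left, hH.smul_right, hg₁Q, mul_zero, mul_zero]
    have hf₂Q : H f₂ f₂ = 0 := by
      rw [hf₂, hH.smul_left, hH.smul_right, he', mul_zero, mul_zero]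
    have hef₁ : H f₁ e = 1 := by rw [hf₁, hH.smul_left, inv_mul_cancel₀ hs0]
    have hef₂ : H f₂ e = 1 := by rw [hf₂, hH.smul_left, inv_mul_cancel₀ he'e]
    have hOK := siegOK_partner hH he hf₁Q hf₂Q hef₁ hef₂
    have hρ : sieg hH e (f₂ - f₁) (H f₁ f₂) f₁ = f₂ := sieg_partner hH hf₁Q hef₁
    have hmem : siegE hH hσ2 e (f₂ - f₁) (H f₁ f₂) hOK * (δ₁ * δ₀ * δ₁⁻¹) *
        (siegE hH hσ2 e (f₂ - f₁) (H f₁ f₂) hOK)⁻¹ ∈ D :=
      hnorm e (f₂ - f₁) (H f₁ f₂) hOK _ (D.mul_mem (D.mul_mem hδ₁ hδ₀) (D.inv_mem hδ₁))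
    refine ⟨_, D.mul_mem hmem hδ₁, H g₁ e * (H e' e)⁻¹,
      mul_ne_zero hs0 (inv_ne_zero he'e), ?_⟩
    have hρinv : (siegE hH hσ2 e (f₂ - f₁) (H f₁ f₂) hOK)⁻¹ e = e := by
      show (siegE hH hσ2 e (f₂ - f₁) (H f₁ f₂) hOK).symm e = e
      rw [siegE_symm_apply]
      exact sieg_e hH (hOK.inv hH hσ2)
    have hg₁' : g₁ = H g₁ e • f₁ := by
      rw [hf₁, smul_smul, mul_inv_cancel₀ hs0, one_smul]
    rw [LinearEquiv.mul_apply, hδ₁e, map_smul, LinearEquiv.mul_apply, LinearEquiv.mul_apply,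
      hρinv, LinearEquiv.mul_apply, LinearEquiv.mul_apply, hδ₁inv, map_smul, map_smul, ← hg₁,
      map_smul, smul_smul, mul_inv_cancel₀ hc0, one_smul]
    conv_lhs => rw [hg₁']
    rw [map_smul, siegE_apply, hρ, hf₂, smul_smul]
  have A : ∀ e : V, e ≠ 0 → H e e = 0 → ∃ δ ∈ D, ∃ c : F, c ≠ 0 ∧ δ e₀ = c • e := by
    intro e he0 he
    have hR₀ : ∃ δ ∈ D, ∃ c : F, c ≠ 0 ∧ δ e₀ = c • e₀ :=
      ⟨1, D.one_mem, 1, one_ne_zero, by simp⟩
    by_cases hee : H e₀ e = 0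
    · obtain ⟨z, hz, hz1, hz2⟩ := exists_nonperp_both_herm hH h2 hnd he₀0 he0 he₀ hee
      have hRz := A1 e₀ z he₀ hz hz1 hR₀
      exact A1 z e hz he hz2 hRz
    · exact A1 e₀ e he₀ he hee hR₀
  -- counting
  have horb : MulAction.orbit ↥D (Submodule.span F {e₀}) = {P | IsIsoPt H P} := by
    ext P
    constructor
    · rintro ⟨δ, rfl⟩
      refine ⟨(δ : V ≃ₗ[F] V) e₀, ?_, ?_, ?_⟩
      · intro h
        apply he₀0
        have := hinvapp' (δ : V ≃ₗ[F] V) e₀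
        rw [h, map_zero] at this
        exact this.symm
      · rw [hiso _ δ.2]; exact he₀
      · exact smul_span_singleton' (δ : V ≃ₗ[F] V) e₀
    · rintro ⟨e, he0, he, rfl⟩
      obtain ⟨δ, hδ, c, hc0, hδe⟩ := A e he0 he
      refine ⟨⟨δ, hδ⟩, ?_⟩
      show δ • Submodule.span F {e₀} = _
      rw [smul_span_singleton', hδe]
      exact Submodule.span_singleton_smul_eq (IsUnit.mk0 c hc0) e
  have h3 := MulAction.index_stabilizer ↥D (Submodule.span F {e₀})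
  rw [horb, ← Nat.card_coe_set_eq] at h3
  have h4 : Nat.card {P : Submodule F V // IsIsoPt H P} ∣ Nat.card D := by
    have := Subgroup.index_dvd_card (MulAction.stabilizer ↥D (Submodule.span F {e₀}))
    rw [h3] at this
    exact this
  have h5 := even_card_isoPts hH h2 b hb hb0
  obtain ⟨m', hm'⟩ := h4
  rw [hm'] at hodd
  exact (Nat.not_even_iff_odd.2 (Nat.Odd.of_mul_left hodd)) h5

end NCU1

end Cfsg.Agent.Lib.Helper5.LBal
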