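import Mathlib
import Cfsg.Agent.Lib.Helper5.LBal.Herm3

set_option autoImplicit false

/-! Semilinear maps fixing all isotropic points of a Hermitian space of dimension at least
three are scalar multiplications. -/

namespace Cfsg.Agent.Lib.Helper5.LBal

open Module Cfsg.Agent.Lib.Helper5.PSLCoset

section NCU2
variable {F : Type*} [Field F] {σ : F ≃+* F} {V : Type*} [AddCommGroup V] [Module F V]
variable {H : V → V → F}

/-- the basic relation on a hyperbolic pair -/
theorem u_pair (hH : IsHerm σ H) (τ : F ≃+* F) (f : V → V)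
    (hadd : ∀ x y, f (x + y) = f x + f y) (hsmul : ∀ (c : F) (x : V), f (c • x) = τ c • f x)
    (hfix : ∀ z : V, z ≠ 0 → H z z = 0 → ∃ c : F, f z = c • z)
    {e g : V} {l μ : F} (he : H e e = 0) (hg : H g g = 0) (heg : H e g = 1)
    (hfe : f e = l • e) (hfg : f g = μ • g) {t : F} (ht : σ t = -t) :
    τ t * μ = t * l := by
  have hge : H g e = 1 := by rw [hH.symm e g, heg, map_one]
  obtain ⟨z, hz⟩ : ∃ z, z = e + t • g := ⟨_, rfl⟩
  have hzz : H z z = 0 := by
    rw [hz]
    simp only [hH.add_left, hH.add_right, hH.smul_left, hH.smul_right, he, hg, heg, hge, ht]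
    ring
  have hzg : H z g = 1 := by
    rw [hz, hH.add_left, hH.smul_left, heg, hg, mul_zero, add_zero]
  have hz0 : z ≠ 0 := by
    intro h
    rw [h, hH.zero_left] at hzg
    exact zero_ne_one hzg
  obtain ⟨ν, hν⟩ := hfix z hz0 hzz
  have h1 : f z = l • e + (τ t * μ) • g := by
    rw [hz, hadd, hsmul, hfe, hfg, smul_smul]
  rw [h1, hz] at hν
  have h3 := congrArg (fun x => H x g) hν
  have h4 := congrArg (fun x => H x e) hν
  simp only [hH.add_left, hH.smul_left, heg, hg, he, hge] at h3 h4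
  have h5 : l = ν := by linear_combination h3
  rw [h5]
  linear_combination h4

set_option maxHeartbeats 1600000 in
theorem u_main (hH : IsHerm σ H) (hσ2 : ∀ a, σ (σ a) = a) (h2 : (2 : F) ≠ 0)
    {t₀ : F} (ht₀ : t₀ ≠ 0) (ht₀' : σ t₀ = -t₀)
    {u w v : V} (hu : H u u = 0) (hw : H w w = 0) (huw : H u w = 1) (hvu : H v u = 0)
    (hvw : H v w = 0) (hvv : H v v ≠ 0)
    (τ : F ≃+* F) (f : V → V)
    (hadd : ∀ x y, f (x + y) = f x + f y) (hsmul : ∀ (c : F) (x : V), f (c • x) = τ c • f x)
    (hinj : ∀ x, f x = 0 → x = 0)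
    (hfix : ∀ z : V, z ≠ 0 → H z z = 0 → ∃ c : F, f z = c • z) :
    (∀ t, τ t = t) ∧ ∃ κ : F, ∀ x, f x = κ • x := by
  have hpair := fun {e g : V} {l μ : F} (he : H e e = 0) (hg : H g g = 0) (heg : H e g = 1)
    (hfe : f e = l • e) (hfg : f g = μ • g) {t : F} (ht : σ t = -t) =>
    u_pair hH τ f hadd hsmul hfix he hg heg hfe hfg ht
  have hwu : H w u = 1 := by rw [hH.symm u w, huw, map_one]
  have huv : H u v = 0 := by rw [hH.symm v u, hvu, map_zero]
  have hwv : H w v = 0 := by rw [hH.symm v w, hvw, map_zero]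
  have hu0 : u ≠ 0 := by
    intro h
    rw [h, hH.zero_left] at huw
    exact zero_ne_one huw
  have hw0 : w ≠ 0 := by
    intro h
    rw [h, hH.zero_left] at hwu
    exact zero_ne_one hwu
  obtain ⟨lu, hlu⟩ := hfix u hu0 hu
  obtain ⟨lw, hlw⟩ := hfix w hw0 hw
  have hlu0 : lu ≠ 0 := by
    intro h
    rw [h, zero_smul] at hlu
    exact hu0 (hinj u hlu)
  have hlw0 : lw ≠ 0 := by
    intro h
    rw [h, zero_smul] at hlw
    exact hw0 (hinj w hlw)
  have hτt₀ : τ t₀ ≠ 0 := fun h => ht₀ ((map_eq_zero τ).1 h)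
  have hbase := hpair hu hw huw hlu hlw ht₀'
  -- `τ` fixes the fixed field of `σ`
  have hτfix : ∀ c : F, σ c = c → τ c = c := by
    intro c hc
    have h1 : σ (c * t₀) = -(c * t₀) := by rw [map_mul, hc, ht₀']; ring
    have h3 := hpair hu hw huw hlu hlw h1
    rw [map_mul] at h3
    have h4 : (τ c - c) * (τ t₀ * lw) = 0 := by linear_combination h3 - c * hbase
    rcases mul_eq_zero.1 h4 with h | h
    · exact sub_eq_zero.1 h
    · exact absurd h (mul_ne_zero hτt₀ hlw0)
  have hτ2 : τ 2 = 2 := map_ofNat τ 2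
  have hσ2' : σ 2 = 2 := map_ofNat σ 2
  -- decomposition of the field
  have hdec : ∀ a : F, τ a = (a + σ a) / 2 + ((a - σ a) / (2 * t₀)) * τ t₀ := by
    intro a
    have h1 : σ ((a + σ a) / 2) = (a + σ a) / 2 := by
      rw [map_div₀, map_add, hσ2, hσ2']
      ring
    have h3 : σ ((a - σ a) / (2 * t₀)) = (a - σ a) / (2 * t₀) := by
      rw [map_div₀, map_sub, hσ2, map_mul, hσ2', ht₀']
      field_simp
      ring
    have h4 : a = (a + σ a) / 2 + ((a - σ a) / (2 * t₀)) * t₀ := by
      field_simp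
      ring
    conv_lhs => rw [h4]
    rw [map_add, map_mul, hτfix _ h1, hτfix _ h3]
  have hsq : (τ t₀ - t₀) * (τ t₀ + t₀) = 0 := by
    have h1 : σ (t₀ * t₀) = t₀ * t₀ := by rw [map_mul, ht₀']; ring
    have h3 := hτfix _ h1
    rw [map_mul] at h3
    linear_combination h3
  have hneg : ∀ x : V, f (-x) = -f x := by
    intro x
    have := hsmul (-1) x
    rwa [neg_one_smul, map_neg, map_one, neg_one_smul] at this
  rcases mul_eq_zero.1 hsq with hcase | hcase
  · -- `τ` is the identity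
    have hτt : τ t₀ = t₀ := sub_eq_zero.1 hcase
    have hτid : ∀ a, τ a = a := by
      intro a
      rw [hdec a, hτt]
      field_simp
      ring
    refine ⟨hτid, lu, ?_⟩
    have hsame : ∀ {e g : V} {l μ : F}, H e e = 0 → H g g = 0 → H e g = 1 → f e = l • e →
        f g = μ • g → μ = l := by
      intro e g l μ he hg heg hfe hfg
      have := hpair he hg heg hfe hfg ht₀'
      rw [hτt] at this
      exact mul_left_cancel₀ ht₀ this
    have hlwu : lw = lu := hsame hu hw huw hlu hlw
    intro x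
    obtain ⟨α, hα⟩ : ∃ α, α = H x w := ⟨_, rfl⟩
    obtain ⟨β, hβ⟩ : ∃ β, β = H x u := ⟨_, rfl⟩
    obtain ⟨y, hy⟩ : ∃ y, y = x - α • u - β • w := ⟨_, rfl⟩
    have hyu : H y u = 0 := by
      rw [hy, hH.sub_left, hH.sub_left, hH.smul_left, hH.smul_left, hu, hwu, ← hβ]
      ring
    have hyw : H y w = 0 := by
      rw [hy, hH.sub_left, hH.sub_left, hH.smul_left, hH.smul_left, huw, hw, ← hα]
      ring
    have huy : H u y = 0 := by rw [hH.symm y u, hyu, map_zero]
    have hwy : H w y = 0 := by rw [hH.symm y w, hyw, map_zero]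
    obtain ⟨μ₀, hμ₀⟩ : ∃ μ₀, μ₀ = -(H y y / 2) := ⟨_, rfl⟩
    have hμ₀σ : σ μ₀ = μ₀ := by
      rw [hμ₀, map_neg, map_div₀, H_self_fixed hH, hσ2']
    obtain ⟨z, hz⟩ : ∃ z, z = y + μ₀ • u + w := ⟨_, rfl⟩
    have hzz : H z z = 0 := by
      rw [hz]
      simp only [hH.add_left, hH.add_right, hH.smul_left, hH.smul_right, hu, hw, huw, hwu, hyu,
        hyw, huy, hwy, hμ₀σ]
      rw [hμ₀]
      field_simp
      ring
    have huz : H u z = 1 := by
      rw [hz, hH.add_right, hH.add_right, hH.smul_right, huy, hu, huw]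
      ring
    have hz0 : z ≠ 0 := by
      intro h
      rw [h, hH.zero_right] at huz
      exact zero_ne_one huz
    obtain ⟨ν, hν⟩ := hfix z hz0 hzz
    have hνlu : ν = lu := hsame hu hzz huz hlu hν
    have hfy : f y = lu • y := by
      have h1 : y = z + (-μ₀) • u + -w := by
        rw [hz]
        module
      conv_lhs => rw [h1]
      rw [hadd, hadd, hneg, hsmul, hν, hlu, hlw, hνlu, hlwu, hτid]
      conv_rhs => rw [h1]
      module
    have hx : x = y + α • u + β • w := by
      rw [hy]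
      abel
    conv_lhs => rw [hx]
    rw [hadd, hadd, hsmul, hsmul, hfy, hlu, hlw, hlwu, hτid, hτid]
    conv_rhs => rw [hx]
    module
  · -- `τ = σ` is impossible
    exfalso
    have hτt : τ t₀ = -t₀ := eq_neg_of_add_eq_zero_left hcase
    have hτσ : ∀ a, τ a = σ a := by
      intro a
      rw [hdec a, hτt]
      field_simp
      ring
    -- the relation between the multipliers of two isotropic vectors
    have hR : ∀ {a b : V} {la lb : F}, H a a = 0 → H b b = 0 → H a b ≠ 0 → f a = la • a →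
        f b = lb • b → lb * σ (H a b) = -(la * H a b) := by
      intro a b la lb ha hb hab hfa hfb
      have hσh : σ (H a b) ≠ 0 := fun h => hab ((map_eq_zero σ).1 h)
      obtain ⟨g, hg⟩ : ∃ g, g = (σ (H a b))⁻¹ • b := ⟨_, rfl⟩
      have hgg : H g g = 0 := by
        rw [hg, hH.smul_left, hH.smul_right, hb, mul_zero, mul_zero]
      have hag : H a g = 1 := by
        rw [hg, hH.smul_right, map_inv₀, hσ2, inv_mul_cancel₀ hab]
      have hfg : f g = ((H a b)⁻¹ * lb * σ (H a b)) • g := by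
        rw [hg, hsmul, hfb, hτσ, map_inv₀, hσ2, smul_smul, smul_smul]
        congr 1
        field_simp
      have := hpair ha hgg hag hfa hfg ht₀'
      rw [hτt] at this
      have h3 : t₀ * (lb * σ (H a b) + la * H a b) = 0 := by
        have h4 : -t₀ * ((H a b)⁻¹ * lb * σ (H a b)) * H a b = t₀ * la * H a b := by
          rw [this]
        have h5 : -t₀ * ((H a b)⁻¹ * lb * σ (H a b)) * H a b = -t₀ * (lb * σ (H a b)) := by
          field_simp
        rw [h5] at h4
        linear_combination -h4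
      have h6 := (mul_eq_zero.1 h3).resolve_left ht₀
      linear_combination h6
    obtain ⟨s, hs⟩ : ∃ s, s = H v v := ⟨_, rfl⟩
    have hsσ : σ s = s := by rw [hs]; exact H_self_fixed hH v
    have hs2 : σ (s / 2) = s / 2 := by rw [map_div₀, hsσ, hσ2']
    obtain ⟨u₃, hu₃⟩ : ∃ u₃, u₃ = u + v - (s / 2) • w := ⟨_, rfl⟩
    have hu₃u₃ : H u₃ u₃ = 0 := by
      rw [hu₃]
      simp only [hH.add_left, hH.add_right, hH.sub_left, hH.sub_right, hH.smul_left,
        hH.smul_right, hu, hw, huw, hwu, hvu, hvw, huv, hwv, hs2, ← hs]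
      field_simp
      ring
    have hwu₃ : H w u₃ = 1 := by
      rw [hu₃, hH.sub_right, hH.add_right, hH.smul_right, hwu, hwv, hw]
      ring
    have hu₃u : H u₃ u = -(s / 2) := by
      rw [hu₃, hH.sub_left, hH.add_left, hH.smul_left, hu, hvu, hwu]
      ring
    have hu₃0 : u₃ ≠ 0 := by
      intro h
      rw [h, hH.zero_right] at hwu₃
      exact zero_ne_one hwu₃
    obtain ⟨l₃, hl₃⟩ := hfix u₃ hu₃0 hu₃u₃
    have r1 := hR hu hw (by rw [huw]; exact one_ne_zero) hlu hlw
    have r2 := hR hw hu₃u₃ (by rw [hwu₃]; exact one_ne_zero) hlw hl₃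
    have hs0 : s ≠ 0 := by rw [hs]; exact hvv
    have r3 := hR hu₃u₃ hu (by
      rw [hu₃u]
      exact neg_ne_zero.2 (div_ne_zero hs0 h2)) hl₃ hlu
    rw [huw, map_one] at r1
    rw [hwu₃, map_one] at r2
    rw [hu₃u, map_neg, hs2] at r3
    have h9 : lu * s = 0 := by
      have : lu * s = lu * (s / 2) * 2 := by field_simp
      rw [this]
      linear_combination (-1 : F) * r3 - (s / 2) * r2 + (s / 2) * r1
    rcases mul_eq_zero.1 h9 with h | h
    · exact hlu0 h
    · exact hs0 h

end NCU2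

end Cfsg.Agent.Lib.Helper5.LBal
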