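import Mathlib
import Cfsg.Agent.Lib.Helper5.LBal.NCU1
import Cfsg.Agent.Lib.Helper5.LBal.NCU2

set_option autoImplicit false

/-! A group of isometries of odd order of a Hermitian space of dimension at least three which is
normalized by the Siegel transformations consists of scalar multiplications. -/

namespace Cfsg.Agent.Lib.Helper5.LBal

open Module Cfsg.Agent.Lib.Helper5.PSLCoset Cfsg.Agent.Lib.Helper5.GInv
open scoped Pointwise

section NCU3
variable {F : Type*} [Field F] {σ : F ≃+* F} {V : Type*} [AddCommGroup V] [Module F V]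
variable {H : V → V → F}

set_option maxHeartbeats 1600000 in
theorem nc_u [Finite F] [FiniteDimensional F V] (hH : IsHerm σ H)
    (hσ2 : ∀ a, σ (σ a) = a) (hσ1 : σ ≠ 1) (h2 : (2 : F) ≠ 0) {m : ℕ} (b : Fin m → V)
    (hb : ∀ i j, H (b i) (b j) = if i = j then 1 else 0)
    (hb0 : ∀ x, (∀ i, H x (b i) = 0) → x = 0)
    {u w v : V} (hu : H u u = 0) (hw : H w w = 0) (huw : H u w = 1) (hvu : H v u = 0)
    (hvw : H v w = 0) (hvv : H v v ≠ 0)
    (D : Subgroup (V ≃ₗ[F] V)) (hodd : Odd (Nat.card D))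
    (hiso : ∀ δ ∈ D, ∀ x y, H (δ x) (δ y) = H x y)
    (hnorm : ∀ (e w : V) (c : F) (h : SiegOK σ H e w c), ∀ δ ∈ D,
      siegE hH hσ2 e w c h * δ * (siegE hH hσ2 e w c h)⁻¹ ∈ D) :
    ∀ δ ∈ D, ∃ κ : F, ∀ x, δ x = κ • x := by
  classical
  have hnd : ∀ x, (∀ y, H x y = 0) → x = 0 := fun x hx => hb0 x (fun i => hx (b i))
  have hinvapp : ∀ (δ : V ≃ₗ[F] V) (x : V), δ (δ⁻¹ x) = x := fun δ x => δ.apply_symm_apply x
  have hinvapp' : ∀ (δ : V ≃ₗ[F] V) (x : V), δ⁻¹ (δ x) = x := fun δ x => δ.symm_apply_apply x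
  have P1 := nc_u_P1 hH hσ2 h2 b hb hb0 D hodd hiso hnorm
  obtain ⟨t₀, ht₀, ht₀'⟩ := exists_trace_zero hσ2 hσ1
  -- P2
  have P2 : ∀ δ ∈ D, ∀ e, e ≠ 0 → H e e = 0 → ∃ c : F, δ e = c • e := by
    intro δ hδ e he0 he
    by_contra hcon
    push Not at hcon
    obtain ⟨e', he'⟩ : ∃ e', e' = δ e := ⟨_, rfl⟩
    have he'Q : H e' e' = 0 := by rw [he', hiso δ hδ, he]
    have he'e : H e' e = 0 := by rw [he']; exact P1 δ hδ e he
    have hee' : H e e' = 0 := by rw [hH.symm e' e, he'e, map_zero]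
    obtain ⟨z, hz, hze, he'z⟩ := exists_perp_nonperp hH hσ2 h2 hnd he0 he'Q hee'
      (fun c => by rw [he']; exact hcon c)
    have hez : H e z = 0 := by rw [hH.symm z e, hze, map_zero]
    have hOK : SiegOK σ H z 0 t₀ := siegOK_tv hH hz ht₀'
    have hρinv : (siegE hH hσ2 z 0 t₀ hOK)⁻¹ e = e := by
      show (siegE hH hσ2 z 0 t₀ hOK).symm e = e
      rw [siegE_symm_apply, neg_zero, sieg_tv, hez, mul_zero, zero_smul, add_zero]
    have hmem : δ⁻¹ * (siegE hH hσ2 z 0 t₀ hOK * δ * (siegE hH hσ2 z 0 t₀ hOK)⁻¹) ∈ D :=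
      D.mul_mem (D.inv_mem hδ) (hnorm z 0 t₀ hOK δ hδ)
    have h6 := P1 _ hmem e he
    rw [LinearEquiv.mul_apply, LinearEquiv.mul_apply, LinearEquiv.mul_apply, hρinv, ← he',
      siegE_apply, sieg_tv] at h6
    have h7 : H (δ (δ⁻¹ (e' + (t₀ * H e' z) • z))) (δ e)
        = H (δ⁻¹ (e' + (t₀ * H e' z) • z)) e := hiso δ hδ _ _
    rw [hinvapp, ← he', hH.add_left, hH.smul_left, he'Q, zero_add, hH.symm e' z] at h7
    rw [← h7] at h6
    have hσz : σ (H e' z) ≠ 0 := fun h => he'z ((map_eq_zero σ).1 h)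
    exact mul_ne_zero (mul_ne_zero ht₀ he'z) hσz h6
  -- P3
  intro δ hδ
  obtain ⟨-, κ, hκ⟩ := u_main hH hσ2 h2 ht₀ ht₀' hu hw huw hvu hvw hvv (RingEquiv.refl F) δ
    (fun x y => map_add δ x y) (fun c x => map_smul δ c x) (fun x hx => by
      have := hinvapp' δ x
      rw [hx, map_zero] at this
      exact this.symm) (P2 δ hδ)
  exact ⟨κ, hκ⟩

end NCU3

end Cfsg.Agent.Lib.Helper5.LBal
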