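import Mathlib
import Cfsg.Agent.Lib.Helper5.LBal.GraphU1
import Cfsg.Agent.Lib.Helper5.LBal.NCU3
import Cfsg.Agent.Lib.Helper5.LBal.PSLPipe

set_option autoImplicit false

/-! Graph-field automorphisms: subgroups of odd order of fixed points normalized by the Siegel
transformations are trivial. -/

namespace Cfsg.Agent.Lib.Helper5.LBal

open Matrix Module Cfsg.Agent.Lib.Helper5.SLnAut Cfsg.Agent.Lib.Helper5.SLnBN
  Cfsg.Agent.Lib.Helper5.GraphInv Cfsg.Agent.Lib.Helper5.PSLCoset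

section GraphU2
variable {n : ℕ} {F : Type*} [Field F] [Fintype F]

theorem sq_of_order_two {σ : F ≃+* F} (hσ : orderOf σ = 2) : ∀ a, σ (σ a) = a := by
  intro a
  have h2 : σ ^ 2 = 1 := by
    rw [← hσ]
    exact pow_orderOf_eq_one σ
  have := DFunLike.congr_fun h2 a
  rwa [pow_two] at this

theorem ne_one_of_order_two {σ : F ≃+* F} (hσ : orderOf σ = 2) : σ ≠ 1 := by
  intro h1
  rw [h1, orderOf_one] at hσ
  omega

set_option maxHeartbeats 800000 in
/-- a hyperbolic pair and an anisotropic vector orthogonal to it -/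
theorem exists_triple (hn : 3 ≤ n) (h2 : (2 : F) ≠ 0) {σ : F ≃+* F} (hσ : orderOf σ = 2) :
    ∃ u w v : Fin n → F, stdH σ u u = 0 ∧ stdH σ w w = 0 ∧ stdH σ u w = 1 ∧ stdH σ v u = 0 ∧
      stdH σ v w = 0 ∧ stdH σ v v ≠ 0 := by
  have hσ2 := sq_of_order_two hσ
  have hH := isHerm_stdH (n := n) hσ2
  obtain ⟨a, -, ha⟩ := exists_nrm_eq σ 2 hσ (by norm_num) (-1 : F)
    (neg_ne_zero.2 one_ne_zero) (by rw [map_neg, map_one])
  have ha' : a * σ a = -1 := by
    rw [← ha]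
    unfold nrm
    rw [Finset.prod_range_succ, Finset.prod_range_one, pow_zero, pow_one]
    rfl
  obtain ⟨i0, hi0⟩ : ∃ i0 : Fin n, i0 = ⟨0, by omega⟩ := ⟨_, rfl⟩
  obtain ⟨i1, hi1⟩ : ∃ i1 : Fin n, i1 = ⟨1, by omega⟩ := ⟨_, rfl⟩
  obtain ⟨i2, hi2⟩ : ∃ i2 : Fin n, i2 = ⟨2, by omega⟩ := ⟨_, rfl⟩
  have h01 : i0 ≠ i1 := by rw [hi0, hi1]; simp
  have h02 : i0 ≠ i2 := by rw [hi0, hi2]; simp
  have h12 : i1 ≠ i2 := by rw [hi1, hi2]; simp
  obtain ⟨e0, he0⟩ : ∃ e0 : Fin n → F, e0 = Pi.single i0 1 := ⟨_, rfl⟩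
  obtain ⟨e1, he1⟩ : ∃ e1 : Fin n → F, e1 = Pi.single i1 1 := ⟨_, rfl⟩
  obtain ⟨e2, he2⟩ : ∃ e2 : Fin n → F, e2 = Pi.single i2 1 := ⟨_, rfl⟩
  have b00 : stdH σ e0 e0 = 1 := by rw [he0, stdH_basis, if_pos rfl]
  have b11 : stdH σ e1 e1 = 1 := by rw [he1, stdH_basis, if_pos rfl]
  have b22 : stdH σ e2 e2 = 1 := by rw [he2, stdH_basis, if_pos rfl]
  have b01 : stdH σ e0 e1 = 0 := by rw [he0, he1, stdH_basis, if_neg h01]
  have b10 : stdH σ e1 e0 = 0 := by rw [he0, he1, stdH_basis, if_neg h01.symm]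
  have b02 : stdH σ e0 e2 = 0 := by rw [he0, he2, stdH_basis, if_neg h02]
  have b20 : stdH σ e2 e0 = 0 := by rw [he0, he2, stdH_basis, if_neg h02.symm]
  have b12 : stdH σ e1 e2 = 0 := by rw [he1, he2, stdH_basis, if_neg h12]
  have b21 : stdH σ e2 e1 = 0 := by rw [he1, he2, stdH_basis, if_neg h12.symm]
  have hσ2' : σ 2 = 2 := map_ofNat σ 2
  have hσi : σ (2 : F)⁻¹ = 2⁻¹ := by rw [map_inv₀, hσ2']
  refine ⟨e0 + a • e1, (2 : F)⁻¹ • (e0 - a • e1), e2, ?_, ?_, ?_, ?_, ?_, ?_⟩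
  · simp only [hH.add_left, hH.add_right, hH.smul_left, hH.smul_right, b00, b11, b01, b10]
    linear_combination ha'
  · simp only [hH.sub_left, hH.sub_right, hH.smul_left, hH.smul_right, b00, b11, b01, b10, hσi]
    linear_combination (2 : F)⁻¹ * (2 : F)⁻¹ * ha'
  · simp only [hH.add_left, hH.sub_right, hH.smul_left, hH.smul_right, b00, b11, b01, b10, hσi]
    have : (2 : F)⁻¹ * (1 - σ a * 0) + a * ((2 : F)⁻¹ * (0 - σ a * 1))
        = (2 : F)⁻¹ * (1 - a * σ a) := by ring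
    rw [this, ha']
    field_simp
    ring
  · simp only [hH.add_right, hH.smul_right, b20, b21]
    ring
  · simp only [hH.sub_right, hH.smul_right, b20, b21]
    ring
  · rw [b22]
    exact one_ne_zero

/-- the Siegel transformations as matrices of determinant one -/
noncomputable def siegSL (r : ℕ) [Fact r.Prime] [CharP F r] (h2 : (2 : F) ≠ 0) {σ : F ≃+* F}
    (hσ2 : ∀ a, σ (σ a) = a) (e w : Fin n → F) (c : F)
    (h : SiegOK σ (stdH (n := n) σ) e w c) : SpecialLinearGroup (Fin n) F :=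
  ofLinSL (siegE (isHerm_stdH hσ2) hσ2 e w c h)
    (det_eq_one_of_pow_char r _ (siegE_pow_char (isHerm_stdH hσ2) hσ2 h2 r e w c h))

theorem toLin'_siegSL (r : ℕ) [Fact r.Prime] [CharP F r] (h2 : (2 : F) ≠ 0) {σ : F ≃+* F}
    (hσ2 : ∀ a, σ (σ a) = a) (e w : Fin n → F) (c : F)
    (h : SiegOK σ (stdH (n := n) σ) e w c) :
    Matrix.SpecialLinearGroup.toLin' (siegSL r h2 hσ2 e w c h)
      = siegE (isHerm_stdH hσ2) hσ2 e w c h :=
  toLin'_ofLinSL _ _

theorem siegSL_pow (r : ℕ) [Fact r.Prime] [CharP F r] (h2 : (2 : F) ≠ 0) {σ : F ≃+* F}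
    (hσ2 : ∀ a, σ (σ a) = a) (e w : Fin n → F) (c : F)
    (h : SiegOK σ (stdH (n := n) σ) e w c) : (siegSL r h2 hσ2 e w c h) ^ r = 1 := by
  apply Matrix.SpecialLinearGroup.toLin'_injective
  rw [map_pow, toLin'_siegSL, siegE_pow_char _ _ h2, map_one]

/-- the set of Siegel transformations -/
def siegSet (r : ℕ) [Fact r.Prime] [CharP F r] (h2 : (2 : F) ≠ 0) {σ : F ≃+* F}
    (hσ2 : ∀ a, σ (σ a) = a) : Set (SpecialLinearGroup (Fin n) F) :=
  {l | ∃ (e w : Fin n → F) (c : F) (h : SiegOK σ (stdH (n := n) σ) e w c),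
    l = siegSL r h2 hσ2 e w c h}

theorem isomU_of_fix {σ : F ≃+* F} (hσ2 : ∀ a, σ (σ a) = a)
    (s : SpecialLinearGroup (Fin n) F) :
    thetaU σ s = s ↔ ∀ v w, stdH σ (Matrix.SpecialLinearGroup.toLin' s v)
      (Matrix.SpecialLinearGroup.toLin' s w) = stdH σ v w := by
  rw [thetaU_fix_iff hσ2, ← isomU_iff]
  constructor
  · intro h v w
    rw [toLin'_apply_mulVec, toLin'_apply_mulVec]
    exact h v w
  · intro h v w
    rw [← toLin'_apply_mulVec, ← toLin'_apply_mulVec]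
    exact h v w

theorem siegSet_fix (r : ℕ) [Fact r.Prime] [CharP F r] (h2 : (2 : F) ≠ 0) {σ : F ≃+* F}
    (hσ2 : ∀ a, σ (σ a) = a) (l : SpecialLinearGroup (Fin n) F)
    (hl : l ∈ siegSet r h2 hσ2) : thetaU σ l = l := by
  obtain ⟨e, w, c, h, rfl⟩ := hl
  rw [isomU_of_fix hσ2]
  intro v w'
  rw [toLin'_siegSL, siegE_apply, siegE_apply, H_sieg _ h]

set_option maxHeartbeats 800000 in
/-- a group of odd order of fixed matrices normalized by the Siegel transformations is trivial -/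
theorem hnc_unit (r : ℕ) [Fact r.Prime] [CharP F r] (h2 : (2 : F) ≠ 0) (hn : 3 ≤ n)
    {σ : F ≃+* F} (hσ : orderOf σ = 2)
    (H : Subgroup (SpecialLinearGroup (Fin n) F)) (hfix : ∀ h ∈ H, thetaU σ h = h)
    (hodd : Odd (Nat.card H))
    (hnorm : ∀ l ∈ siegSet r h2 (sq_of_order_two hσ), ∀ h ∈ H, l * h * l⁻¹ ∈ H) :
    ∀ h ∈ H, piN h = 1 := by
  classical
  have hσ2 := sq_of_order_two hσ
  have hH := isHerm_stdH (n := n) hσ2
  obtain ⟨u, w, v, hu, hw, huw, hvu, hvw, hvv⟩ := exists_triple hn h2 hσ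
  set D : Subgroup ((Fin n → F) ≃ₗ[F] (Fin n → F)) :=
    H.map (Matrix.SpecialLinearGroup.toLin' : SpecialLinearGroup (Fin n) F →* _) with hD
  have hinj := Matrix.SpecialLinearGroup.toLin'_injective (n := Fin n) (R := F)
  have hDodd : Odd (Nat.card D) := by
    rw [hD, Subgroup.card_map_of_injective hinj]
    exact hodd
  have hall := nc_u hH hσ2 (ne_one_of_order_two hσ) h2
    (fun i : Fin n => (Pi.single i (1 : F) : Fin n → F)) (stdH_basis σ) (stdH_sep σ)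
    hu hw huw hvu hvw hvv D hDodd
    (by
      rintro _ ⟨h, hh, rfl⟩ x y
      exact (isomU_of_fix hσ2 h).1 (hfix h hh) x y)
    (by
      rintro e w' c hOK _ ⟨h, hh, rfl⟩
      have h1 := hnorm (siegSL r h2 hσ2 e w' c hOK) ⟨e, w', c, hOK, rfl⟩ h hh
      refine ⟨_, h1, ?_⟩
      rw [map_mul, map_mul, map_inv, toLin'_siegSL])
  intro h hh
  obtain ⟨κ, hκ⟩ := hall _ ⟨h, hh, rfl⟩
  rw [piN_eq_one_iff, Matrix.SpecialLinearGroup.mem_center_iff]
  have h1 : (h : Matrix (Fin n) (Fin n) F) = Matrix.scalar (Fin n) κ := by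
    ext i j
    have := congrFun (hκ (Pi.single j 1)) i
    rw [toLin'_apply_mulVec, Matrix.mulVec_single_one] at this
    rw [Matrix.scalar_apply, Matrix.diagonal_apply]
    simp only [Matrix.col_apply, Pi.smul_apply, smul_eq_mul, Pi.single_apply] at this
    rw [this]
    by_cases hij : i = j
    · rw [if_pos hij, if_pos hij, mul_one]
    · rw [if_neg hij, if_neg hij, mul_zero]
  refine ⟨κ, ?_, h1.symm⟩
  have hdet := h.2
  rw [h1, Matrix.scalar_apply, Matrix.det_diagonal, Finset.prod_const, Finset.card_univ] at hdet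
  exact hdet

end GraphU2

end Cfsg.Agent.Lib.Helper5.LBal
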