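import Mathlib
import Cfsg.Agent.Lib.Helper5.LBal.GraphU2
import Cfsg.Agent.Lib.Helper5.LBal.SemiComm
import Cfsg.Agent.Lib.Helper5.LBal.Core

set_option autoImplicit false

/-! The standard graph-field automorphism has a centralizer with trivial core. -/

namespace Cfsg.Agent.Lib.Helper5.LBal

open Matrix Module Cfsg.Agent.Lib.Helper5.SLnAut Cfsg.Agent.Lib.Helper5.SLnBN
  Cfsg.Agent.Lib.Helper5.GraphInv Cfsg.Agent.Lib.Helper5.PSLCoset Cfsg.Agent.Lib.Helper5.PSpBal

section GraphU3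
variable {n : ℕ} {F : Type*} [Field F] [Fintype F]

set_option maxHeartbeats 800000 in
/-- an automorphism of semilinear type fixing the Siegel transformations is trivial -/
theorem semi_eq_one_of_fix_sieg (r : ℕ) [Fact r.Prime] [CharP F r] (h2 : (2 : F) ≠ 0)
    (hn : 3 ≤ n) {σ : F ≃+* F} (hσ : orderOf σ = 2)
    (h : GL (Fin n) F) (τ : F ≃+* F)
    (hfix : ∀ l ∈ siegSet (n := n) r h2 (sq_of_order_two hσ), semi h τ (piN l) = piN l) :
    semi h τ = 1 := by
  haveI : Nonempty (Fin n) := ⟨⟨0, by omega⟩⟩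
  have hσ2 := sq_of_order_two hσ
  have hH := isHerm_stdH (n := n) hσ2
  have hnd : ∀ x : Fin n → F, (∀ y, stdH σ x y = 0) → x = 0 :=
    fun x hx => stdH_sep σ x (fun i => hx _)
  obtain ⟨u, w, v, hu, hw, huw, hvu, hvw, hvv⟩ := exists_triple hn h2 hσ
  obtain ⟨t₀, ht₀, ht₀'⟩ := exists_trace_zero hσ2 (ne_one_of_order_two hσ)
  have hcomm : ∀ (e w' : Fin n → F) (c : F) (hOK : SiegOK σ (stdH (n := n) σ) e w' c)
      (x : Fin n → F), vsemi h τ (sieg hH e w' c x) = sieg hH e w' c (vsemi h τ x) := by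
    intro e w' c hOK x
    have h1 := vsemi_comm_of_fix r h τ (siegSL r h2 hσ2 e w' c hOK) (siegSL_pow r h2 hσ2 e w' c hOK)
      (hfix _ ⟨e, w', c, hOK, rfl⟩)
    have h3 : ∀ y, ((siegSL r h2 hσ2 e w' c hOK : SpecialLinearGroup (Fin n) F) :
        Matrix (Fin n) (Fin n) F) *ᵥ y = sieg hH e w' c y := by
      intro y
      rw [← toLin'_apply_mulVec, toLin'_siegSL, siegE_apply]
    have h4 := h1 x
    rw [h3, h3] at h4
    exact h4
  obtain ⟨hτ, κ, hκ⟩ := u_main hH hσ2 h2 ht₀ ht₀' hu hw huw hvu hvw hvv τ (vsemi h τ)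
    (vsemi_add h τ) (vsemi_smul h τ) (vsemi_inj h τ)
    (by
      intro z hz0 hzz
      obtain ⟨x, hx⟩ : ∃ x, stdH σ x z ≠ 0 := by
        by_contra hcon
        push Not at hcon
        exact hz0 (nondeg_right hH hnd z hcon)
      have h1 := hcomm z 0 t₀ (siegOK_tv hH hzz ht₀') x
      rw [sieg_tv, sieg_tv, vsemi_add, vsemi_smul] at h1
      have h3 : τ (t₀ * stdH σ x z) • vsemi h τ z = (t₀ * stdH σ (vsemi h τ x) z) • z :=
        add_left_cancel h1
      have h4 : τ (t₀ * stdH σ x z) ≠ 0 := by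
        intro h0
        exact mul_ne_zero ht₀ hx ((map_eq_zero τ).1 h0)
      refine ⟨(τ (t₀ * stdH σ x z))⁻¹ * (t₀ * stdH σ (vsemi h τ x) z), ?_⟩
      rw [mul_smul, ← h3, smul_smul, inv_mul_cancel₀ h4, one_smul])
  exact semi_eq_one_of_scalar h τ hτ κ hκ

set_option maxHeartbeats 800000 in
/-- an automorphism of odd order fixing the Siegel transformations is trivial -/
theorem hB_unit {p f : ℕ} [Fact p.Prime] (hf : 1 ≤ f) (hF : Fintype.card F = p ^ f)
    (r : ℕ) [Fact r.Prime] [CharP F r] (h2 : (2 : F) ≠ 0)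
    (hn : 3 ≤ n) {σ : F ≃+* F} (hσ : orderOf σ = 2)
    (hx2 : orderOf (semi (1 : GL (Fin n) F) σ * tauBar) = 2)
    (ν : MulAut (ProjectiveSpecialLinearGroup (Fin n) F))
    (hfix : ∀ l ∈ siegSet (n := n) r h2 (sq_of_order_two hσ), ν (piN l) = piN l)
    (hodd : (orderOf ν).Coprime 2) : ν = 1 := by
  have hσ2 := sq_of_order_two hσ
  obtain ⟨h, τ, ε, rfl⟩ := exists_std hf hF (by omega : 2 ≤ n) ν
  rcases zmod2_cases ε with rfl | rfl
  · unfold std at hfix ⊢
    rw [tauPow_zero, mul_one] at hfix ⊢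
    exact semi_eq_one_of_fix_sieg r h2 hn hσ h τ hfix
  · exfalso
    have hx : semi (1 : GL (Fin n) F) σ * tauBar = std 1 σ 1 := by
      unfold std
      rw [tauPow_one]
    obtain ⟨g'', hg''⟩ := std_mul_std h 1 τ σ 1 1
    have h11 : (1 : ZMod 2) + 1 = 0 := by decide
    rw [h11] at hg''
    have hfix' : ∀ l ∈ siegSet (n := n) r h2 hσ2, semi g'' (τ * σ) (piN l) = piN l := by
      intro l hl
      have h3 : std g'' (τ * σ) 0 = semi g'' (τ * σ) := by
        unfold std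
        rw [tauPow_zero, mul_one]
      rw [← h3, ← hg'', MulAut.mul_apply, ← hx, ← quotAut_thetaU, quotAut_pi,
        siegSet_fix r h2 hσ2 l hl]
      exact hfix l hl
    have h4 := semi_eq_one_of_fix_sieg r h2 hn hσ g'' (τ * σ) hfix'
    have h5 : std g'' (τ * σ) 0 = 1 := by
      unfold std
      rw [tauPow_zero, mul_one]
      exact h4
    rw [h5] at hg''
    have h6 : std h τ 1 = (semi (1 : GL (Fin n) F) σ * tauBar)⁻¹ := by
      rw [hx]
      exact eq_inv_of_mul_eq_one_left hg''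
    rw [h6, orderOf_inv, hx2] at hodd
    exact absurd hodd (by decide)

/-- the centralizer of the standard graph-field automorphism has trivial core -/
theorem no_core_graphfield {p f : ℕ} [Fact p.Prime] (hf : 1 ≤ f) (hF : Fintype.card F = p ^ f)
    (r : ℕ) [Fact r.Prime] [CharP F r] (h2 : (2 : F) ≠ 0)
    (hn : 3 ≤ n) {σ : F ≃+* F} (hσ : orderOf σ = 2)
    (hx2 : orderOf (semi (1 : GL (Fin n) F) σ * tauBar) = 2)
    (A : Subgroup (MulAut (ProjectiveSpecialLinearGroup (Fin n) F)))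
    (hinn : ∀ k : ProjectiveSpecialLinearGroup (Fin n) F, MulAut.conj k ∈ A)
    (N : Subgroup (MulAut (ProjectiveSpecialLinearGroup (Fin n) F)))
    (hN : HasCore 2 A (semi (1 : GL (Fin n) F) σ * tauBar) N) : False := by
  haveI : Nontrivial (Fin n) := Fin.nontrivial_iff_two_le.2 (by omega)
  haveI := finite_PSL (ι := Fin n) (F := F)
  have hσ2 := sq_of_order_two hσ
  refine no_core_abstract conj_injective_PSL 2 A hinn (semi (1 : GL (Fin n) F) σ * tauBar)
    (piN '' siegSet (n := n) r h2 hσ2) ?_ ?_ ?_ N hN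
  · rintro _ ⟨l, hl, rfl⟩
    rw [← quotAut_thetaU, quotAut_pi, siegSet_fix r h2 hσ2 l hl]
  · intro D hDfix hDcop hDnorm
    apply hA_of_nc (thetaU σ) (thetaU_invol hσ2)
      (siegSet (n := n) r h2 hσ2) (siegSet_fix r h2 hσ2) (hnc_unit r h2 hn hσ) D
    · intro d hd
      rw [quotAut_thetaU]
      exact hDfix d hd
    · exact hDcop
    · intro l hl d hd
      exact hDnorm _ ⟨l, hl, rfl⟩ d hd
  · intro ν _ hνfix hνodd
    apply hB_unit hf hF r h2 hn hσ hx2 ν _ hνodd
    intro l hl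
    exact hνfix _ ⟨l, hl, rfl⟩

end GraphU3

end Cfsg.Agent.Lib.Helper5.LBal
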