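import Mathlib
import Cfsg.Agent.Lib.Helper5.LBal.Classify
import Cfsg.Agent.Lib.Helper5.LBal.FieldG
import Cfsg.Agent.Lib.Helper5.LBal.GraphO3
import Cfsg.Agent.Lib.Helper5.LBal.GraphSp3
import Cfsg.Agent.Lib.Helper5.LBal.GraphU3

set_option autoImplicit false

/-! Auxiliary statements for the local balance criterion for `PSL_n(F)`. -/

namespace Cfsg.Agent.Lib.Helper5.LBal

open Matrix Cfsg.Agent.Lib.Helper5.SLnAut Cfsg.Agent.Lib.Helper5.SLnBN
  Cfsg.Agent.Lib.Helper5.GraphInv Cfsg.Agent.Lib.Helper5.PSLCoset Cfsg.Agent.Lib.Helper5.PSpBal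

section Main
variable {n : ℕ} {F : Type*} [Field F] [Fintype F]

/-- an automorphism of semilinear type of prime order which is not linear is conjugate to a
standard field automorphism of the same order -/
theorem field_shape (hn : 2 ≤ n) (g : GL (Fin n) F) (σ : F ≃+* F) {p : ℕ} (hp : p.Prime)
    (hord : orderOf (semi g σ) = p) (hσ1 : σ ≠ 1) :
    orderOf σ = p ∧ ∃ h : GL (Fin n) F,
      semi g σ = semi h (1 : F ≃+* F) * semi (1 : GL (Fin n) F) σ * (semi h (1 : F ≃+* F))⁻¹ := by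
  haveI : Nontrivial (Fin n) := Fin.nontrivial_iff_two_le.2 hn
  have hy : (semi g σ) ^ p = 1 := by rw [← hord]; exact pow_orderOf_eq_one _
  have hσp : σ ^ p = 1 := by
    have h1 := hy
    rw [semi_pow, ← semi_one_one] at h1
    exact (semi_eq_semi _ _ _ _ h1).1
  have hσord : orderOf σ = p := by
    have h1 : orderOf σ ∣ p := orderOf_dvd_of_pow_eq_one hσp
    rcases (Nat.dvd_prime hp).1 h1 with h2 | h2
    · exact absurd (orderOf_eq_one_iff.1 h2) hσ1
    · exact h2
  exact ⟨hσord, field_conj hn g σ p hσord hp.pos hy⟩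

theorem piN_transvection_ne_one {a b : Fin n} (hab : a ≠ b) :
    piN (Matrix.SpecialLinearGroup.transvection hab (1 : F)) ≠ 1 := by
  intro h1
  rw [piN_eq_one_iff, Matrix.SpecialLinearGroup.mem_center_iff] at h1
  obtain ⟨z, -, hz⟩ := h1
  have := congrFun (congrFun hz a) b
  rw [Matrix.SpecialLinearGroup.transvection_coe, Matrix.scalar_apply,
    Matrix.diagonal_apply_ne _ hab, Matrix.add_apply, Matrix.one_apply_ne hab,
    Matrix.single_apply_same, zero_add] at this
  exact zero_ne_one this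

/-- every automorphism is of semilinear type, possibly composed with the inverse transpose if
`n ≥ 3` -/
theorem aut_shape {p' f : ℕ} [Fact p'.Prime] (hf : 1 ≤ f) (hF : Fintype.card F = p' ^ f)
    (hn : 2 ≤ n) (β : MulAut (ProjectiveSpecialLinearGroup (Fin n) F)) :
    (∃ (g : GL (Fin n) F) (σ : F ≃+* F), β = semi g σ) ∨
      (3 ≤ n ∧ ∃ (g : GL (Fin n) F) (σ : F ≃+* F), β = semi g σ * tauBar) := by
  by_cases hn2 : n = 2
  · subst hn2
    obtain ⟨g, τ, hν⟩ := Cfsg.Agent.Lib.Helper5.PSL2Aut.exists_semi hf hF β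
    rw [semi_two_eq] at hν
    exact Or.inl ⟨g, τ, hν⟩
  · obtain ⟨g, τ, hν | hν⟩ := exists_semi_tau_all hf hF hn β
    · exact Or.inl ⟨g, τ, hν⟩
    · exact Or.inr ⟨by omega, g, τ, hν⟩

end Main

end Cfsg.Agent.Lib.Helper5.LBal
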